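import Cfsg.Agent.Lib.DerangementSubgroup.Basic

/-!
# Transitive groups in which every element outside a normal subgroup fixes one point
-/

set_option autoImplicit false
set_option linter.unusedSectionVars false

namespace Cfsg.Agent.Lib.DerangedIndex

open MulAction
open scoped Pointwise

variable {G : Type*} [Group G] [Finite G] {X : Type*} [MulAction G X]

theorem relIndex_stabilizer (L : Subgroup G) (x : X) :
    (stabilizer G x).relIndex L = (orbit L x).ncard := by
  rw [Subgroup.relIndex, ← index_stabilizer]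
  congr 1

/-- An invariant set with stabilisers inside `H` has at least `|L : L ∩ H|` times a `Q`-orbit. -/
theorem mul_le_ncard [Finite X] (L H Q : Subgroup G) (s : Set X) (hs : ∀ g ∈ L, ∀ x ∈ s, g • x ∈ s) (x : X)
    (hx : x ∈ s) (hst : ∀ g ∈ L, g • x = x → g ∈ H) (hQL : Q ≤ L) (hQH : Q ≤ H) :
    H.relIndex L * (orbit Q x).ncard ≤ s.ncard := by
  have hsub : orbit L x ⊆ s := by
    rintro _ ⟨g, rfl⟩
    exact hs g g.2 x hx
  refine le_trans ?_ (Set.ncard_le_ncard hsub)
  rw [← relIndex_stabilizer L x, ← relIndex_stabilizer Q x,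
    ← Subgroup.inf_relIndex_right (stabilizer G x) L]
  have hle : stabilizer G x ⊓ L ≤ H ⊓ L := le_inf (fun g hg => hst g hg.2 hg.1) inf_le_right
  rw [← Subgroup.relIndex_mul_relIndex _ _ _ hle (inf_le_right : H ⊓ L ≤ L), Subgroup.inf_relIndex_right H L, mul_comm]
  refine Nat.mul_le_mul_right _ ?_
  have h1 : (stabilizer G x ⊓ L).relIndex Q = (stabilizer G x).relIndex Q := by
    have h2 : stabilizer G x ⊓ L ⊓ Q = stabilizer G x ⊓ Q := by
      rw [inf_assoc, inf_eq_right.2 hQL]
    rw [← Subgroup.inf_relIndex_right, h2, Subgroup.inf_relIndex_right]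
  rw [← h1]
  exact Subgroup.relIndex_le_of_le_right (le_inf hQH hQL) Subgroup.index_ne_zero_of_finite

/-- A subgroup covering the quotient by `D` has the index of `D` as relative index. -/
theorem relIndex_eq_index (D L : Subgroup G) [D.Normal] (h : D ⊔ L = ⊤) : D.relIndex L = D.index := by
  rw [← Subgroup.relIndex_sup_right, sup_comm, h, Subgroup.relIndex_top_right]

variable [Finite X]

/-- An element outside `D` normalising `P ≤ D` and stabilising a `P`-orbit fixes a point of it. -/
theorem exists_fixed_in_orbit (D P : Subgroup G)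
    (hOne : ∀ g : G, g ∉ D → ∀ a b : X, g • a = a → g • b = b → a = b) (hPD : P ≤ D) {g : G}
    (hg : g ∉ D) (hgn : ∀ p ∈ P, g * p * g⁻¹ ∈ P) (x : X) (hgx : g • x ∈ orbit P x) :
    ∃ z ∈ orbit P x, g • z = z := by
  classical
  obtain ⟨a, ha⟩ := hgx
  have ha : (a : G) • x = g • x := ha
  let σ : X → P := fun z => Classical.epsilon fun q : P => (q : G) • x = z
  have hσ : ∀ t : P, (σ ((t : G) • x) : G) • x = (t : G) • x := fun t =>
    Classical.epsilon_spec (p := fun q : P => (q : G) • x = (t : G) • x) ⟨t, rfl⟩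
  let f : P → P := fun t => ⟨(t : G) * (a : G)⁻¹ * (g * (σ ((t : G) • x) : G)⁻¹ * g⁻¹),
    mul_mem (mul_mem t.2 (inv_mem a.2)) (hgn _ (inv_mem (σ ((t : G) • x)).2))⟩
  have hfix : ∀ t : P, ((f t : G) * g) • (t : G) • x = (t : G) • x := by
    intro t
    have h1 : (f t : G) * g = (t : G) * ((a : G)⁻¹ * g) * (σ ((t : G) • x) : G)⁻¹ := by
      simp only [f]; group
    rw [h1]
    rw [mul_smul, inv_smul_eq_iff.2 (hσ t).symm, mul_smul, mul_smul, ← ha, inv_smul_smul]
  have hout : ∀ t : P, (f t : G) * g ∉ D := fun t h => hg ((D.mul_mem_cancel_left (hPD (f t).2)).1 h)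
  have hinj : Function.Injective f := by
    intro t t' htt
    have h1 := hfix t
    rw [htt] at h1
    have h2 := hOne _ (hout t') _ _ h1 (hfix t')
    have h3 := congrArg Subtype.val htt
    simp only [f, h2, mul_left_inj] at h3
    exact Subtype.ext h3
  obtain ⟨t, ht⟩ := Finite.surjective_of_injective hinj 1
  refine ⟨(t : G) • x, ⟨t, rfl⟩, ?_⟩
  have := hfix t
  rwa [ht, OneMemClass.coe_one, one_mul] at this

/-- The basic bound from an intransitive normalised subgroup with orbits at least as long as that of `α`. -/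
theorem bound_of_orbit (D R L : Subgroup G) [D.Normal]
    (hOne : ∀ g : G, g ∉ D → ∀ a b : X, g • a = a → g • b = b → a = b) (hRD : R ≤ D) (α : X)
    (hLα : ∀ g ∈ L, g • α = α) (hLn : L ≤ Subgroup.normalizer (R : Set G)) (hsup : D ⊔ L = ⊤)
    (hmove : ∃ p ∈ R, p • α ≠ α) (hne : ∃ x, x ∉ orbit R α)
    (hmin : ∀ x : X, (orbit R α).ncard ≤ (orbit R x).ncard) :
    (D.index + 1) ^ 2 ≤ Nat.card X := by
  obtain ⟨x, hx⟩ := hne
  have hLorb : ∀ g ∈ L, ∀ z ∈ orbit R α, g • z ∈ orbit R α := by
    rintro g hg _ ⟨p, rfl⟩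
    refine ⟨⟨g * p * g⁻¹, (Subgroup.mem_normalizer_iff.1 (hLn hg) p).1 p.2⟩, ?_⟩
    show (g * (p : G) * g⁻¹) • α = g • (p : G) • α
    rw [mul_smul, mul_smul, inv_smul_eq_iff.2 (hLα g hg).symm]
  set q := (orbit R α).ncard with hq
  -- the orbit of `α`
  have h1 : D.index + 1 ≤ q := by
    obtain ⟨p, hp, hpα⟩ := hmove
    have := mul_le_ncard L D ⊥ (orbit R α \ {α})
      (fun g hg z hz => ⟨hLorb g hg z hz.1, fun h => hz.2 (smul_left_cancel g (h.trans (hLα g hg).symm))⟩)
      (p • α) ⟨⟨⟨p, hp⟩, rfl⟩, hpα⟩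
      (fun g hg h => by_contra fun hgD => hpα (hOne g hgD _ _ h (hLα g hg))) bot_le bot_le
    rw [relIndex_eq_index D L hsup, Set.ncard_diff_singleton_of_mem (mem_orbit_self α)] at this
    have hpos : 0 < (orbit (⊥ : Subgroup G) (p • α)).ncard := (Set.ncard_pos (Set.toFinite _)).2 ⟨_, mem_orbit_self _⟩
    have hq0 : 0 < q := (Set.ncard_pos (Set.toFinite _)).2 ⟨_, mem_orbit_self α⟩
    have h2 := Nat.le_mul_of_pos_right D.index hpos
    omega
  -- the other points
  have h2 : D.index * q ≤ Nat.card X - q := by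
    have hT : R ⊔ L ≤ stabilizer G (orbit R α) := by
      refine sup_le (fun r hr => ?_) fun g hg => ?_
      · exact smul_orbit (⟨r, hr⟩ : R) α
      · refine (Set.eq_of_subset_of_ncard_le (s := g • orbit R α) ?_ ?_)
        · rintro _ ⟨z, hz, rfl⟩; exact hLorb g hg z hz
        · rw [← Set.image_smul, Set.ncard_image_of_injective _ (MulAction.injective g)]
    have hTn : R ⊔ L ≤ Subgroup.normalizer (R : Set G) := sup_le Subgroup.le_normalizer hLn
    have := mul_le_ncard (R ⊔ L) D R (orbit R α)ᶜ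
      (fun g hg z hz h => hz (by
        have := Set.smul_mem_smul_set (a := g⁻¹) h
        rwa [inv_smul_smul, (inv_mem (hT hg) : g⁻¹ ∈ stabilizer G (orbit R α))] at this))
      x hx (fun t ht htx => by
        by_contra htD
        have h3 : t • α ∈ orbit R α := by
          have := Set.smul_mem_smul_set (a := t) (mem_orbit_self (M := R) α)
          rwa [hT ht] at this
        obtain ⟨z, hz, htz⟩ := exists_fixed_in_orbit D R hOne hRD htD
          (fun p hp => (Subgroup.mem_normalizer_iff.1 (hTn ht) p).1 hp) α h3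
        exact hx (hOne t htD _ _ htx htz ▸ hz)) le_sup_left hRD
    rw [relIndex_eq_index D _ (top_le_iff.1 (hsup.ge.trans (sup_le_sup_left le_sup_right _))),
      Set.ncard_compl] at this
    exact le_trans (Nat.mul_le_mul_left _ (hmin x)) this
  have hqn : q ≤ Nat.card X := Set.ncard_le_card _
  calc (D.index + 1) ^ 2 ≤ (D.index + 1) * q := by rw [sq]; exact Nat.mul_le_mul_left _ h1
    _ = D.index * q + q := by ring
    _ ≤ Nat.card X := by omega

/-- If every element outside a proper subgroup acting trivially fixes exactly one point of an invariant set,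
some point of the set is fixed by all. -/
theorem exists_fixed_of_unique {Y : Type*} [Group Y] [Finite Y] [MulAction Y X] (E : Subgroup Y) (hE : E ≠ ⊤)
    (s : Set X) (hs : ∀ y : Y, ∀ x ∈ s, y • x ∈ s)
    (htriv : ∀ e ∈ E, ∀ x ∈ s, e • x = x) (hex : ∀ y : Y, y ∉ E → ∃ x ∈ s, y • x = x)
    (huniq : ∀ y : Y, y ∉ E → ∀ a ∈ s, ∀ b ∈ s, y • a = a → y • b = b → a = b) :
    ∃ x ∈ s, ∀ y : Y, y • x = x := by
  classical
  have := Fintype.ofFinite Y
  have := Fintype.ofFinite X
  let S : X → Finset Y := fun z => Finset.univ.filter fun y => y ∉ E ∧ y • z = z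
  have horb : ∀ x ∈ s, ∀ z ∈ orbit Y x, z ∈ s := by rintro x hx _ ⟨y, rfl⟩; exact hs y x hx
  let U : X → Finset Y := fun x => (orbit Y x).toFinset.biUnion S
  have hSdisj : ∀ {y : Y} {z z' : X}, z ∈ s → z' ∈ s → y ∈ S z → y ∈ S z' → z = z' := by
    intro y z z' hz hz' h h'
    simp only [S, Finset.mem_filter, Finset.mem_univ, true_and] at h h'
    exact huniq y h.1 _ hz _ hz' h.2 h'.2
  have hcardU : ∀ x ∈ s, (∃ y, y ∉ E ∧ y • x = x) → Fintype.card Y ≤ 2 * (U x).card := by
    intro x hxs hxE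
    rw [Finset.card_biUnion fun z hz z' hz' hzz => Finset.disjoint_left.2 fun y h h' =>
      hzz (hSdisj (horb x hxs z (Set.mem_toFinset.1 hz)) (horb x hxs z' (Set.mem_toFinset.1 hz')) h h'),
      ← MulAction.card_orbit_mul_card_stabilizer_eq_card_group Y x, Finset.mul_sum,
      ← Set.toFinset_card, ← smul_eq_mul, ← Finset.sum_const]
    refine Finset.sum_le_sum fun z hz => ?_
    rw [Set.mem_toFinset] at hz
    have hzc : Nat.card (stabilizer Y z) = Nat.card (stabilizer Y x) := by
      have h1 := MulAction.card_orbit_mul_card_stabilizer_eq_card_group Y x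
      have h2 := MulAction.card_orbit_mul_card_stabilizer_eq_card_group Y z
      simp only [← Nat.card_eq_fintype_card] at h1 h2
      have : Nonempty (orbit Y x) := ⟨⟨x, mem_orbit_self x⟩⟩
      rw [orbit_eq_iff.2 hz] at h2
      exact Nat.eq_of_mul_eq_mul_left (Nat.card_pos (α := orbit Y x)) (h2.trans h1.symm)
    have hlt : 2 * Nat.card E ≤ Nat.card (stabilizer Y x) := by
      obtain ⟨y, hy, hyx⟩ := hxE
      have hle : E ≤ stabilizer Y x := fun e he => htriv e he x hxs
      obtain ⟨k, hk⟩ := Subgroup.card_dvd_of_le hle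
      rcases k with _ | _ | k
      · rw [mul_zero] at hk; exact absurd hk Nat.card_pos.ne'
      · exact absurd ((Subgroup.eq_of_le_of_card_ge hle (by rw [hk]; simp)) ▸ (hyx : y ∈ stabilizer Y x)) hy
      · rw [hk, mul_comm]; exact Nat.mul_le_mul_left _ (by omega)
    have hS : (S z).card + Nat.card E = Nat.card (stabilizer Y z) := by
      rw [Nat.card_eq_fintype_card, Nat.card_eq_fintype_card, Fintype.card_subtype, Fintype.card_subtype,
        ← Finset.card_union_of_disjoint]
      · congr 1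
        ext y
        simp only [S, Finset.mem_union, Finset.mem_filter, Finset.mem_univ, true_and, mem_stabilizer_iff]
        by_cases hy : y ∈ E
        · simp [hy, htriv y hy z (horb x hxs z hz)]
        · simp [hy]
      · exact Finset.disjoint_left.2 fun y h h' => by simp_all [S]
    rw [← Nat.card_eq_fintype_card, ← hzc]
    omega
  obtain ⟨y₀, hy₀⟩ : ∃ y, y ∉ E := by
    by_contra h; push Not at h; exact hE (eq_top_iff.2 fun y _ => h y)
  obtain ⟨x₀, hx₀s, hx₀⟩ := hex y₀ hy₀
  have hall : ∀ y : Y, ∃ z ∈ orbit Y x₀, y • z = z := by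
    intro y
    by_cases hy : y ∈ E
    · exact ⟨x₀, mem_orbit_self x₀, htriv y hy x₀ hx₀s⟩
    obtain ⟨x₁, hx₁s, hx₁⟩ := hex y hy
    refine ⟨x₁, ?_, hx₁⟩
    by_contra hne
    have hd : Disjoint (U x₀) (U x₁) := by
      rw [Finset.disjoint_left]
      intro w hw hw'
      simp only [U, Finset.mem_biUnion, Set.mem_toFinset] at hw hw'
      obtain ⟨z, hz, hwz⟩ := hw
      obtain ⟨z', hz', hwz'⟩ := hw'
      rw [← hSdisj (horb x₀ hx₀s z hz) (horb x₁ hx₁s z' hz') hwz hwz'] at hz'
      exact hne (orbit_eq_iff.1 ((orbit_eq_iff.2 hz').symm.trans (orbit_eq_iff.2 hz)))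
    have hsub : U x₀ ∪ U x₁ ⊆ Finset.univ.erase (1 : Y) := by
      intro w hw
      simp only [U, S, Finset.mem_union, Finset.mem_biUnion, Finset.mem_filter] at hw
      refine Finset.mem_erase.2 ⟨fun h => ?_, Finset.mem_univ _⟩
      rcases hw with ⟨_, _, _, h', _⟩ | ⟨_, _, _, h', _⟩ <;> exact h' (h ▸ E.one_mem)
    have hc := Finset.card_le_card hsub
    rw [Finset.card_union_of_disjoint hd, Finset.card_erase_of_mem (Finset.mem_univ _), Finset.card_univ] at hc
    have := hcardU x₀ hx₀s ⟨y₀, hy₀, hx₀⟩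
    have := hcardU x₁ hx₁s ⟨y, hy, hx₁⟩
    have := Fintype.card_pos (α := Y)
    omega
  refine ⟨x₀, hx₀s, fun y => ?_⟩
  by_contra hy
  haveI : Nontrivial (orbit Y x₀) :=
    ⟨⟨⟨x₀, mem_orbit_self x₀⟩, ⟨y • x₀, mem_orbit x₀ y⟩, fun h => hy (congrArg Subtype.val h).symm⟩⟩
  obtain ⟨w, hw⟩ := Primitive62.exists_derangement Y (orbit Y x₀)
  obtain ⟨z, hz, hwz⟩ := hall w
  exact hw ⟨z, hz⟩ (Subtype.ext hwz)

end Cfsg.Agent.Lib.DerangedIndex
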