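import Cfsg.Agent.Lib.DerangedIndex.Orbits

/-!
# The bound for a group with a regular Sylow subgroup and fixed point free Sylow normaliser
-/

set_option autoImplicit false
set_option linter.unusedSectionVars false

namespace Cfsg.Agent.Lib.DerangedIndex

open MulAction Chars
open scoped Pointwise ComplexConjugate

universe u v

theorem exists_of_sum_eq_one {ι : Type*} [Fintype ι] (f : ι → ℕ) (h : ∑ i, f i = 1) :
    ∃ i, f i = 1 ∧ ∀ j, j ≠ i → f j = 0 := by
  classical
  obtain ⟨i, -, hi⟩ := Finset.exists_ne_zero_of_sum_ne_zero (h.symm ▸ one_ne_zero : ∑ i, f i ≠ 0)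
  rw [← Finset.add_sum_erase _ _ (Finset.mem_univ i)] at h
  refine ⟨i, by omega, fun j hj => ?_⟩
  have := Finset.sum_eq_zero_iff.1 (by omega : ∑ x ∈ Finset.univ.erase i, f x = 0) j
    (Finset.mem_erase.2 ⟨hj, Finset.mem_univ _⟩)
  exact this

theorem card_le_of_sum_sq {ι : Type*} [Fintype ι] [DecidableEq ι] (f : ι → ℤ) (h : ∑ i, f i ^ 2 = 2)
    (s : Finset ι) (hs : ∀ i ∈ s, f i ≠ 0) : s.card ≤ 2 := by
  have h1 : (s.card : ℤ) ≤ ∑ i ∈ s, f i ^ 2 := by
    rw [Finset.card_eq_sum_ones, Nat.cast_sum]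
    refine Finset.sum_le_sum fun i hi => ?_
    rw [Nat.cast_one]
    exact pow_two_pos_of_ne_zero (hs i hi)
  have h2 : ∑ i ∈ s, f i ^ 2 ≤ ∑ i, f i ^ 2 :=
    Finset.sum_le_univ_sum_of_nonneg fun i => sq_nonneg _
  omega

/-- A value taken oddly often by the product on `O × O` is a square from `O`. -/
theorem mem_sq_of_odd {A : Type*} [CommMonoid A] [DecidableEq A] (O : Finset A) (ν : A)
    (hodd : ((O ×ˢ O).filter fun q => q.1 * q.2 = ν).card % 2 = 1) : ν ∈ O.image fun a => a * a := by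
  by_contra h
  set s := (O ×ˢ O).filter fun q => q.1 * q.2 = ν with hs
  have hmem : ∀ q, q ∈ s → q.1 ∈ O ∧ q.2 ∈ O ∧ q.1 * q.2 = ν := fun q hq => by
    rw [hs, Finset.mem_filter, Finset.mem_product] at hq
    exact ⟨hq.1.1, hq.1.2, hq.2⟩
  have h1 : ∑ _q ∈ s, (1 : ZMod 2) = 0 := by
    refine Finset.sum_involution (fun q _ => (q.2, q.1)) (fun q _ => by decide) (fun q hq _ e => ?_)
      (fun q hq => ?_) (fun q _ => rfl)
    · have e1 : q.2 = q.1 := congrArg Prod.fst e
      exact h (Finset.mem_image.2 ⟨q.1, (hmem q hq).1, by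
        have := (hmem q hq).2.2; rwa [e1] at this⟩)
    · rw [hs, Finset.mem_filter, Finset.mem_product]
      exact ⟨⟨(hmem q hq).2.1, (hmem q hq).1⟩, by rw [mul_comm]; exact (hmem q hq).2.2⟩
  rw [Finset.sum_const, nsmul_one, ZMod.natCast_eq_zero_iff_even] at h1
  rw [Nat.even_iff] at h1
  omega

variable {K : Type u} [Group K] [Finite K] {Ω : Type v} [MulAction K Ω] [Finite Ω] [FaithfulSMul K Ω]
  {r : ℕ} {α : Ω} {P : Subgroup K}

/-- Seven points: rank three with both suborbits of size three is impossible. -/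
theorem RegSylow.false_of_seven (h : RegSylow r α P) (hn : Nat.card Ω = 7)
    (he : Nat.card (fpPart α P) = 3) (o₁ o₂ : Set Ω) (h₁ : o₁.ncard = 3) (h₂ : o₂.ncard = 3)
    (hinv₁ : ∀ g : K, g • α = α → ∀ x ∈ o₁, g • x ∈ o₁) (hinv₂ : ∀ g : K, g • α = α → ∀ x ∈ o₂, g • x ∈ o₂)
    (hcov : ∀ x, x ≠ α → x ∈ o₁ ∨ x ∈ o₂) : False := by
  classical
  haveI := h.pretransitive
  have hr7 : r = 7 := by
    haveI := Fact.mk h.prime
    obtain ⟨i, hi⟩ := IsPGroup.iff_card.1 h.pgroup
    rw [h.card_eq, hn] at hi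
    have : r ∣ 7 := by
      rw [hi]
      rcases Nat.eq_zero_or_pos i with rfl | hpos
      · simp at hi
      · exact dvd_pow_self r hpos.ne'
    exact ((Nat.dvd_prime (by norm_num : Nat.Prime 7)).1 this).resolve_left h.prime.one_lt.ne'
  subst hr7
  set A := stabilizer K α with hA
  let actOn : (o : Set Ω) → (∀ g : K, g • α = α → ∀ x ∈ o, g • x ∈ o) → A →* Equiv.Perm o := fun o ho =>
    { toFun := fun g => ⟨fun x => ⟨(g : K) • (x : Ω), ho g g.2 x x.2⟩,
        fun x => ⟨(g : K)⁻¹ • (x : Ω), ho _ (inv_mem g.2 : (g : K)⁻¹ ∈ A) x x.2⟩,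
        fun x => Subtype.ext (inv_smul_smul (g : K) (x : Ω)), fun x => Subtype.ext (smul_inv_smul (g : K) (x : Ω))⟩
      map_one' := Equiv.ext fun x => Subtype.ext (one_smul K (x : Ω))
      map_mul' := fun a b => Equiv.ext fun x => Subtype.ext (mul_smul (a : K) (b : K) (x : Ω)) }
  let f : A →* Equiv.Perm o₁ × Equiv.Perm o₂ := (actOn o₁ hinv₁).prod (actOn o₂ hinv₂)
  have hf : Function.Injective f := by
    rw [injective_iff_map_eq_one]
    intro g hg
    refine Subtype.ext (eq_of_smul_eq_smul (α := Ω) fun x => ?_)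
    rw [OneMemClass.coe_one, one_smul]
    by_cases hx : x = α
    · rw [hx]; exact g.2
    · rcases hcov x hx with hx' | hx'
      · exact congrArg Subtype.val (Equiv.congr_fun (congrArg Prod.fst hg) ⟨x, hx'⟩)
      · exact congrArg Subtype.val (Equiv.congr_fun (congrArg Prod.snd hg) ⟨x, hx'⟩)
  have hA36 : Nat.card A ∣ 36 := by
    have := Subgroup.card_dvd_of_injective f hf
    rw [Nat.card_prod, Nat.card_perm, Nat.card_perm, Nat.card_coe_set_eq, Nat.card_coe_set_eq, h₁, h₂] at this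
    exact this
  haveI := Fact.mk h.prime
  have hK : Nat.card K = 7 * Nat.card A := by
    rw [hA, ← hn, ← index_stabilizer_of_transitive K α, Subgroup.index_mul_card]
  obtain ⟨S, hS⟩ := (h.pgroup).exists_le_sylow
  have hSP : (S : Subgroup K) = P := (Subgroup.eq_of_le_of_card_ge hS (h.syl _ S.2)).symm
  set N := Subgroup.normalizer (P : Set K) with hN
  have hNcard : Nat.card N = 21 := by
    have hg : ∀ g : N, ∃ q : P × fpPart α P, (q.1 : K) * q.2 = g := fun g => by
      obtain ⟨p, hp, hq⟩ := h.mem_of_normalizer g.2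
      exact ⟨(⟨p, hp⟩, ⟨_, hq⟩), by simp⟩
    have hbij : Nat.card (P × fpPart α P) = Nat.card N := by
      refine Nat.card_congr (Equiv.ofBijective
        (fun q : P × fpPart α P => (⟨(q.1 : K) * q.2, mul_mem (Subgroup.le_normalizer q.1.2) q.2.2.2⟩ : N))
        ⟨fun a b e => ?_, fun g => (hg g).imp fun q hq => Subtype.ext hq⟩)
      have e' : (a.1 : K) * a.2 = b.1 * b.2 := congrArg Subtype.val e
      have h1 : (a.1 : K) • α = (b.1 : K) • α := by
        have := congrArg (· • α) e'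
        simp only [mul_smul] at this
        rwa [a.2.2.1, b.2.2.1] at this
      have h2 := h.smul_inj a.1.2 b.1.2 h1
      rw [h2] at e'
      exact Prod.ext (Subtype.ext h2) (Subtype.ext (mul_left_cancel e'))
    rw [← hbij, Nat.card_prod, h.card_eq, hn, he]
  have hidx : N.index * 3 = Nat.card A := by
    have := Subgroup.index_mul_card N
    rw [hNcard, hK] at this
    omega
  have hdvd : N.index ∣ 12 := by
    rw [← hidx] at hA36
    exact Nat.dvd_of_mul_dvd_mul_right (by norm_num : 0 < 3) (show N.index * 3 ∣ 12 * 3 from hA36)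
  have hmod : N.index ≡ 1 [MOD 7] := by
    have h1 := card_sylow_modEq_one 7 K
    have e1 : Subgroup.normalizer (S : Set K) = N := by rw [hN, ← hSP]; rfl
    rwa [Sylow.card_eq_index_normalizer S, e1] at h1
  have hle := Nat.le_of_dvd (by norm_num) hdvd
  have hone : N.index = 1 := by
    have key : ∀ d ≤ 12, d ∣ 12 → d % 7 = 1 % 7 → d = 1 := by decide
    exact key _ hle hdvd hmod
  exact h.notNormal (Subgroup.normalizer_eq_top_iff.1 (Subgroup.index_eq_one.1 hone))

/-- The bound. -/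
theorem RegSylow.bound (h : RegSylow r α P) (m : ℕ) (hm : 2 ≤ m) (hn : 4 ≤ Nat.card Ω)
    (hsub : ∀ x : Ω, x ≠ α → ∃ T : Finset (Set Ω), m ≤ T.card ∧ ∀ o ∈ T, ∃ y, y ≠ α ∧
      o = orbit (stabilizer K α) y ∧ o.ncard = (orbit (stabilizer K α) x).ncard) :
    (m + 1) ^ 2 ≤ Nat.card Ω := by
  classical
  haveI := h.pretransitive
  haveI : Nonempty Ω := ⟨α⟩
  haveI : IsMulCommutative P := ⟨⟨fun a b => Subtype.ext (h.comm a a.2 b b.2)⟩⟩
  haveI := Fintype.ofFinite K
  haveI := Fintype.ofFinite Ω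
  haveI := Fintype.ofFinite P
  set n := Nat.card Ω with hndef
  set π := permChar (G := K) Ω with hπ
  have hπc : IsCharacter K π := isCharacter_permChar Ω
  choose k hk using fun ψ : IrrCharacter K => isCharacter_classInner_nat hπc (irr_isCharacter ψ)
  have hπexp : π = ∑ ψ : IrrCharacter K, (k ψ : ℂ) • (ψ : K → ℂ) := by
    conv_lhs => rw [isCharacter_eq_sum_classInner hπc]
    simp only [hk]
  -- the restriction of `π` is regular
  have hk1 : ∀ l : P →* ℂˣ, ∑ ψ, k ψ * mult P ψ l = 1 := by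
    intro l
    have h1 : multInner P π l = 1 := by
      have hval : ∀ p : P, π p = if p = 1 then (n : ℂ) else 0 := by
        intro p
        rw [hπ]; unfold permChar
        split_ifs with hp
        · subst hp
          rw [Nat.card_congr ((Equiv.setCongr (show fixedBy Ω ((1 : P) : K) = Set.univ by
            rw [OneMemClass.coe_one, fixedBy_one_eq_univ])).trans (Equiv.Set.univ Ω))]
        · rw [Nat.cast_eq_zero, Nat.card_eq_zero]
          refine Or.inl ⟨fun ⟨x, hx⟩ => hp ?_⟩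
          obtain ⟨q, hq, rfl⟩ := h.reg x
          refine Subtype.ext (h.smul_inj p.2 (one_mem P) ?_)
          rw [mem_fixedBy] at hx
          show (p : K) • α = (1 : K) • α
          rw [one_smul]
          apply smul_left_cancel q
          rw [← mul_smul, ← h.comm _ p.2 _ hq, mul_smul, hx]
      simp only [multInner, classInner]
      rw [Finset.sum_eq_single (1 : P) (fun p _ hp => by rw [hval, if_neg hp, zero_mul]) (by simp), hval,
        if_pos rfl, map_one, Units.val_one, map_one, mul_one, h.card_eq,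
        inv_mul_cancel₀ (Nat.cast_ne_zero.2 (by omega : n ≠ 0))]
    rw [hπexp, multInner_sum] at h1
    simp only [multInner_smul, multInner_irr] at h1
    exact_mod_cast h1
  have hpick : ∀ l : P →* ℂˣ, ∃ ψ, (k ψ = 1 ∧ mult P ψ l = 1) ∧ ∀ φ, φ ≠ ψ → k φ * mult P φ l = 0 := by
    intro l
    obtain ⟨ψ, h1, h2⟩ := exists_of_sum_eq_one _ (hk1 l)
    exact ⟨ψ, mul_eq_one.1 h1, h2⟩
  have hdeg : ∀ ψ : IrrCharacter K, (ψ : K → ℂ) 1 = ((∑ l, mult P ψ l : ℕ) : ℂ) := by
    intro ψ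
    obtain ⟨d, hd⟩ := isCharacter_exists_degree (irr_isCharacter ψ)
    rw [hd, sum_mult ψ hd]
  have hknz : ∀ ψ, k ψ ≠ 0 → k ψ = 1 := by
    intro ψ hψ
    obtain ⟨l, -, hl⟩ := Finset.exists_ne_zero_of_sum_ne_zero (s := Finset.univ) (f := fun l => mult P ψ l) (by
      intro e
      exact irr_apply_one_ne_zero ψ (by rw [hdeg ψ, e, Nat.cast_zero]))
    obtain ⟨φ, ⟨h1, -⟩, h3⟩ := hpick l
    by_cases e : ψ = φ
    · rw [e, h1]
    · exact absurd (h3 ψ e) (Nat.mul_ne_zero hψ hl)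
  -- the trivial character
  set ι := trivialIrr K with hι
  have hkι : k ι = 1 := by
    have h1 : classInner π (fun _ => 1) = 1 := by
      rw [hπ, classInner_permChar_one, Chars.card_orbits_eq_one Ω, Nat.cast_one]
    have h2 := hk ι
    rw [show ((ι : IrrCharacter K) : K → ℂ) = fun _ => 1 from rfl, h1] at h2
    exact_mod_cast h2.symm
  have hmι : ∀ l : P →* ℂˣ, mult P ι l = if l = 1 then 1 else 0 := by
    intro l
    have h1 : ((mult P ι l : ℕ) : ℂ) = if l = 1 then 1 else 0 := by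
      rw [← multInner_irr, multInner]
      refine Eq.trans ?_ ((classInner_lin (1 : P →* ℂˣ) l).trans (if_congr eq_comm rfl rfl))
      congr 1
    split_ifs at h1 ⊢ <;> exact_mod_cast h1
  set Cst : Finset (IrrCharacter K) := (Finset.univ.filter fun ψ => k ψ ≠ 0).erase ι with hCst
  have hmemC : ∀ {ψ}, ψ ∈ Cst ↔ ψ ≠ ι ∧ k ψ ≠ 0 := by intro ψ; simp [hCst]
  have hC1 : ∀ χ ∈ Cst, mult P χ 1 = 0 := by
    intro χ hχ
    obtain ⟨φ, ⟨-, -⟩, h3⟩ := hpick 1
    have hφ : φ = ι := by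
      by_contra e
      have := h3 ι (Ne.symm e)
      rw [hkι, hmι, if_pos rfl] at this
      exact one_ne_zero this
    have := h3 χ (hφ.symm ▸ (hmemC.1 hχ).1)
    rwa [hknz χ (hmemC.1 hχ).2, one_mul] at this
  have hC01 : ∀ χ ∈ Cst, ∀ l, mult P χ l ≠ 0 → mult P χ l = 1 ∧ l ≠ 1 ∧ ∀ ψ ∈ Cst, ψ ≠ χ → mult P ψ l = 0 := by
    intro χ hχ l hl
    obtain ⟨φ, ⟨-, h2⟩, h3⟩ := hpick l
    have hφ : φ = χ := by
      by_contra e
      exact Nat.mul_ne_zero (hmemC.1 hχ).2 hl (h3 χ (Ne.symm e))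
    subst hφ
    refine ⟨h2, fun e => hl (e ▸ hC1 φ hχ), fun ψ hψ hne => ?_⟩
    have := h3 ψ hne
    rwa [hknz ψ (hmemC.1 hψ).2, one_mul] at this
  have hCex : ∀ χ ∈ Cst, ∃ l, mult P χ l ≠ 0 := by
    intro χ _
    by_contra hh
    push Not at hh
    exact irr_apply_one_ne_zero χ (by rw [hdeg χ, Finset.sum_eq_zero fun l _ => hh l, Nat.cast_zero])
  have hCof : ∀ l : P →* ℂˣ, l ≠ 1 → ∃ χ ∈ Cst, mult P χ l = 1 := by
    intro l hl
    obtain ⟨φ, ⟨h1, h2⟩, -⟩ := hpick l
    refine ⟨φ, hmemC.2 ⟨fun e => ?_, by omega⟩, h2⟩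
    rw [e, hmι, if_neg hl] at h2
    exact zero_ne_one h2
  -- rank and suborbits
  set Sub : Finset (Set Ω) := (Finset.univ.image fun x : Ω => orbit (stabilizer K α) x).erase {α} with hSub
  have hrank : Cst.card = Sub.card := by
    have hA : Nat.card (Quotient (orbitRel K (Ω × Ω))) = (Finset.univ.image fun x : Ω => orbit (stabilizer K α) x).card := by
      let Φ : Ω → Quotient (orbitRel K (Ω × Ω)) := fun x => Quotient.mk'' (α, x)
      have hsurj : Function.Surjective Φ := by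
        intro q
        induction q using Quotient.inductionOn' with
        | h q =>
          obtain ⟨a, b⟩ := q
          obtain ⟨g, hg⟩ := exists_smul_eq K a α
          exact ⟨g • b, Quotient.sound' ⟨g, Prod.ext hg rfl⟩⟩
      have hker : ∀ x y, Φ x = Φ y ↔ orbit (stabilizer K α) x = orbit (stabilizer K α) y := by
        intro x y
        rw [Quotient.eq'', orbit_eq_iff]
        constructor
        · rintro ⟨g, hg⟩
          exact ⟨⟨g, congrArg Prod.fst hg⟩, congrArg Prod.snd hg⟩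
        · rintro ⟨g, hg⟩
          exact ⟨(g : K), Prod.ext g.2 hg⟩
      rw [← Nat.card_congr (Equiv.ofBijective (Quotient.lift (s := Setoid.ker fun x : Ω => orbit (stabilizer K α) x)
          Φ fun x y e => (hker x y).2 e) ⟨fun a b => Quotient.inductionOn₂ a b fun x y e => Quotient.sound ((hker x y).1 e),
          fun q => by obtain ⟨x, hx⟩ := hsurj q; exact ⟨Quotient.mk _ x, hx⟩⟩),
        Nat.card_congr (Setoid.quotientKerEquivRange _), Nat.card_coe_set_eq, ← Set.ncard_coe_finset]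
      simp
    have h1 := classInner_permChar_self (G := K) Ω
    rw [← hπ, hA, hπexp, classInner_sum_smul_sum_smul] at h1
    simp only [Complex.conj_natCast] at h1
    have h2 : ∑ ψ, k ψ * k ψ = (Finset.univ.image fun x : Ω => orbit (stabilizer K α) x).card := by
      exact_mod_cast h1
    have h3 : ∑ ψ, k ψ * k ψ = (Finset.univ.filter fun ψ => k ψ ≠ 0).card := by
      rw [Finset.card_filter]
      refine Finset.sum_congr rfl fun ψ _ => ?_
      split_ifs with h0
      · rw [hknz ψ h0]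
      · rw [not_not.1 h0]
    rw [hCst, hSub, Finset.card_erase_of_mem (by simp [hkι]), Finset.card_erase_of_mem, ← h3, h2]
    refine Finset.mem_image.2 ⟨α, Finset.mem_univ _, Set.eq_singleton_iff_unique_mem.2 ⟨mem_orbit_self α, ?_⟩⟩
    rintro _ ⟨g, rfl⟩
    exact g.2
  have hTsub : ∀ {o : Set Ω} {y}, y ≠ α → o = orbit (stabilizer K α) y → o ∈ Sub := by
    intro o y hy ho
    subst ho
    refine Finset.mem_erase.2 ⟨fun e => hy ?_, Finset.mem_image.2 ⟨y, Finset.mem_univ _, rfl⟩⟩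
    have := mem_orbit_self (M := stabilizer K α) y
    rwa [e] at this
  obtain ⟨x₀, hx₀⟩ : ∃ x : Ω, x ≠ α := by
    haveI : Nontrivial Ω := Finite.one_lt_card_iff_nontrivial.1 (by omega)
    exact exists_ne α
  obtain ⟨T, hTm, hT⟩ := hsub x₀ hx₀
  have hTS : T ⊆ Sub := fun o ho => by
    obtain ⟨y, hy, ho', -⟩ := hT o ho
    exact hTsub hy ho'
  have hmt : m ≤ Cst.card := hrank ▸ hTm.trans (Finset.card_le_card hTS)
  -- each constituent carries one orbit
  have hinv : ∀ ψ : IrrCharacter K, ∀ l l' : P →* ℂˣ, l' ∈ twistOrbit α l → mult P ψ l' = mult P ψ l := by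
    intro ψ l l' hl'
    obtain ⟨g, rfl⟩ := mem_twistOrbit.1 hl'
    exact mult_twist ψ g l
  have hsep : ∀ {l μ : P →* ℂˣ} {χ χ' : IrrCharacter K}, χ ∈ Cst → χ' ∈ Cst → χ ≠ χ' →
      mult P χ l ≠ 0 → mult P χ' μ ≠ 0 → ∀ ψ, ψ ≠ χ → ψ ≠ χ' → mult P ψ l = mult P ψ μ := by
    intro l μ χ χ' hχ hχ' hne hl hμ ψ h1 h2
    have hL := hC01 χ hχ l hl
    have hM := hC01 χ' hχ' μ hμ
    have hno : μ ∉ twistOrbit α l := fun e => hl (by
      rw [← hinv χ l μ e]
      exact hM.2.2 χ hχ hne)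
    by_contra hd
    have := card_le_of_sum_sq _ (sum_sq_mult_sub h hL.2.1 hM.2.1 hno) {ψ, χ, χ'} (by
      intro φ hφ
      simp only [Finset.mem_insert, Finset.mem_singleton] at hφ
      rcases hφ with rfl | rfl | rfl
      · exact sub_ne_zero.2 (by exact_mod_cast hd)
      · rw [hL.1, hM.2.2 _ hχ hne]; norm_num
      · rw [hM.1, hL.2.2 _ hχ' hne.symm]; norm_num)
    rw [Finset.card_insert_of_notMem (by simp [h1, h2]), Finset.card_pair hne] at this
    omega
  set e := Nat.card (fpPart α P) with hedef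
  have hsupp : ∀ χ ∈ Cst, ∀ l, mult P χ l ≠ 0 → Finset.univ.filter (fun μ => mult P χ μ ≠ 0) = twistOrbit α l := by
    intro χ hχ l hl
    ext μ
    simp only [Finset.mem_filter, Finset.mem_univ, true_and]
    refine ⟨fun hμ => ?_, fun hμ => by rwa [hinv χ l μ hμ]⟩
    by_contra hno
    obtain ⟨χ', hχ', hne⟩ := Finset.exists_mem_ne (by omega : 1 < Cst.card) χ
    obtain ⟨ν, hν⟩ := hCex χ' hχ'
    have h2 := sum_sq_mult_sub h (hC01 χ hχ l hl).2.1 (hC01 χ hχ μ hμ).2.1 hno
    obtain ⟨ψ, -, hψ⟩ := Finset.exists_ne_zero_of_sum_ne_zero (h2.symm ▸ two_ne_zero :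
      ∑ ψ : IrrCharacter K, ((mult P ψ l : ℤ) - (mult P ψ μ : ℤ)) ^ 2 ≠ 0)
    apply hψ
    rw [pow_eq_zero_iff two_ne_zero, sub_eq_zero, Nat.cast_inj]
    by_cases e1 : ψ = χ
    · rw [e1, (hC01 χ hχ l hl).1, (hC01 χ hχ μ hμ).1]
    by_cases e2 : ψ = χ'
    · rw [e2, (hC01 χ hχ l hl).2.2 χ' hχ' hne, (hC01 χ hχ μ hμ).2.2 χ' hχ' hne]
    rw [hsep hχ hχ' hne.symm hl hν ψ e1 e2, hsep hχ hχ' hne.symm hμ hν ψ e1 e2]
  have hconst : ∀ ψ, k ψ = 0 → ∀ l μ : P →* ℂˣ, l ≠ 1 → μ ≠ 1 → mult P ψ l = mult P ψ μ := by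
    intro ψ hψ l μ hl hμ
    obtain ⟨χ, hχ, hχl⟩ := hCof l hl
    obtain ⟨χ', hχ', hχμ⟩ := hCof μ hμ
    by_cases e1 : χ = χ'
    · subst e1
      have : μ ∈ twistOrbit α l := by
        rw [← hsupp χ hχ l (by omega)]
        simp only [Finset.mem_filter, Finset.mem_univ, true_and]; omega
      exact (hinv ψ l μ this).symm
    · exact hsep hχ hχ' e1 (by omega) (by omega) ψ (fun e2 => (hmemC.1 hχ).2 (e2 ▸ hψ))
        (fun e2 => (hmemC.1 hχ').2 (e2 ▸ hψ))
  have hdegC : ∀ χ ∈ Cst, ∑ l, mult P χ l = e := by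
    intro χ hχ
    obtain ⟨l, hl⟩ := hCex χ hχ
    rw [← Finset.sum_filter_ne_zero, hsupp χ hχ l hl,
      Finset.sum_congr rfl (fun μ hμ => (by
        rw [← hsupp χ hχ l hl, Finset.mem_filter] at hμ
        exact (hC01 χ hχ μ hμ.2).1 : mult P χ μ = 1)),
      Finset.sum_const, smul_eq_mul, mul_one, card_twistOrbit h (hC01 χ hχ l hl).2.1]
  have hcardL : Fintype.card (P →* ℂˣ) = n := by rw [card_linChar, h.card_eq]
  obtain ⟨l₁, hl₁⟩ : ∃ l : P →* ℂˣ, l ≠ 1 := by
    haveI : Nontrivial (P →* ℂˣ) := Fintype.one_lt_card_iff_nontrivial.1 (by omega)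
    exact exists_ne 1
  -- the other irreducible characters involve every non-trivial linear character
  have hpos : ∀ ψ, k ψ = 0 → 1 ≤ mult P ψ l₁ := by
    intro ψ hψ
    by_contra h0
    have h0 : mult P ψ l₁ = 0 := by omega
    have hz : ∀ l : P →* ℂˣ, l ≠ 1 → mult P ψ l = 0 := fun l hl => by rw [hconst ψ hψ l l₁ hl hl₁, h0]
    have hP : ∀ p : P, (ψ : K → ℂ) p = (ψ : K → ℂ) 1 := by
      intro p
      rw [hdeg ψ, apply_eq_sum_mult, Nat.cast_sum]
      refine Finset.sum_congr rfl fun l _ => ?_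
      by_cases hl : l = 1
      · subst hl; simp
      · rw [hz l hl]; simp
    obtain ⟨d, ρ, hρ, hρψ⟩ := ψ.2
    have hker : ρ.ker = ⊤ := h.gen _ (MonoidHom.normal_ker _) fun p hp => by
      rw [MonoidHom.mem_ker, rep_eq_one_iff, hρψ]
      exact hP ⟨p, hp⟩
    have hψ1 : ∀ g, (ψ : K → ℂ) g = (ψ : K → ℂ) 1 := fun g => by
      rw [← hρψ, ← rep_eq_one_iff]
      exact MonoidHom.mem_ker.1 (hker ▸ Subgroup.mem_top g)
    have h1 : classInner (ψ : K → ℂ) (ι : K → ℂ) = (ψ : K → ℂ) 1 := by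
      simp only [classInner, hι, trivialIrr_apply, map_one, mul_one, hψ1, Finset.sum_const, Finset.card_univ,
        nsmul_eq_mul, Fintype.card_eq_nat_card]
      rw [← mul_assoc, inv_mul_cancel₀ natCard_ne_zero, one_mul]
    by_cases e1 : ψ = ι
    · rw [e1, hkι] at hψ; exact one_ne_zero hψ
    · rw [classInner_irr_of_ne e1] at h1
      exact irr_apply_one_ne_zero ψ h1.symm
  have hdegO : ∀ ψ, k ψ = 0 → ∑ l, mult P ψ l = mult P ψ 1 + (n - 1) * mult P ψ l₁ := by
    intro ψ hψ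
    rw [← Finset.add_sum_erase _ _ (Finset.mem_univ (1 : P →* ℂˣ)),
      Finset.sum_congr rfl (fun l hl => hconst ψ hψ l l₁ (Finset.mem_erase.1 hl).1 hl₁), Finset.sum_const,
      Finset.card_erase_of_mem (Finset.mem_univ _), Finset.card_univ, hcardL, smul_eq_mul]
  -- `n - 1 = t e`
  set t := Cst.card with htdef
  have hte : n = 1 + t * e := by
    calc n = Fintype.card (P →* ℂˣ) := hcardL.symm
      _ = ∑ l : P →* ℂˣ, ∑ ψ, k ψ * mult P ψ l := by simp [hk1]
      _ = ∑ ψ, k ψ * ∑ l, mult P ψ l := by rw [Finset.sum_comm]; simp [Finset.mul_sum]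
      _ = ∑ ψ ∈ insert ι Cst, k ψ * ∑ l, mult P ψ l := by
          refine (Finset.sum_subset (Finset.subset_univ _) fun ψ _ hψ => ?_).symm
          simp only [Finset.mem_insert, hmemC, not_or, not_and, not_not] at hψ
          rw [hψ.2 hψ.1, zero_mul]
      _ = 1 + t * e := by
          rw [Finset.sum_insert (fun e1 => (hmemC.1 e1).1 rfl), hkι, Finset.sum_congr rfl (fun χ hχ => by
            rw [hknz χ (hmemC.1 hχ).2, hdegC χ hχ, one_mul] : ∀ χ ∈ Cst, k χ * ∑ l, mult P χ l = e),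
            Finset.sum_const, smul_eq_mul]
          simp [hmι, htdef]
  have he2 : 2 ≤ e := by
    have : 1 < Nat.card (fpPart α P) := (fpPart α P).one_lt_card_iff_ne_bot.2 h.stab_normalizer_ne_bot
    exact this
  obtain ⟨χ, hχ⟩ : Cst.Nonempty := Finset.card_pos.1 (by omega)
  obtain ⟨l₀, hl₀⟩ := hCex χ hχ
  set O := twistOrbit α l₀ with hO
  have hOcard : O.card = e := card_twistOrbit h (hC01 χ hχ l₀ hl₀).2.1
  have hmO : ∀ l, (mult P χ l : ℂ) = if l ∈ O then 1 else 0 := by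
    intro l
    rw [hO, ← hsupp χ hχ l₀ hl₀]
    by_cases hl : mult P χ l = 0
    · simp [hl]
    · simp [hl, (hC01 χ hχ l hl).1]
  have hχexp : ∀ p : P, (χ : K → ℂ) p = ∑ l : P →* ℂˣ, (if l ∈ O then (1 : ℂ) else 0) * (l p : ℂ) := fun p => by
    rw [apply_eq_sum_mult]; simp only [hmO]
  -- decompositions of products
  have hdec : ∀ Φ : K → ℂ, IsCharacter K Φ → ∃ c : IrrCharacter K → ℕ,
      (∀ ψ : IrrCharacter K, classInner Φ (ψ : K → ℂ) = (c ψ : ℂ)) ∧
      (∀ l, multInner P Φ l = ((∑ ψ, c ψ * mult P ψ l : ℕ) : ℂ)) ∧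
      Φ 1 = ((∑ ψ, c ψ * ∑ l, mult P ψ l : ℕ) : ℂ) ∧ classInner Φ Φ = ((∑ ψ, c ψ * c ψ : ℕ) : ℂ) := by
    intro Φ hΦ
    choose c hc using fun ψ : IrrCharacter K => isCharacter_classInner_nat hΦ (irr_isCharacter ψ)
    have hexp := isCharacter_eq_sum_classInner hΦ
    simp only [hc] at hexp
    refine ⟨c, hc, fun l => ?_, ?_, ?_⟩
    · rw [hexp, multInner_sum]
      simp only [multInner_smul, multInner_irr]
      push_cast; rfl
    · rw [hexp]
      simp only [Finset.sum_apply, Pi.smul_apply, smul_eq_mul, hdeg]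
      push_cast; rfl
    · rw [hexp, classInner_sum_smul_sum_smul]
      simp only [Complex.conj_natCast]
      push_cast; rfl
  set χb : K → ℂ := fun g => conj ((χ : K → ℂ) g) with hχb
  have hΦc : IsCharacter K ((χ : K → ℂ) * χb) := isCharacter_mul (irr_isCharacter χ) (isCharacter_star (irr_isCharacter χ))
  obtain ⟨c, hc, hcm, hcd, hcn⟩ := hdec _ hΦc
  have hc1 : c ι = 1 := by
    have h1 := hc ι
    have h2 : classInner ((χ : K → ℂ) * χb) (ι : K → ℂ) = classInner (χ : K → ℂ) (χ : K → ℂ) := by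
      simp only [classInner, hι, trivialIrr_apply, map_one, mul_one, Pi.mul_apply, hχb]
    rw [h2, classInner_irr_self] at h1
    exact_mod_cast h1.symm
  have hm1 : ∑ ψ, c ψ * mult P ψ 1 = e := by
    have h1 : multInner P ((χ : K → ℂ) * χb) 1 = (e : ℂ) := by
      rw [multInner_mul (χ : K → ℂ) χb _ _ hχexp (conj_apply_eq_sum _ _ hχexp) 1]
      have : ∀ l : P →* ℂˣ, (∑ l' : P →* ℂˣ, if l * l' = 1 then (if l ∈ O then (1 : ℂ) else 0) *
          conj (if l'⁻¹ ∈ O then (1 : ℂ) else 0) else 0) = if l ∈ O then 1 else 0 := by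
        intro l
        refine (Finset.sum_eq_single l⁻¹ (fun l' _ hl' => if_neg fun e1 => hl' (eq_inv_of_mul_eq_one_right e1))
          (by simp)).trans ?_
        rw [if_pos (mul_inv_cancel l), show (l⁻¹ : P →* ℂˣ)⁻¹ = l from inv_inv l]
        by_cases hl : l ∈ O <;> simp [hl]
      rw [Finset.sum_congr rfl (fun l _ => this l), Finset.sum_boole, Finset.filter_mem_eq_inter,
        Finset.univ_inter, hOcard]
    rw [hcm 1] at h1
    exact_mod_cast h1
  have hd1 : ∑ ψ, c ψ * ∑ l, mult P ψ l = e * e := by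
    have h1 : ((χ : K → ℂ) * χb) 1 = ((e * e : ℕ) : ℂ) := by
      rw [Pi.mul_apply, hχb]
      simp only [hdeg χ, hdegC χ hχ]
      simp
    rw [hcd] at h1
    exact_mod_cast h1
  set Oth := Finset.univ.filter fun ψ : IrrCharacter K => k ψ = 0 with hOth
  have hsplit : ∀ f : IrrCharacter K → ℕ, ∑ ψ, f ψ = f ι + ∑ ψ ∈ Cst, f ψ + ∑ ψ ∈ Oth, f ψ := by
    intro f
    have h1 : insert ι Cst = Finset.univ.filter fun ψ => ¬ k ψ = 0 := by
      ext ψ
      simp only [Finset.mem_insert, hmemC, Finset.mem_filter, Finset.mem_univ, true_and]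
      by_cases e1 : ψ = ι <;> simp [e1, hkι]
    rw [← Finset.sum_filter_add_sum_filter_not Finset.univ (fun ψ => k ψ = 0), ← h1,
      Finset.sum_insert (fun e1 => (hmemC.1 e1).1 rfl), hOth]
    ring
  rw [hsplit, hc1, hmι, if_pos rfl, Finset.sum_eq_zero (fun ψ hψ => by rw [hC1 ψ hψ, mul_zero] : ∀ ψ ∈ Cst,
    c ψ * mult P ψ 1 = 0)] at hm1
  rw [hsplit, hc1, Finset.sum_congr rfl (fun ψ hψ => by rw [hdegC ψ hψ] : ∀ ψ ∈ Cst,
    c ψ * ∑ l, mult P ψ l = c ψ * e), ← Finset.sum_mul,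
    Finset.sum_congr rfl (fun ψ hψ => by rw [hdegO ψ (Finset.mem_filter.1 hψ).2, mul_add] : ∀ ψ ∈ Oth,
    c ψ * ∑ l, mult P ψ l = c ψ * mult P ψ 1 + c ψ * ((n - 1) * mult P ψ l₁)), Finset.sum_add_distrib] at hd1
  simp only [hmι, Finset.sum_ite_eq', Finset.mem_univ, if_true, mul_one, one_mul] at hd1
  set u := ∑ ψ ∈ Oth, c ψ * mult P ψ l₁ with hu
  rw [show ∑ ψ ∈ Oth, c ψ * ((n - 1) * mult P ψ l₁) = (n - 1) * u by
    rw [hu, Finset.mul_sum]; exact Finset.sum_congr rfl fun ψ _ => by ring] at hd1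
  have hu1 : 1 ≤ u := by
    by_contra h0
    have h0 : u = 0 := by omega
    rw [hu, Finset.sum_eq_zero_iff] at h0
    have : ∑ ψ ∈ Oth, c ψ * mult P ψ 1 = 0 := Finset.sum_eq_zero fun ψ hψ => by
      have h1 := hpos ψ (Finset.mem_filter.1 hψ).2
      rw [(Nat.mul_eq_zero.1 (h0 ψ hψ)).resolve_right (by omega), zero_mul]
    omega
  -- suppose the bound fails
  by_contra hb
  set s := ∑ ψ ∈ Cst, c ψ with hs
  have hsum : s * e + (n - 1) * u + e = e * e := by omega
  have hn1 : n - 1 = t * e := by omega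
  rw [hn1] at hsum
  have hlin : s + t * u + 1 = e := by
    refine Nat.eq_of_mul_eq_mul_right (show 0 < e by omega) ?_
    rw [← hsum]; ring
  have htle : t + 1 ≤ e := by
    have := Nat.le_mul_of_pos_right t hu1
    omega
  have hlt : t * e + 1 < (m + 1) ^ 2 := by omega
  have ht : t = m := by
    by_contra hne
    have h1 : (m + 1) * (t + 1) ≤ t * e := by
      calc (m + 1) * (t + 1) ≤ t * (t + 1) := Nat.mul_le_mul_right _ (by omega)
        _ ≤ t * e := Nat.mul_le_mul_left _ htle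
    have h2 : (m + 1) * (m + 2) ≤ (m + 1) * (t + 1) := Nat.mul_le_mul_left _ (by omega)
    nlinarith
  have hem : e = m + 1 := by
    by_contra hne
    have h1 : m * (m + 2) ≤ t * e := by rw [ht]; exact Nat.mul_le_mul_left _ (by omega)
    nlinarith
  have hu' : u = 1 := by
    by_contra hne
    have : t * 2 ≤ t * u := Nat.mul_le_mul_left _ (by omega)
    omega
  have hs0 : s = 0 := by rw [hu', mul_one] at hlin; omega
  -- `χ χ̄` has norm two
  have hnorm : ∑ ψ, c ψ * c ψ = 2 := by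
    obtain ⟨ψ₀, hψ₀, hψ₀'⟩ := exists_of_sum_eq_one (fun ψ : {ψ // ψ ∈ Oth} => c ψ * mult P (ψ : IrrCharacter K) l₁)
      (by rw [Finset.univ_eq_attach, Finset.sum_attach Oth (fun ψ => c ψ * mult P ψ l₁)]; exact hu')
    have hOthsum : ∑ ψ ∈ Oth, c ψ * c ψ = 1 := by
      rw [Finset.sum_eq_single (ψ₀ : IrrCharacter K), (mul_eq_one.1 hψ₀).1, mul_one]
      · intro ψ hψ hne
        have h1 : c ψ * mult P ψ l₁ = 0 := hψ₀' ⟨ψ, hψ⟩ fun e1 => hne (congrArg Subtype.val e1)
        have h2 := hpos ψ (Finset.mem_filter.1 hψ).2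
        rw [(Nat.mul_eq_zero.1 h1).resolve_right (by omega), mul_zero]
      · exact fun e1 => absurd ψ₀.2 e1
    rw [hsplit, hc1, hOthsum, Finset.sum_eq_zero fun ψ hψ => by
      rw [hs, Finset.sum_eq_zero_iff] at hs0
      rw [hs0 ψ hψ, mul_zero]]
    rfl
  -- the square of `χ`
  obtain ⟨d, hd, hdm, hdd, hdn⟩ := hdec _ (isCharacter_mul (irr_isCharacter χ) (irr_isCharacter χ))
  have hdnorm : ∑ ψ, d ψ * d ψ = 2 := by
    have h1 : classInner ((χ : K → ℂ) * (χ : K → ℂ)) ((χ : K → ℂ) * (χ : K → ℂ)) =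
        classInner ((χ : K → ℂ) * χb) ((χ : K → ℂ) * χb) := by
      simp only [classInner, Pi.mul_apply, hχb, map_mul, Complex.conj_conj]
      congr 1
      exact Finset.sum_congr rfl fun g _ => by ring
    rw [hdn, hcn, hnorm] at h1
    exact_mod_cast h1
  have hdν : ∀ ν : P →* ℂˣ, ∑ ψ, d ψ * mult P ψ ν = ((O ×ˢ O).filter fun q => q.1 * q.2 = ν).card := by
    intro ν
    have h1 := hdm ν
    rw [multInner_mul (χ : K → ℂ) (χ : K → ℂ) _ _ hχexp hχexp ν] at h1
    have h2 : (∑ l : P →* ℂˣ, ∑ l' : P →* ℂˣ, if l * l' = ν then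
        (if l ∈ O then (1 : ℂ) else 0) * (if l' ∈ O then (1 : ℂ) else 0) else 0) =
        (((O ×ˢ O).filter fun q => q.1 * q.2 = ν).card : ℂ) := by
      rw [← Fintype.sum_prod_type' (f := fun l l' : P →* ℂˣ => if l * l' = ν then
        (if l ∈ O then (1 : ℂ) else 0) * (if l' ∈ O then (1 : ℂ) else 0) else 0), ← Finset.sum_boole]
      rw [← Finset.sum_subset (Finset.subset_univ (O ×ˢ O))]
      · refine Finset.sum_congr rfl fun q hq => ?_
        rw [Finset.mem_product] at hq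
        simp [hq.1, hq.2]
      · intro q _ hq
        rw [Finset.mem_product, not_and_or] at hq
        rcases hq with hq | hq <;> simp [hq]
    rw [h2] at h1
    exact_mod_cast h1.symm
  have hdd' : ∑ ψ, d ψ * ∑ l, mult P ψ l = e * e := by
    have h1 : ((χ : K → ℂ) * (χ : K → ℂ)) 1 = ((e * e : ℕ) : ℂ) := by
      rw [Pi.mul_apply, hdeg χ, hdegC χ hχ]; simp
    rw [hdd] at h1
    exact_mod_cast h1
  have hd01 : ∀ ψ, d ψ ≤ 1 := by
    intro ψ
    have := Finset.single_le_sum (f := fun ψ => d ψ * d ψ) (fun _ _ => Nat.zero_le _) (Finset.mem_univ ψ)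
    simp only [hdnorm] at this
    by_contra h2
    have h3 : 2 * 2 ≤ d ψ * d ψ := Nat.mul_le_mul (by omega) (by omega)
    omega
  set Z2 := Finset.univ.filter fun ψ => d ψ = 1 with hZ2
  have hZcard : Z2.card = 2 := by
    rw [hZ2, Finset.card_filter, ← hdnorm]
    refine Finset.sum_congr rfl fun ψ _ => ?_
    have := hd01 ψ
    interval_cases hψ : d ψ <;> simp
  obtain ⟨ψa, ψb, hab, hZab⟩ := Finset.card_eq_two.1 hZcard
  have hsum2 : ∀ f : IrrCharacter K → ℕ, ∑ ψ, d ψ * f ψ = f ψa + f ψb := by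
    intro f
    have h1 : ∀ ψ, d ψ * f ψ = if ψ ∈ Z2 then f ψ else 0 := fun ψ => by
      have := hd01 ψ
      rw [hZ2]
      interval_cases hψ : d ψ <;> simp [hψ]
    rw [Finset.sum_congr rfl (fun ψ _ => h1 ψ), Finset.sum_ite_mem, Finset.univ_inter, hZab, Finset.sum_pair hab]
  have hsmall : ∀ ψ, k ψ ≠ 0 → ∑ l, mult P ψ l ≤ e := by
    intro ψ hψ
    by_cases e1 : ψ = ι
    · subst e1; simp [hmι]; omega
    · exact (hdegC ψ (hmemC.2 ⟨e1, hψ⟩)).le
  rw [hsum2] at hdd'
  have he3 : 3 ≤ e := by omega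
  have hne1 : n - 1 = e * (e - 1) := by rw [hn1, ht, hem]; simp [mul_comm]
  have hee : e * e = e * (e - 1) + e := by
    obtain ⟨w, hw⟩ : ∃ w, e = w + 1 := ⟨e - 1, by omega⟩
    rw [hw, Nat.add_sub_cancel]; ring
  have hbig : ∀ ψ, k ψ = 0 → (n - 1) * mult P ψ l₁ ≤ ∑ l, mult P ψ l := fun ψ hψ => by
    rw [hdegO ψ hψ]; omega
  have h3e : 3 * e ≤ e * e := Nat.mul_le_mul_right e he3
  -- exactly one of the two is a further character
  have hcase : ∀ φ φ' : IrrCharacter K, k φ ≠ 0 → k φ' = 0 →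
      (∀ ν, mult P φ ν + mult P φ' ν = ((O ×ˢ O).filter fun q => q.1 * q.2 = ν).card) →
      ∑ l, mult P φ l + ∑ l, mult P φ' l = e * e → False := by
    intro φ φ' hφ hφ' hν hdd''
    have h1 := hbig φ' hφ'
    have ha : mult P φ' l₁ = 1 := by
      have := hpos φ' hφ'
      by_contra hne
      have h2 : (n - 1) * 2 ≤ (n - 1) * mult P φ' l₁ := Nat.mul_le_mul_left _ (by omega)
      omega
    have hcov : (Finset.univ.erase (1 : P →* ℂˣ)) ⊆
        (O.image fun a => a * a) ∪ Finset.univ.filter (fun l => mult P φ l ≠ 0) := by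
      intro ν hνm
      rw [Finset.mem_erase] at hνm
      by_cases h0 : mult P φ ν = 0
      · refine Finset.mem_union_left _ (mem_sq_of_odd O ν ?_)
        rw [← hν ν, h0, hconst φ' hφ' ν l₁ hνm.1 hl₁, ha]
      · exact Finset.mem_union_right _ (Finset.mem_filter.2 ⟨Finset.mem_univ _, h0⟩)
    have h2 : (Finset.univ.filter fun l => mult P φ l ≠ 0).card ≤ e := by
      refine le_trans ?_ (hsmall φ hφ)
      rw [Finset.card_filter]
      refine Finset.sum_le_sum fun l _ => ?_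
      split_ifs <;> omega
    have h3 := (Finset.card_le_card hcov).trans (Finset.card_union_le _ _)
    have h4 : (O.image fun a => a * a).card ≤ e := Finset.card_image_le.trans hOcard.le
    rw [Finset.card_erase_of_mem (Finset.mem_univ _), Finset.card_univ, hcardL] at h3
    -- seven points
    have he3' : e = 3 := by
      by_contra hne
      have h5 : e * 3 ≤ e * (e - 1) := Nat.mul_le_mul_left _ (by omega)
      omega
    have hn7 : n = 7 := by rw [he3'] at hne1; omega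
    obtain rfl : m = 2 := by omega
    have hSubT : T = Sub := Finset.eq_of_subset_of_card_le hTS (by omega)
    obtain ⟨o₁, o₂, ho, hT12⟩ := Finset.card_eq_two.1 (show Sub.card = 2 by omega)
    have hmem1 : o₁ ∈ T := by rw [hSubT, hT12]; simp
    have hmem2 : o₂ ∈ T := by rw [hSubT, hT12]; simp
    obtain ⟨y₁, hy₁, ho₁, hs₁⟩ := hT o₁ hmem1
    obtain ⟨y₂, hy₂, ho₂, hs₂⟩ := hT o₂ hmem2
    have hinvo : ∀ {o : Set Ω} {y}, o = orbit (stabilizer K α) y → ∀ g : K, g • α = α → ∀ x ∈ o, g • x ∈ o := by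
      rintro o y rfl g hg x ⟨a, rfl⟩
      exact ⟨⟨g, hg⟩ * a, mul_smul g (a : K) y⟩
    have hcovΩ : ∀ x, x ≠ α → x ∈ o₁ ∨ x ∈ o₂ := by
      intro x hx
      have h5 : orbit (stabilizer K α) x ∈ Sub := hTsub hx rfl
      rw [hT12, Finset.mem_insert, Finset.mem_singleton] at h5
      rcases h5 with h5 | h5
      · exact Or.inl (h5 ▸ mem_orbit_self x)
      · exact Or.inr (h5 ▸ mem_orbit_self x)
    have hdisj : Disjoint o₁ o₂ := by
      rw [Set.disjoint_left]
      intro x hx1 hx2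
      rw [ho₁] at hx1; rw [ho₂] at hx2
      exact ho (ho₁.trans ((orbit_eq_iff.2 hx1).symm.trans ((orbit_eq_iff.2 hx2).trans ho₂.symm)))
    have hα : ∀ {o : Set Ω} {y}, y ≠ α → o = orbit (stabilizer K α) y → α ∉ o := by
      rintro o y hy rfl ⟨g, hg⟩
      exact hy (smul_left_cancel (g : K) ((hg : (g : K) • y = α).trans g.2.symm))
    have hcnt : o₁.ncard + o₂.ncard = 6 := by
      rw [← Set.ncard_union_eq hdisj]
      have h5 : o₁ ∪ o₂ = {α}ᶜ := by
        ext x
        simp only [Set.mem_union, Set.mem_compl_iff, Set.mem_singleton_iff]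
        refine ⟨?_, hcovΩ x⟩
        rintro (hx | hx) rfl
        · exact hα hy₁ ho₁ hx
        · exact hα hy₂ ho₂ hx
      rw [h5, Set.ncard_compl, Set.ncard_singleton, ← hndef, hn7]
    exact h.false_of_seven hn7 he3' o₁ o₂ (by omega) (by omega) (hinvo ho₁) (hinvo ho₂) hcovΩ
  by_cases ka : k ψa = 0 <;> by_cases kb : k ψb = 0
  · have h1 := hbig ψa ka
    have h2 := hbig ψb kb
    have h3 := Nat.le_mul_of_pos_right (n - 1) (hpos ψa ka)
    have h4 := Nat.le_mul_of_pos_right (n - 1) (hpos ψb kb)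
    have h5 : e * 2 ≤ e * (e - 1) := Nat.mul_le_mul_left _ (by omega)
    omega
  · exact hcase ψb ψa kb ka (fun ν => by rw [← hdν ν, hsum2, add_comm]) (by omega)
  · exact hcase ψa ψb ka kb (fun ν => by rw [← hdν ν, hsum2]) hdd'
  · have h1 := hsmall ψa ka
    have h2 := hsmall ψb kb
    omega

end Cfsg.Agent.Lib.DerangedIndex
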