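import Mathlib

/-!
# Fixed subgroups of abelian operator subgroups

Maximal subgroups of an abelian operator group with non-trivial fixed points have independent fixed subgroups.
-/

set_option autoImplicit false

namespace Cfsg.Agent.Lib.DerangedIndex

variable {L V : Type*} [Group L] [CommGroup V] [MulDistribMulAction L V]

variable (V) in
/-- The fixed subgroup of a set of operators. -/
def fixPts (B : Set L) : Subgroup V where
  carrier := {v | ∀ b ∈ B, b • v = v}
  one_mem' b _ := smul_one b
  mul_mem' {v w} hv hw b hb := by rw [smul_mul', hv b hb, hw b hb]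
  inv_mem' {v} hv b hb := by rw [smul_inv', hv b hb]

theorem mem_fixPts {B : Set L} {v : V} : v ∈ fixPts V B ↔ ∀ b ∈ B, b • v = v := Iff.rfl

theorem fixPts_anti {B B' : Set L} (h : B ⊆ B') : fixPts V B' ≤ fixPts V B :=
  fun _ hv b hb => hv b (h hb)

theorem fixPts_conj (g : L) (B : Subgroup L) (v : V) :
    g • v ∈ fixPts V ((B.map (MulAut.conj g).toMonoidHom : Subgroup L) : Set L) ↔ v ∈ fixPts V (B : Set L) := by
  simp only [mem_fixPts, SetLike.mem_coe, Subgroup.mem_map, forall_exists_index, and_imp]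
  constructor
  · intro h b hb
    have := h _ b hb rfl
    simpa [← mul_smul, MulAut.conj_apply] using congrArg (g⁻¹ • ·) this
  · rintro h _ b hb rfl
    simp [MulAut.conj_apply, mul_smul, h b hb]

theorem card_fixPts_conj (g : L) (B : Subgroup L) :
    Nat.card (fixPts V ((B.map (MulAut.conj g).toMonoidHom : Subgroup L) : Set L)) = Nat.card (fixPts V (B : Set L)) :=
  Nat.card_congr ((Equiv.ofBijective (fun v : fixPts V (B : Set L) => (⟨g • v.1, (fixPts_conj g B v.1).2 v.2⟩ :
    fixPts V ((B.map (MulAut.conj g).toMonoidHom : Subgroup L) : Set L)))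
    ⟨fun v w h => Subtype.ext (MulAction.injective g (congrArg Subtype.val h :)), fun w =>
      ⟨⟨g⁻¹ • w.1, (fixPts_conj g B _).1 (by rw [smul_inv_smul]; exact w.2)⟩,
        Subtype.ext (smul_inv_smul g _)⟩⟩).symm)

theorem smul_mem_fixPts_of_commute {B : Set L} {a : L} (h : ∀ b ∈ B, Commute a b) {v : V}
    (hv : v ∈ fixPts V B) : a • v ∈ fixPts V B := by
  intro b hb
  rw [← mul_smul, ← (h b hb).eq, mul_smul, hv b hb]

/-- Independence: inside an abelian group `A` of operators, the fixed subgroups of pairwise distinct subgroups,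
maximal with non-trivial fixed points, form a direct product. -/
theorem prod_card_le [Finite V] (A : Subgroup L) (hA : ∀ a ∈ A, ∀ b ∈ A, Commute a b) (𝔅 : Finset (Subgroup L))
    (hle : ∀ B ∈ 𝔅, B ≤ A)
    (hmax : ∀ B ∈ 𝔅, ∀ B', B' ≤ A → B < B' → fixPts V (B' : Set L) = ⊥)
    (hne : ∀ B ∈ 𝔅, fixPts V (B : Set L) ≠ ⊥) :
    ∏ B ∈ 𝔅, Nat.card (fixPts V (B : Set L)) ≤ Nat.card V := by
  classical
  have hkill : ∀ B ∈ 𝔅, ∀ T : Finset (Subgroup L), T ⊆ 𝔅 → B ∉ T →
      Disjoint (fixPts V (B : Set L)) (⨆ C ∈ T, fixPts V (C : Set L)) := by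
    intro B hB T
    induction T using Finset.induction_on with
    | empty => simp
    | insert C T hCT ih =>
      intro hsub hBT
      rw [Finset.insert_subset_iff] at hsub
      rw [Finset.mem_insert, not_or] at hBT
      have ih' := ih hsub.2 hBT.2
      rw [Subgroup.disjoint_def] at ih' ⊢
      intro v hv hv'
      rw [Finset.iSup_insert, Subgroup.mem_sup] at hv'
      obtain ⟨x, hx, y, hy, hxy⟩ := hv'
      -- some element of `C` outside `B`
      obtain ⟨c, hcC, hcB⟩ : ∃ c ∈ C, c ∉ B := by
        by_contra h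
        push Not at h
        have hlt : C < B := lt_of_le_of_ne h (fun e => hBT.1 e.symm)
        exact hne B hB (hmax C hsub.1 B (hle B hB) hlt)
      have hcA : c ∈ A := hle C hsub.1 hcC
      have hT : ∀ w ∈ ⨆ D ∈ T, fixPts V (D : Set L), c • w ∈ ⨆ D ∈ T, fixPts V (D : Set L) := by
        intro w hw
        have : (⨆ D ∈ T, fixPts V (D : Set L)) ≤
            (⨆ D ∈ T, fixPts V (D : Set L)).comap (MulDistribMulAction.toMonoidHom V c) := by
          refine iSup₂_le fun D hD => fun u hu => ?_
          exact Subgroup.mem_iSup_of_mem D (Subgroup.mem_iSup_of_mem hD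
            (smul_mem_fixPts_of_commute (fun b hb => hA c hcA b (hle D (hsub.2 hD) hb)) hu))
        exact this hw
      have h1 : c • v * v⁻¹ = c • y * y⁻¹ := by
        rw [← hxy, smul_mul', hx c hcC, mul_inv, mul_mul_mul_comm, mul_inv_cancel, one_mul]
      have h2 : c • v * v⁻¹ = 1 := ih'
        (mul_mem (smul_mem_fixPts_of_commute (fun b hb => hA c hcA b (hle B hB hb)) hv) (inv_mem hv))
        (by rw [h1]; exact mul_mem (hT y hy) (inv_mem hy))
      rw [mul_inv_eq_one] at h2
      -- `v` is fixed by more than `B`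
      have hlt : B < B ⊔ Subgroup.zpowers c :=
        lt_of_le_of_ne le_sup_left fun e => hcB (by rw [e]; exact Subgroup.mem_sup_right (Subgroup.mem_zpowers c))
      have hbig := hmax B hB _ (sup_le (hle B hB) (Subgroup.zpowers_le.2 hcA)) hlt
      have hvfix : v ∈ fixPts V ((B ⊔ Subgroup.zpowers c : Subgroup L) : Set L) := by
        intro b hb
        have hst : B ⊔ Subgroup.zpowers c ≤ MulAction.stabilizer L v :=
          sup_le (fun b hb => hv b hb) (Subgroup.zpowers_le.2 h2)
        exact hst hb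
      rwa [hbig, Subgroup.mem_bot] at hvfix
  have hcard : ∀ T : Finset (Subgroup L), T ⊆ 𝔅 → ∏ B ∈ T, Nat.card (fixPts V (B : Set L)) ≤
      Nat.card (⨆ C ∈ T, fixPts V (C : Set L) : Subgroup V) := by
    intro T
    induction T using Finset.induction_on with
    | empty => simp
    | insert C T hCT ih =>
      intro hsub
      rw [Finset.insert_subset_iff] at hsub
      rw [Finset.prod_insert hCT, Finset.iSup_insert]
      refine le_trans (Nat.mul_le_mul_left _ (ih hsub.2)) ?_
      rw [← Nat.card_prod]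
      refine Nat.card_le_card_of_injective (fun q => (⟨(q.1 : V) * q.2,
        mul_mem (Subgroup.mem_sup_left q.1.2) (Subgroup.mem_sup_right q.2.2)⟩ : ↥(fixPts V (C : Set L) ⊔
          ⨆ D ∈ T, fixPts V (D : Set L)))) fun p q h => ?_
      exact Subgroup.mul_injective_of_disjoint (hkill C hsub.1 T hsub.2 hCT) (congrArg Subtype.val h)
  refine le_trans (hcard 𝔅 subset_rfl) ?_
  exact Subgroup.card_le_card_group _

/-- `∏` over conjugates: `k` conjugates give a `k`-th power. -/
theorem pow_card_le [Finite V] (A : Subgroup L) (hA : ∀ a ∈ A, ∀ b ∈ A, Commute a b) (B : Subgroup L)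
    (hB : fixPts V (B : Set L) ≠ ⊥) (hmaxB : ∀ B', B' ≤ A → B < B' → fixPts V (B' : Set L) = ⊥)
    (g : Finset L) (hg : ∀ x ∈ g, A.map (MulAut.conj x).toMonoidHom = A) (hBA : B ≤ A)
    (hinj : Set.InjOn (fun x : L => B.map (MulAut.conj x).toMonoidHom) g) :
    Nat.card (fixPts V (B : Set L)) ^ g.card ≤ Nat.card V := by
  classical
  have hle := prod_card_le A hA (g.image fun x : L => B.map (MulAut.conj x).toMonoidHom)
    (fun C hC => ?_) (fun C hC => ?_) (fun C hC => ?_) (V := V)
  · rw [Finset.prod_image hinj] at hle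
    simp only [card_fixPts_conj, Finset.prod_const] at hle
    exact hle
  all_goals obtain ⟨x, hx, rfl⟩ := Finset.mem_image.1 hC
  · exact (Subgroup.map_mono hBA).trans (hg x hx).le
  · intro B' hB' hlt
    obtain ⟨B'', rfl⟩ : ∃ B'' : Subgroup L, B' = B''.map (MulAut.conj x).toMonoidHom :=
      ⟨B'.comap (MulAut.conj x).toMonoidHom,
        (Subgroup.map_comap_eq_self_of_surjective (MulAut.conj x).surjective B').symm⟩
    have hinjx : Function.Injective (MulAut.conj x).toMonoidHom := (MulAut.conj x).injective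
    rw [← hg x hx, Subgroup.map_le_map_iff_of_injective hinjx] at hB'
    rw [Subgroup.map_lt_map_iff_of_injective hinjx] at hlt
    rw [Subgroup.eq_bot_iff_forall]
    intro v hv
    have h1 : x⁻¹ • v ∈ fixPts V (B'' : Set L) := (fixPts_conj x B'' _).1 (by rwa [smul_inv_smul])
    rw [hmaxB B'' hB' hlt, Subgroup.mem_bot, smul_eq_iff_eq_inv_smul, inv_inv, smul_one] at h1
    exact h1
  · intro h
    apply hB
    rw [Subgroup.eq_bot_iff_forall] at h ⊢
    intro v hv
    have := h _ ((fixPts_conj x B v).2 hv)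
    rwa [smul_eq_iff_eq_inv_smul, smul_one] at this

theorem smul_pow_eq_of_fixed {a : L} {v : V} (h : a • v = v) (j : ℕ) : a ^ j • v = v := by
  induction j with
  | zero => rw [pow_zero, one_smul]
  | succ j ih => rw [pow_succ, mul_smul, h, ih]

variable {s : ℕ}

/-- An elementary abelian group of order `s²` is not fixed point free on a group without `s`-torsion. -/
theorem exists_fixed_of_pair (hs : s.Prime) (hexp : ∀ v : V, v ^ s = 1 → v = 1) {x z : L}
    (hxz : Commute x z) (hx : x ^ s = 1) (hz : z ^ s = 1) (hzfix : ∀ w : V, z • w = w → w = 1)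
    (W : Subgroup V) (hWx : ∀ w ∈ W, x • w ∈ W) (hWz : ∀ w ∈ W, z • w ∈ W) {v : V} (hvW : v ∈ W)
    (hv : v ≠ 1) : ∃ (i : ℕ) (w : V), w ∈ W ∧ w ≠ 1 ∧ (x * z ^ i) • w = w := by
  classical
  by_contra hcon
  push Not at hcon
  have hWpow : ∀ y : L, (∀ w ∈ W, y • w ∈ W) → ∀ j : ℕ, ∀ w ∈ W, y ^ j • w ∈ W := by
    intro y hy j
    induction j with
    | zero => intro w hw; rwa [pow_zero, one_smul]
    | succ j ih => intro w hw; rw [pow_succ, mul_smul]; exact ih _ (hy w hw)
  have hfix : ∀ y : L, y ^ s = 1 → ∀ w : V,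
      y • ∏ j ∈ Finset.range s, (y ^ j) • w = ∏ j ∈ Finset.range s, (y ^ j) • w := fun y hy w => by
    rw [Finset.smul_prod']
    simp only [← mul_smul, ← pow_succ']
    have h := Finset.prod_range_succ' (fun j => (y ^ j) • w) s
    rw [Finset.prod_range_succ, hy, one_smul, pow_zero, one_smul] at h
    exact (mul_right_cancel h).symm
  -- the product over the lines
  have h1 : ∏ i ∈ Finset.range s, ∏ j ∈ Finset.range s, ((x * z ^ i) ^ j) • v = 1 := by
    refine Finset.prod_eq_one fun i _ => ?_
    by_contra hne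
    refine hcon i _ ?_ hne (hfix _ ?_ v)
    · exact W.prod_mem fun j _ => hWpow _ (fun w hw => by
        rw [mul_smul]; exact hWx _ (hWpow z hWz i w hw)) j v hvW
    · rw [(hxz.pow_right i).mul_pow, hx, one_mul, ← pow_mul, mul_comm, pow_mul, hz, one_pow]
  rw [Finset.prod_comm] at h1
  have h2 : ∀ j ∈ Finset.range s, j ≠ 0 → ∏ i ∈ Finset.range s, ((x * z ^ i) ^ j) • v = 1 := by
    intro j hj hj0
    have : ∏ i ∈ Finset.range s, ((x * z ^ i) ^ j) • v = x ^ j • ∏ i ∈ Finset.range s, ((z ^ j) ^ i) • v := by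
      rw [Finset.smul_prod']
      refine Finset.prod_congr rfl fun i _ => ?_
      rw [(hxz.pow_right i).mul_pow, mul_smul, ← pow_mul, ← pow_mul, mul_comm i j]
    rw [this]
    have hw := hfix (z ^ j) (by rw [← pow_mul, mul_comm, pow_mul, hz, one_pow]) v
    have hcop : Nat.Coprime j s :=
      ((hs.coprime_iff_not_dvd).2 fun h => hj0 (Nat.eq_zero_of_dvd_of_lt h (Finset.mem_range.1 hj))).symm
    obtain ⟨m, -, hm⟩ := Nat.exists_mul_mod_eq_one_of_coprime hcop hs.one_lt
    have hz' : z = (z ^ j) ^ m := by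
      rw [← pow_mul, ← Nat.mod_add_div (j * m) s, hm, pow_add, pow_one, pow_mul, hz, one_pow, mul_one]
    have h3 := smul_pow_eq_of_fixed hw m
    rw [← hz'] at h3
    rw [hzfix _ h3, smul_one]
  rw [Finset.prod_eq_single 0 (fun j hj hj0 => h2 j hj hj0) (by simp [hs.pos])] at h1
  simp only [pow_zero, one_smul, Finset.prod_const, Finset.card_range] at h1
  exact hv (hexp v h1)

end Cfsg.Agent.Lib.DerangedIndex
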