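import Cfsg.Agent.Lib.DerangedIndex.Tools
import Cfsg.Agent.Lib.Puig.Basic

/-!
# The linear case: `H` has an element with non-trivial fixed points
-/

set_option autoImplicit false
set_option linter.unusedSectionVars false

namespace Cfsg.Agent.Lib.DerangedIndex

open MulAction
open scoped commutatorElement

variable {L V : Type*} [Group L] [Finite L] [CommGroup V] [Finite V] [MulDistribMulAction L V]
  [FaithfulSMul L V]

/-- A normal `s`-subgroup `S` of operators inside `H` with its subgroup `Z = Ω₁(Z(S))` of order `s`, fixed point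
free. -/
structure Setup (s : ℕ) (H S Z : Subgroup L) (V : Type*) [CommGroup V] [MulDistribMulAction L V] : Prop where
  prime : s.Prime
  pgroup : IsPGroup s S
  le : S ≤ H
  normalS : S.Normal
  normalZ : Z.Normal
  zle : Z ≤ S
  cen : ∀ a ∈ Z, ∀ y ∈ S, a * y = y * a
  gen : ∀ a ∈ Z, a ≠ 1 → Subgroup.zpowers a = Z
  zfix : ∀ a ∈ Z, a ≠ 1 → ∀ w : V, a • w = w → w = 1
  zexp : ∀ a ∈ Z, a ^ s = 1
  zmax : ∀ a ∈ S, a ^ s = 1 → (∀ y ∈ S, a * y = y * a) → a ∈ Z
  fpf : ∀ g : L, g ∉ H → ∀ v : V, g • v = v → v = 1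
  irr : ∀ W : Subgroup V, (∀ g : L, ∀ w ∈ W, g • w ∈ W) → W = ⊥ ∨ W = ⊤
  exp : ∀ v : V, v ^ s = 1 → v = 1
  exZ : ∃ z ∈ Z, z ≠ 1
  exd : ∃ d ∈ S, d ≠ 1 ∧ ∃ v : V, v ≠ 1 ∧ d • v = v

namespace Setup

variable {s : ℕ} {H S Z : Subgroup L}

theorem notMem_of_fix (h : Setup s H S Z V) {x : L} (hx : x ≠ 1) {v : V} (hv : v ≠ 1) (hxv : x • v = v) :
    x ∉ Z :=
  fun hZ => hv (h.zfix x hZ hx v hxv)

/-- An operator conjugate to `ω x` for a non-trivial `ω ∈ Z` has small fixed subgroup. -/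
theorem pow_le (h : Setup s H S Z V) {x y ω : L} (hxS : x ∈ S) (hyS : y ∈ S) (hxs : x ^ s = 1) (hx1 : x ≠ 1)
    (hω : ω ∈ Z) (hω1 : ω ≠ 1) (hy : y * x * y⁻¹ = ω * x) {v : V} (hv : v ≠ 1) (hxv : x • v = v) :
    Nat.card (fixPts V {x}) ^ s ≤ Nat.card V := by
  classical
  have hxZ := h.notMem_of_fix hx1 hv hxv
  have hconj : ∀ i : ℕ, y ^ i * x * (y ^ i)⁻¹ = ω ^ i * x := by
    intro i
    induction i with
    | zero => simp
    | succ i ih =>
      calc y ^ (i + 1) * x * (y ^ (i + 1))⁻¹ = y * (y ^ i * x * (y ^ i)⁻¹) * y⁻¹ := by rw [pow_succ']; group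
        _ = y * ω ^ i * x * y⁻¹ := by rw [ih]; group
        _ = ω ^ i * (y * x * y⁻¹) := by
            rw [← h.cen _ (pow_mem hω i) y hyS]; group
        _ = ω ^ (i + 1) * x := by rw [hy, pow_succ]; group
  have hu : ∀ i : ℕ, (ω ^ i * x) • (y ^ i • v) = y ^ i • v := by
    intro i
    rw [← hconj i, mul_smul, mul_smul, inv_smul_smul, hxv]
  have hv' : ∀ i : ℕ, y ^ i • v ≠ 1 := fun i e => hv (smul_left_cancel _ (e.trans (smul_one (y ^ i)).symm))
  have hU : ∀ (i : ℕ) (a : L), a ∈ Subgroup.zpowers (ω ^ i * x) → a ∈ Z → a = 1 := by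
    intro i a ha haZ
    by_contra ha1
    refine hv' i (h.zfix a haZ ha1 _ ?_)
    have h1 : Subgroup.zpowers (ω ^ i * x) ≤ stabilizer L (y ^ i • v) := Subgroup.zpowers_le.2 (hu i)
    exact h1 ha
  set A := Subgroup.zpowers x ⊔ Z with hA
  have hAmem : ∀ a ∈ A, ∃ k : ℤ, ∃ q ∈ Z, x ^ k * q = a := by
    intro a ha
    haveI := h.normalZ
    obtain ⟨_, ⟨k, rfl⟩, q, hq, rfl⟩ := Subgroup.mem_sup_of_normal_right.1 ha
    exact ⟨k, q, hq, rfl⟩
  have hAc : ∀ a ∈ A, ∀ b ∈ A, Commute a b := by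
    intro a ha b hb
    obtain ⟨k, q, hq, rfl⟩ := hAmem a ha
    obtain ⟨l, r, hr, rfl⟩ := hAmem b hb
    have h1 : ∀ (j : ℤ) (q : L), q ∈ Z → Commute (x ^ j) q := fun j q hq =>
      (h.cen q hq _ (zpow_mem hxS j)).symm
    exact Commute.mul_left (Commute.mul_right (Commute.zpow_zpow_self x k l) (h1 k r hr))
      (Commute.mul_right (h1 l q hq).symm (h.cen q hq r (h.zle hr)))
  have hmemA : ∀ i : ℕ, ω ^ i * x ∈ A := fun i =>
    mul_mem (Subgroup.mem_sup_right (pow_mem hω i)) (Subgroup.mem_sup_left (Subgroup.mem_zpowers x))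
  haveI := Fact.mk h.prime
  have hωord : orderOf ω = s := orderOf_eq_prime (h.zexp ω hω) hω1
  have hinj : Set.InjOn (fun i => Subgroup.zpowers (ω ^ i * x)) (Finset.range s : Set ℕ) := by
    intro i hi j hj hij
    simp only [Finset.coe_range, Set.mem_Iio] at hi hj
    have h1 : ω ^ i * x ∈ Subgroup.zpowers (ω ^ j * x) := by
      rw [← show Subgroup.zpowers (ω ^ i * x) = Subgroup.zpowers (ω ^ j * x) from hij]
      exact Subgroup.mem_zpowers _
    have h2 := hU j (ω ^ i * (ω ^ j)⁻¹) (by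
      rw [show ω ^ i * (ω ^ j)⁻¹ = (ω ^ i * x) * (ω ^ j * x)⁻¹ by group]
      exact mul_mem h1 (inv_mem (Subgroup.mem_zpowers _))) (mul_mem (pow_mem hω i) (inv_mem (pow_mem hω j)))
    exact pow_injOn_Iio_orderOf (hωord.symm ▸ hi) (hωord.symm ▸ hj) (mul_inv_eq_one.1 h2)
  have hcard : ∀ i : ℕ, Nat.card (fixPts V (Subgroup.zpowers (ω ^ i * x) : Set L)) = Nat.card (fixPts V {x}) := by
    intro i
    rw [← hconj i, ← MulAut.conj_apply, ← MulEquiv.coe_toMonoidHom, ← MonoidHom.map_zpowers,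
      card_fixPts_conj, fixPts_zpowers]
  have hprod := prod_card_le (V := V) A (fun a ha b hb => hAc a ha b hb)
    ((Finset.range s).image fun i => Subgroup.zpowers (ω ^ i * x)) (fun C hC => ?_) (fun C hC B' hB' hlt => ?_)
    (fun C hC => ?_)
  · rw [Finset.prod_image hinj] at hprod
    simp only [hcard, Finset.prod_const, Finset.card_range] at hprod
    exact hprod
  all_goals obtain ⟨i, -, rfl⟩ := Finset.mem_image.1 hC
  · exact Subgroup.zpowers_le.2 (hmemA i)
  · obtain ⟨b, hb, hbC⟩ := SetLike.exists_of_lt hlt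
    obtain ⟨k, q, hq, rfl⟩ := hAmem b (hB' hb)
    have hu' : ω ^ i * x ∈ B' := hlt.le (Subgroup.mem_zpowers _)
    set q' := ((ω ^ i * x) ^ k)⁻¹ * (x ^ k * q) with hq'
    have hq'Z : q' ∈ Z := by
      have hcomm : Commute (ω ^ i) x := h.cen _ (pow_mem hω i) x hxS
      rw [hq', hcomm.mul_zpow, mul_inv_rev, mul_assoc,
        ← mul_assoc ((ω ^ i) ^ k)⁻¹ (x ^ k) q,
        h.cen _ (inv_mem (zpow_mem (pow_mem hω i) k)) _ (zpow_mem hxS k), mul_assoc, inv_mul_cancel_left]
      exact mul_mem (inv_mem (zpow_mem (pow_mem hω i) k)) hq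
    have hq'1 : q' ≠ 1 := fun e => hbC (by
      rw [hq', inv_mul_eq_one] at e
      rw [← e]; exact zpow_mem (Subgroup.mem_zpowers _) k)
    have hq'B : q' ∈ B' := mul_mem (inv_mem (zpow_mem hu' k)) hb
    rw [Subgroup.eq_bot_iff_forall]
    intro w hw
    exact h.zfix q' hq'Z hq'1 w (hw q' hq'B)
  · rw [fixPts_zpowers]; exact fixPts_singleton_ne_bot.2 ⟨_, hv' i, hu i⟩

/-- Case I: there is an element of order `s` outside `Z` lying in the second centre over `Z`. -/
theorem bound_caseI (h : Setup s H S Z V) {x₁ : L} (hx₁S : x₁ ∈ S) (hx₁Z : x₁ ∉ Z) (hx₁s : x₁ ^ s = 1)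
    (hx₁T : ∀ y ∈ S, ⁅x₁, y⁆ ∈ Z) : (H.index + 1) ^ 2 ≤ Nat.card V := by
  classical
  have := Fintype.ofFinite L
  have := Fintype.ofFinite V
  haveI := h.normalS
  haveI := h.normalZ
  obtain ⟨z, hz, hz1⟩ := h.exZ
  set B := Subgroup.closure {x | x ∈ S ∧ x ^ s = 1 ∧ ∀ y ∈ S, ⁅x, y⁆ ∈ Z} with hB
  have hBT : ∀ b ∈ B, b ∈ S ∧ ∀ y ∈ S, ⁅b, y⁆ ∈ Z := by
    intro b hb
    induction hb using Subgroup.closure_induction with
    | mem x hx => exact ⟨hx.1, hx.2.2⟩
    | one => exact ⟨S.one_mem, fun y _ => by rw [commutatorElement_one_left]; exact Z.one_mem⟩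
    | mul a b _ _ ha hb =>
      refine ⟨mul_mem ha.1 hb.1, fun y hy => ?_⟩
      rw [show ⁅a * b, y⁆ = a * ⁅b, y⁆ * a⁻¹ * ⁅a, y⁆ by simp only [commutatorElement_def]; group]
      exact mul_mem (h.normalZ.conj_mem _ (hb.2 y hy) a) (ha.2 y hy)
    | inv a _ ha =>
      refine ⟨inv_mem ha.1, fun y hy => ?_⟩
      rw [show ⁅a⁻¹, y⁆ = a⁻¹ * ⁅a, y⁆⁻¹ * a⁻¹⁻¹ by simp only [commutatorElement_def]; group]
      exact h.normalZ.conj_mem _ (inv_mem (ha.2 y hy)) a⁻¹
  have hBS : B ≤ S := fun b hb => (hBT b hb).1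
  haveI hBn : B.Normal := by
    refine ⟨fun b hb g => ?_⟩
    suffices B ≤ B.comap (MulAut.conj g).toMonoidHom from this hb
    rw [hB, Subgroup.closure_le]
    rintro x ⟨hxS, hxs, hxT⟩
    refine Subgroup.subset_closure ⟨h.normalS.conj_mem x hxS g, ?_, fun y hy => ?_⟩
    · show (MulAut.conj g x) ^ s = 1
      rw [← map_pow, hxs, map_one]
    · have h1 : g⁻¹ * y * g ∈ S := by simpa using h.normalS.conj_mem y hy g⁻¹
      rw [show ⁅(MulAut.conj g).toMonoidHom x, y⁆ = g * ⁅x, g⁻¹ * y * g⁆ * g⁻¹ by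
        simp only [commutatorElement_def, MulEquiv.coe_toMonoidHom, MulAut.conj_apply]; group]
      exact h.normalZ.conj_mem _ (hxT _ h1) g
  have hzB : z ∈ B := Subgroup.subset_closure ⟨h.zle hz, h.zexp z hz, fun y hy => by
    rw [commutatorElement_eq_one_iff_mul_comm.2 (h.cen z hz y hy)]; exact Z.one_mem⟩
  have hBp : ∀ b ∈ B, b ^ s ∈ Z := by
    intro b hb
    induction hb using Subgroup.closure_induction with
    | mem x hx => rw [hx.2.1]; exact Z.one_mem
    | one => rw [one_pow]; exact Z.one_mem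
    | mul a b ha hb iha ihb =>
      have key : ∀ k : ℕ, ∃ q ∈ Z, (a * b) ^ k = a ^ k * b ^ k * q := by
        intro k
        induction k with
        | zero => exact ⟨1, Z.one_mem, by simp⟩
        | succ k ih =>
          obtain ⟨q, hq, hk⟩ := ih
          have hc : ⁅b ^ k, a⁆ ∈ Z := (hBT _ (pow_mem hb k)).2 a (hBT a ha).1
          refine ⟨⁅b ^ k, a⁆ * q, mul_mem hc hq, ?_⟩
          have h1 : Commute q (a * b) := h.cen q hq _ (mul_mem (hBT a ha).1 (hBT b hb).1)
          have h2 : Commute ⁅b ^ k, a⁆ (a * b ^ k * b) :=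
            h.cen _ hc _ (mul_mem (mul_mem (hBT a ha).1 (pow_mem (hBT b hb).1 k)) (hBT b hb).1)
          calc (a * b) ^ (k + 1) = a ^ k * b ^ k * (q * (a * b)) := by rw [pow_succ, hk]; group
            _ = a ^ k * b ^ k * ((a * b) * q) := by rw [h1.eq]
            _ = a ^ k * (⁅b ^ k, a⁆ * (a * b ^ k * b)) * q := by rw [commutatorElement_def]; group
            _ = a ^ (k + 1) * b ^ (k + 1) * (⁅b ^ k, a⁆ * q) := by rw [h2.eq, pow_succ, pow_succ]; group
      obtain ⟨q, hq, hk⟩ := key s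
      rw [hk]
      exact mul_mem (mul_mem iha ihb) hq
    | inv a _ iha => rw [inv_pow]; exact inv_mem iha
  by_cases hcentral : ∃ x ∈ B, x ^ s = 1 ∧ x ∉ Z ∧ ∀ y ∈ B, x * y = y * x
  · obtain ⟨x, hxB, hxs, hxZ, hxc⟩ := hcentral
    let A : Subgroup L :=
      { carrier := {a | a ∈ B ∧ a ^ s = 1 ∧ ∀ y ∈ B, a * y = y * a}
        one_mem' := ⟨B.one_mem, one_pow s, fun y _ => by rw [one_mul, mul_one]⟩
        mul_mem' := fun {a b} ha hb => ⟨mul_mem ha.1 hb.1, by
          rw [(show Commute a b from ha.2.2 b hb.1).mul_pow, ha.2.1, hb.2.1, one_mul], fun y hy => by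
          rw [mul_assoc, hb.2.2 y hy, ← mul_assoc, ha.2.2 y hy, mul_assoc]⟩
        inv_mem' := fun {a} ha => ⟨inv_mem ha.1, by rw [inv_pow, ha.2.1, inv_one],
          fun y hy => (Commute.inv_left (ha.2.2 y hy) : Commute a⁻¹ y)⟩ }
    haveI : A.Normal := ⟨fun a ha g => ⟨hBn.conj_mem a ha.1 g, by
      rw [← MulAut.conj_apply, ← map_pow, ha.2.1, map_one], fun y hy => by
      have h1 := ha.2.2 (g⁻¹ * y * g) (by simpa using hBn.conj_mem y hy g⁻¹)
      calc g * a * g⁻¹ * y = g * (a * (g⁻¹ * y * g)) * g⁻¹ := by group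
        _ = y * (g * a * g⁻¹) := by rw [h1]; group⟩⟩
    obtain ⟨d, -, -, v₀, hv₀, -⟩ := h.exd
    exact bound_of_elementary H h.prime h.exp h.fpf h.irr hv₀ A (fun a ha => h.le (hBS ha.1))
      (fun a ha b hb => ha.2.2 b hb.1) (fun a ha => ha.2.1) (z := z) (x := x)
      ⟨hzB, h.zexp z hz, fun y hy => h.cen z hz y (hBS hy)⟩ hz1 ⟨hxB, hxs, hxc⟩
      (fun hh => hxZ (h.gen z hz hz1 ▸ hh))
  push Not at hcentral
  set σs : Finset L := Finset.univ.filter fun x =>
    x ∈ B ∧ x ^ s = 1 ∧ x ∉ Z ∧ ∃ v : V, v ≠ 1 ∧ x • v = v with hσs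
  have hmem : ∀ {x}, x ∈ σs ↔ x ∈ B ∧ x ^ s = 1 ∧ x ∉ Z ∧ ∃ v : V, v ≠ 1 ∧ x • v = v := by
    intro x; simp [hσs]
  have hinv : ∀ g : L, ∀ x ∈ σs, g * x * g⁻¹ ∈ σs := by
    intro g x hx
    obtain ⟨hxB, hxs, hxZ, v, hv, hxv⟩ := hmem.1 hx
    refine hmem.2 ⟨hBn.conj_mem x hxB g, by rw [← MulAut.conj_apply, ← map_pow, hxs, map_one], fun hh => hxZ ?_,
      g • v, fun e => hv (smul_left_cancel g (e.trans (smul_one g).symm)), ?_⟩
    · simpa [mul_assoc] using h.normalZ.conj_mem _ hh g⁻¹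
    · rw [mul_smul, mul_smul, inv_smul_smul, hxv]
  have hzf : ∀ w : V, z • w = w → w = 1 := h.zfix z hz hz1
  have hne : σs.Nonempty := by
    obtain ⟨d, -, -, v₀, hv₀, -⟩ := h.exd
    obtain ⟨i, w, -, hw1, hw⟩ := exists_fixed_of_pair h.prime h.exp (h.cen z hz x₁ hx₁S).symm hx₁s
      (h.zexp z hz) hzf ⊤ (fun _ _ => trivial) (fun _ _ => trivial) (v := v₀) trivial hv₀
    refine ⟨x₁ * z ^ i, hmem.2 ⟨mul_mem (Subgroup.subset_closure ⟨hx₁S, hx₁s, hx₁T⟩) (pow_mem hzB i), ?_,
      fun hh => hx₁Z ?_, w, hw1, hw⟩⟩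
    · rw [(show Commute x₁ z from (h.cen z hz x₁ hx₁S).symm).pow_right i |>.mul_pow, hx₁s, one_mul, ← pow_mul,
        mul_comm, pow_mul, h.zexp z hz, one_pow]
    · have := mul_mem hh (inv_mem (pow_mem hz i))
      rwa [mul_inv_cancel_right] at this
  obtain ⟨x₀, hx₀, hx₀max⟩ := Finset.exists_max_image σs (fun x => Nat.card (fixPts V {x})) hne
  set c := Nat.card (fixPts V {x₀}) with hc
  obtain ⟨hx₀B, hx₀s, hx₀Z, v₁, hv₁, hx₀v⟩ := hmem.1 hx₀
  obtain ⟨y, hyB, hxy⟩ := hcentral x₀ hx₀B hx₀s hx₀Z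
  have hcs : c ^ s ≤ Nat.card V := by
    refine h.pow_le (hBS hx₀B) (hBS hyB) hx₀s (fun e => hx₀Z (e ▸ Z.one_mem))
      ((hBT y hyB).2 x₀ (hBS hx₀B)) ?_ (by rw [commutatorElement_def]; group) hv₁ hx₀v
    exact fun e => hxy (commutatorElement_eq_one_iff_mul_comm.1 e).symm
  have hσB : σs ⊆ Finset.univ.filter (fun x => x ∈ B) := fun x hx =>
    Finset.mem_filter.2 ⟨Finset.mem_univ _, (hmem.1 hx).1⟩
  have hBcard : (Finset.univ.filter fun x : L => x ∈ B).card = Nat.card B := by
    rw [Nat.card_eq_fintype_card, Fintype.card_subtype]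
  -- counting at a point
  have hcount : ∀ v : V, v ≠ 1 →
      H.index * (orbit B v).ncard * (Nat.card (B ⊓ stabilizer L v : Subgroup L) - 1) ≤ σs.card * (c - 1) := by
    intro v hv
    refine le_trans (le_of_eq ?_) (count_le H h.fpf B (hBS.trans h.le) σs hinv c hx₀max hv)
    congr 1
    rw [show σs.filter (fun x => x • v = v) =
        (Finset.univ.filter fun x => x ∈ (B ⊓ stabilizer L v : Subgroup L)).erase 1 from ?_,
      Finset.card_erase_of_mem (by simp), Nat.card_eq_fintype_card, Fintype.card_subtype]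
    ext x
    simp only [Finset.mem_filter, Finset.mem_erase, Finset.mem_univ, true_and, Subgroup.mem_inf,
      mem_stabilizer_iff]
    constructor
    · rintro ⟨hx, hxv⟩
      exact ⟨fun e => (hmem.1 hx).2.2.1 (e ▸ Z.one_mem), (hmem.1 hx).1, hxv⟩
    · rintro ⟨hx1, hxB, hxv⟩
      have hxs : x ^ s = 1 := by
        by_contra hxs
        exact h.notMem_of_fix hxs hv (smul_pow_eq_of_fixed hxv s) (hBp x hxB)
      exact ⟨hmem.2 ⟨hxB, hxs, h.notMem_of_fix hx1 hv hxv, v, hv, hxv⟩, hxv⟩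
  have hc1 : 1 ≤ c := one_le_card_fixPts _
  have hbv : ∀ x ∈ σs, ∀ v : V, x • v = v → s ∣ Nat.card (B ⊓ stabilizer L v : Subgroup L) := by
    intro x hx v hxv
    haveI := Fact.mk h.prime
    rw [← orderOf_eq_prime (hmem.1 hx).2.1 (fun e => (hmem.1 hx).2.2.1 (e ▸ Z.one_mem))]
    exact Subgroup.orderOf_dvd_natCard _ ⟨(hmem.1 hx).1, hxv⟩
  have hBpos := Nat.card_pos (α := B)
  rcases h.prime.eq_two_or_odd with hs2 | hsodd
  · subst hs2
    -- half of the outside of a centraliser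
    set C := σs.filter fun w => w * x₀ = x₀ * w with hC
    set C' := σs.filter fun w => ¬ w * x₀ = x₀ * w with hC'
    set BC := (Finset.univ.filter fun w : L => w ∈ B).filter fun w => w * x₀ = x₀ * w with hBC
    set BC' := (Finset.univ.filter fun w : L => w ∈ B).filter fun w => ¬ w * x₀ = x₀ * w with hBC'
    have hsplit : C.card + C'.card = σs.card := Finset.card_filter_add_card_filter_not _
    have hsplitB : BC.card + BC'.card = Nat.card B := by
      rw [hBC, hBC', Finset.card_filter_add_card_filter_not, hBcard]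
    have hBCle : 2 * BC.card ≤ Nat.card B := by
      have hlt : B ⊓ Subgroup.centralizer {x₀} < B := lt_of_le_of_ne inf_le_left fun e => by
        have : y ∈ B ⊓ Subgroup.centralizer {x₀} := e.symm ▸ hyB
        exact hxy (Subgroup.mem_centralizer_singleton_iff.1 this.2).symm
      refine le_trans (le_of_eq ?_) (two_mul_card_le hlt)
      rw [Nat.card_eq_fintype_card, Fintype.card_subtype, hBC, Finset.filter_filter]
      congr 2
      ext w
      simp [Subgroup.mem_centralizer_singleton_iff]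
    have hC'le : 2 * C'.card ≤ BC'.card := by
      have hsub : C' ⊆ BC' := fun w hw => by
        rw [hC', Finset.mem_filter] at hw
        exact Finset.mem_filter.2 ⟨hσB hw.1, hw.2⟩
      have hsub' : C'.image (x₀ * ·) ⊆ BC' := by
        intro w hw
        obtain ⟨u, hu, rfl⟩ := Finset.mem_image.1 hw
        rw [hC', Finset.mem_filter] at hu
        refine Finset.mem_filter.2 ⟨Finset.mem_filter.2 ⟨Finset.mem_univ _, mul_mem hx₀B (hmem.1 hu.1).1⟩,
          fun e => hu.2 ?_⟩
        rw [mul_assoc] at e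
        exact mul_left_cancel e
      have hdisj : Disjoint C' (C'.image (x₀ * ·)) := by
        rw [Finset.disjoint_left]
        intro w hw hw'
        obtain ⟨u, hu, rfl⟩ := Finset.mem_image.1 hw'
        rw [hC', Finset.mem_filter] at hw hu
        have h1 := (hmem.1 hw.1).2.1
        have h2 := (hmem.1 hu.1).2.1
        rw [pow_two] at h1 h2 hx₀s
        refine hu.2 ?_
        calc u * x₀ = x₀ * x₀ * (u * x₀) * (u * u) := by rw [hx₀s, h2]; group
          _ = x₀ * ((x₀ * u) * (x₀ * u)) * u := by group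
          _ = x₀ * u := by rw [h1, mul_one]
      have := Finset.card_le_card (Finset.union_subset hsub hsub')
      rw [Finset.card_union_of_disjoint hdisj,
        Finset.card_image_of_injective _ (mul_right_injective x₀)] at this
      omega
    have hCle : C.card ≤ BC.card := Finset.card_le_card fun w hw => by
      rw [hC, Finset.mem_filter] at hw
      exact Finset.mem_filter.2 ⟨hσB hw.1, hw.2⟩
    suffices hm : H.index ≤ c - 1 by
      calc (H.index + 1) ^ 2 ≤ c ^ 2 := Nat.pow_le_pow_left (by omega) 2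
        _ ≤ _ := hcs
    by_cases hbig : ∃ x ∈ σs, ∃ v : V, v ≠ 1 ∧ x • v = v ∧ 3 ≤ Nat.card (B ⊓ stabilizer L v : Subgroup L)
    · obtain ⟨x, hx, v, hv, hxv, hb3⟩ := hbig
      have h1 := hcount v hv
      have h2 := card_orbit_mul_card_inf B v
      set o := (orbit B v).ncard
      set b := Nat.card (B ⊓ stabilizer L v : Subgroup L)
      obtain ⟨j, hj⟩ := hbv x hx v hxv
      have hb4 : 3 * b ≤ 4 * (b - 1) := by omega
      have h4 : 4 * σs.card ≤ 3 * Nat.card B := by omega
      refine le_of_mul_le_mul_right ?_ (by positivity : 0 < 3 * Nat.card B)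
      calc H.index * (3 * Nat.card B) = H.index * o * (3 * b) := by rw [← h2]; ring
        _ ≤ H.index * o * (4 * (b - 1)) := Nat.mul_le_mul_left _ hb4
        _ = 4 * (H.index * o * (b - 1)) := by ring
        _ ≤ 4 * (σs.card * (c - 1)) := Nat.mul_le_mul_left _ h1
        _ = (4 * σs.card) * (c - 1) := by ring
        _ ≤ (3 * Nat.card B) * (c - 1) := Nat.mul_le_mul_right _ h4
        _ = (c - 1) * (3 * Nat.card B) := mul_comm _ _
    · push Not at hbig
      have hb2 : Nat.card (B ⊓ stabilizer L v₁ : Subgroup L) = 2 := by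
        have := hbig x₀ hx₀ v₁ hv₁ hx₀v
        obtain ⟨j, hj⟩ := hbv x₀ hx₀ v₁ hx₀v
        have := Nat.card_pos (α := (B ⊓ stabilizer L v₁ : Subgroup L))
        omega
      have hC2 : C ⊆ {x₀, x₀ * z} := by
        intro w hw
        rw [hC, Finset.mem_filter] at hw
        obtain ⟨hwB, hws, hwZ, -⟩ := hmem.1 hw.1
        obtain ⟨i, u, huW, hu1, hu⟩ := exists_fixed_of_pair h.prime h.exp (h.cen z hz w (hBS hwB)).symm hws
          (h.zexp z hz) hzf (fixPts V {x₀})
          (fun a ha => smul_mem_fixPts_of_commute (fun b hb => by rw [Set.mem_singleton_iff] at hb; exact hb ▸ hw.2) ha)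
          (fun a ha => smul_mem_fixPts_of_commute (fun b hb => by
            rw [Set.mem_singleton_iff] at hb; exact hb ▸ (h.cen z hz x₀ (hBS hx₀B))) ha)
          (fun b hb => by rw [Set.mem_singleton_iff] at hb; rw [hb, hx₀v]) hv₁
        have hux : x₀ • u = u := huW x₀ rfl
        have hwi : w * z ^ i = x₀ := by
          by_contra hne'
          have hsub : ({1, x₀, w * z ^ i} : Finset L) ⊆
              Finset.univ.filter (fun a => a ∈ (B ⊓ stabilizer L u : Subgroup L)) := by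
            intro a ha
            simp only [Finset.mem_insert, Finset.mem_singleton] at ha
            refine Finset.mem_filter.2 ⟨Finset.mem_univ _, ?_⟩
            rcases ha with rfl | rfl | rfl
            · exact one_mem _
            · exact ⟨hx₀B, hux⟩
            · exact ⟨mul_mem hwB (pow_mem hzB i), hu⟩
          have hne1 : w * z ^ i ≠ 1 := fun e => hwZ (by
            rw [eq_inv_of_mul_eq_one_left e]; exact inv_mem (pow_mem hz i))
          have h3 := Finset.card_le_card hsub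
          rw [Finset.card_insert_of_notMem, Finset.card_insert_of_notMem, Finset.card_singleton] at h3
          · have := hbig x₀ hx₀ u hu1 hux
            rw [Nat.card_eq_fintype_card, Fintype.card_subtype] at this
            omega
          · simp only [Finset.mem_singleton]; exact fun e => hne' e.symm
          · simp only [Finset.mem_insert, Finset.mem_singleton]
            rintro (e | e)
            · exact hx₀Z (e ▸ Z.one_mem)
            · exact hne1 e.symm
        have hz2 : z * z = 1 := by rw [← pow_two]; exact h.zexp z hz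
        rcases Nat.even_or_odd' i with ⟨j, rfl | rfl⟩
        · rw [pow_mul, h.zexp z hz, one_pow, mul_one] at hwi
          simp [hwi]
        · rw [pow_succ, pow_mul, h.zexp z hz, one_pow, one_mul] at hwi
          simp [← hwi, mul_assoc, hz2]
      have hBC4 : 4 ≤ BC.card := by
        have hsub : ({1, z, x₀, x₀ * z} : Finset L) ⊆ BC := by
          intro a ha
          simp only [Finset.mem_insert, Finset.mem_singleton] at ha
          refine Finset.mem_filter.2 ⟨Finset.mem_filter.2 ⟨Finset.mem_univ _, ?_⟩, ?_⟩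
          · rcases ha with rfl | rfl | rfl | rfl
            exacts [B.one_mem, hzB, hx₀B, mul_mem hx₀B hzB]
          · have hzx := h.cen z hz x₀ (hBS hx₀B)
            rcases ha with rfl | rfl | rfl | rfl
            exacts [by simp, hzx, rfl, by rw [mul_assoc, hzx]]
        have h3 := Finset.card_le_card hsub
        have e1 : x₀ * z ≠ z := fun e => hx₀Z (by rw [mul_eq_right.1 e]; exact Z.one_mem)
        have e2 : x₀ ≠ z := fun e => hx₀Z (e ▸ hz)
        have e3 : x₀ * z ≠ 1 := fun e => hx₀Z (by rw [eq_inv_of_mul_eq_one_left e]; exact inv_mem hz)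
        have e4 : x₀ ≠ 1 := fun e => hx₀Z (e ▸ Z.one_mem)
        rw [Finset.card_insert_of_notMem (by simp [hz1.symm, e4.symm, e3.symm]),
          Finset.card_insert_of_notMem (by simp [e2.symm, e1.symm]),
          Finset.card_insert_of_notMem (by simp [hz1]), Finset.card_singleton] at h3
        omega
      have hC2' : C.card ≤ 2 := (Finset.card_le_card hC2).trans Finset.card_le_two
      have h1 := hcount v₁ hv₁
      have h2 := card_orbit_mul_card_inf B v₁
      rw [hb2] at h1 h2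
      have h4 : 2 * σs.card ≤ Nat.card B := by omega
      refine le_of_mul_le_mul_right ?_ hBpos
      calc H.index * Nat.card B = 2 * (H.index * (orbit B v₁).ncard * (2 - 1)) := by rw [← h2]; ring
        _ ≤ 2 * (σs.card * (c - 1)) := Nat.mul_le_mul_left _ h1
        _ = (2 * σs.card) * (c - 1) := by ring
        _ ≤ Nat.card B * (c - 1) := Nat.mul_le_mul_right _ h4
        _ = (c - 1) * Nat.card B := mul_comm _ _
  · -- odd `s`
    have hs3 : 3 ≤ s := by have := h.prime.two_le; omega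
    have h1 := hcount v₁ hv₁
    have h2 := card_orbit_mul_card_inf B v₁
    set o := (orbit B v₁).ncard
    set b := Nat.card (B ⊓ stabilizer L v₁ : Subgroup L) with hb
    have hb3 : 3 ≤ b := hs3.trans (Nat.le_of_dvd Nat.card_pos (hbv x₀ hx₀ v₁ hx₀v))
    have hσle : σs.card ≤ Nat.card B := hBcard ▸ Finset.card_le_card hσB
    have hm : 2 * H.index ≤ 3 * (c - 1) := by
      refine le_of_mul_le_mul_right ?_ hBpos
      calc 2 * H.index * Nat.card B = H.index * o * (2 * b) := by rw [← h2]; ring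
        _ ≤ H.index * o * (3 * (b - 1)) := Nat.mul_le_mul_left _ (by omega)
        _ = 3 * (H.index * o * (b - 1)) := by ring
        _ ≤ 3 * (σs.card * (c - 1)) := Nat.mul_le_mul_left _ h1
        _ ≤ 3 * (Nat.card B * (c - 1)) := Nat.mul_le_mul_left _ (Nat.mul_le_mul_right _ hσle)
        _ = 3 * (c - 1) * Nat.card B := by ring
    refine bound_of_pow (k := 3) (by norm_num) hc1 hm ?_
    exact le_trans (Nat.pow_le_pow_right hc1 hs3) hcs

end Setup

end Cfsg.Agent.Lib.DerangedIndex
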