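import Cfsg.Agent.Lib.DerangedIndex.Linear

/-!
# The linear case, cyclic self-centralising subgroup; assembly
-/

set_option autoImplicit false
set_option linter.unusedSectionVars false

namespace Cfsg.Agent.Lib.DerangedIndex

open MulAction
open scoped commutatorElement

variable {L V : Type*} [Group L] [Finite L] [CommGroup V] [Finite V] [MulDistribMulAction L V]
  [FaithfulSMul L V]

theorem choose_two_succ (i : ℕ) : Nat.choose (i + 1) 2 = Nat.choose i 2 + i := by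
  rw [Nat.choose_succ_succ', Nat.choose_one_right, add_comm]

namespace Setup

variable {s : ℕ} {H S Z : Subgroup L}

/-- If no element of order `s` outside `Z` is central in `S / Z`, some cyclic subgroup of `S` is normal in `S` and
self-centralising. -/
theorem exists_cyclic (h : Setup s H S Z V) (hII : ∀ x ∈ S, x ^ s = 1 → (∀ y ∈ S, ⁅x, y⁆ ∈ Z) → x ∈ Z) :
    ∃ a : L, a ∈ S ∧ (∀ g ∈ S, g * a * g⁻¹ ∈ Subgroup.zpowers a) ∧
      (∀ g ∈ S, g * a = a * g → g ∈ Subgroup.zpowers a) ∧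
      (∀ b ∈ Subgroup.zpowers a, b ^ s = 1 → b ∈ Z) ∧ ∃ k : ℕ, 2 ≤ k ∧ orderOf a = s ^ k := by
  classical
  haveI := Fact.mk h.prime
  obtain ⟨A', hA'n, hA'c, hA'cen⟩ := Puig.exists_abelian_normal_self_centralizing h.pgroup
  set A := A'.map S.subtype with hA
  have hAS : A ≤ S := Subgroup.map_subtype_le A'
  have hAn : ∀ g ∈ S, ∀ a ∈ A, g * a * g⁻¹ ∈ A := by
    rintro g hg _ ⟨a, ha, rfl⟩
    exact ⟨(⟨g, hg⟩ : S) * a * (⟨g, hg⟩ : S)⁻¹, hA'n.conj_mem a ha _, rfl⟩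
  have hAc : ∀ a ∈ A, ∀ b ∈ A, a * b = b * a := by
    rintro _ ⟨a, ha, rfl⟩ _ ⟨b, hb, rfl⟩
    exact congrArg (fun t : A' => ((t : S) : L)) (mul_comm' (⟨a, ha⟩ : A') ⟨b, hb⟩)
  have hAcen : ∀ g ∈ S, (∀ a ∈ A, g * a = a * g) → g ∈ A := by
    intro g hg hga
    refine ⟨⟨g, hg⟩, ?_, rfl⟩
    rw [← hA'cen]
    refine Subgroup.mem_centralizer_iff.2 fun a ha => Subtype.ext ?_
    exact (hga _ ⟨a, ha, rfl⟩).symm
  -- the `s`-torsion of `A` is `Z`
  have htor : ∀ b ∈ A, b ^ s = 1 → b ∈ Z := by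
    intro b hb hbs
    by_contra hbZ
    haveI : (Z.subgroupOf S).Normal := h.normalZ.comap S.subtype
    let U : Subgroup S :=
      { carrier := {u | u ∈ A' ∧ u ^ s = 1}
        one_mem' := ⟨A'.one_mem, one_pow s⟩
        mul_mem' := fun {u w} hu hw => ⟨mul_mem hu.1 hw.1, by
          have hc : Commute u w := congrArg Subtype.val (mul_comm' (⟨u, hu.1⟩ : A') ⟨w, hw.1⟩)
          rw [hc.mul_pow, hu.2, hw.2, one_mul]⟩
        inv_mem' := fun {u} hu => ⟨inv_mem hu.1, by rw [inv_pow, hu.2, inv_one]⟩ }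
    haveI : U.Normal := ⟨fun u hu g => ⟨hA'n.conj_mem u hu.1 g, by
      rw [← MulAut.conj_apply, ← map_pow, hu.2, map_one]⟩⟩
    set q := QuotientGroup.mk' (Z.subgroupOf S) with hq
    haveI : (U.map q).Normal := Subgroup.Normal.map inferInstance _ (QuotientGroup.mk'_surjective _)
    have hne : U.map q ≠ ⊥ := by
      rw [Ne, Subgroup.map_eq_bot_iff, hq, QuotientGroup.ker_mk']
      intro hle
      obtain ⟨u, hu, rfl⟩ := hb
      exact hbZ (hle (show u ∈ U from ⟨hu, Subtype.ext (by simpa using hbs)⟩))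
    obtain ⟨y, hy, hy1⟩ := Puig.exists_mem_center_of_normal (h.pgroup.to_quotient (Z.subgroupOf S)) _ hne
    obtain ⟨x, ⟨hxA, hxs⟩, rfl⟩ := hy.1
    refine hy1 ((QuotientGroup.eq_one_iff x).2 (hII x x.2 (by simpa using congrArg Subtype.val hxs) fun w hw => ?_))
    have h1 := Subgroup.mem_center_iff.1 hy.2 (q ⟨w, hw⟩)
    have h2 : q ⁅x, (⟨w, hw⟩ : S)⁆ = 1 := by
      rw [map_commutatorElement]; exact commutatorElement_eq_one_iff_mul_comm.2 h1.symm
    exact (QuotientGroup.eq_one_iff (N := Z.subgroupOf S) ⁅x, (⟨w, hw⟩ : S)⁆).1 h2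
  -- cyclic
  obtain ⟨z, hz, hz1⟩ := h.exZ
  have hAp : IsPGroup s A := h.pgroup.to_le hAS
  have hZcard : Nat.card Z = s := by
    rw [← h.gen z hz hz1, Nat.card_zpowers, orderOf_eq_prime (h.zexp z hz) hz1]
  haveI : Fintype A := Fintype.ofFinite A
  letI : CommGroup A := { (inferInstance : Group A) with mul_comm := fun a b => Subtype.ext (hAc a a.2 b b.2) }
  have hbound : ∀ i : ℕ, (Finset.univ.filter fun a : A => a ^ s ^ i = 1).card ≤ s ^ i := by
    intro i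
    induction i with
    | zero =>
      simp only [pow_zero, pow_one]
      exact le_of_eq (Finset.card_eq_one.2 ⟨1, by ext a; simp⟩)
    | succ i ih =>
      have h1 : (Finset.univ.filter fun a : A => a ^ s ^ (i + 1) = 1).card ≤
          s * ((Finset.univ.filter fun a : A => a ^ s ^ (i + 1) = 1).image (· ^ s)).card := by
        refine Finset.card_le_mul_card_image _ s fun b hb => ?_
        obtain ⟨a₀, -, rfl⟩ := Finset.mem_image.1 hb
        have hfib : Nat.card {a : A // a ^ s = a₀ ^ s} ≤ Nat.card Z := by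
          refine Nat.card_le_card_of_injective (fun a => (⟨((a.1 * a₀⁻¹ : A) : L), htor _ (a.1 * a₀⁻¹ : A).2 ?_⟩ : Z))
            fun a b hab => Subtype.ext (mul_right_cancel (Subtype.ext (congrArg Subtype.val hab :) :
              (a.1 * a₀⁻¹ : A) = b.1 * a₀⁻¹))
          rw [← SubmonoidClass.coe_pow, mul_pow, a.2, ← mul_pow, mul_inv_cancel, one_pow]; rfl
        rw [hZcard, Nat.card_eq_fintype_card, Fintype.card_subtype] at hfib
        refine le_trans (Finset.card_le_card fun a ha => ?_) hfib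
        simp only [Finset.mem_filter, Finset.mem_univ, true_and] at ha ⊢
        exact ha.2
      refine h1.trans ?_
      rw [pow_succ']
      refine Nat.mul_le_mul_left _ (le_trans (Finset.card_le_card fun a ha => ?_) ih)
      obtain ⟨b, hb, rfl⟩ := Finset.mem_image.1 ha
      simp only [Finset.mem_filter, Finset.mem_univ, true_and] at hb ⊢
      rw [← pow_mul, hb]
  haveI : IsCyclic A := isCyclic_of_card_pow_eq_one_le fun n hn => by
    obtain ⟨N, hN⟩ := IsPGroup.iff_card.1 hAp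
    obtain ⟨i, -, hi⟩ := (Nat.dvd_prime_pow h.prime).1 (hN ▸ Nat.gcd_dvd_right n (Nat.card A))
    refine le_trans (Finset.card_le_card fun a ha => ?_) ((hbound i).trans ?_)
    · simp only [Finset.mem_filter, Finset.mem_univ, true_and] at ha ⊢
      rw [← hi]; exact pow_gcd_eq_one.2 ⟨ha, hN ▸ (pow_card_eq_one' : a ^ Nat.card A = 1)⟩
    · rw [← hi]; exact Nat.le_of_dvd hn (Nat.gcd_dvd_left _ _)
  obtain ⟨g, hg⟩ := IsCyclic.exists_generator (α := A)
  have hgA : Subgroup.zpowers (g : L) = A := by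
    refine le_antisymm (Subgroup.zpowers_le.2 g.2) fun a ha => ?_
    obtain ⟨k, hk⟩ := hg ⟨a, ha⟩
    exact ⟨k, congrArg Subtype.val hk⟩
  obtain ⟨k, hk⟩ := IsPGroup.iff_card.1 hAp
  rw [← hgA, Nat.card_zpowers] at hk
  refine ⟨g, hAS g.2, fun x hx => by rw [hgA]; exact hAn x hx g g.2, fun x hx hxg => ?_,
    fun b hb hbs => htor b (hgA ▸ hb) hbs, k, ?_, hk⟩
  · rw [hgA]
    refine hAcen x hx fun a ha => ?_
    rw [← hgA] at ha
    obtain ⟨j, rfl⟩ := ha
    exact (Commute.zpow_right hxg j).eq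
  · by_contra hk2
    have hgs : (g : L) ^ s = 1 := orderOf_dvd_iff_pow_eq_one.1 (hk ▸ (pow_dvd_pow s (by omega : k ≤ 1)).trans
      (pow_one s).dvd)
    have hgZ : Subgroup.zpowers (g : L) ≤ Z := Subgroup.zpowers_le.2 (htor g g.2 hgs)
    obtain ⟨d, hd, hd1, v, hv, hdv⟩ := h.exd
    refine h.notMem_of_fix hd1 hv hdv (hgZ ?_)
    rw [hgA]
    refine hAcen d hd fun a ha => ?_
    rw [← hgA] at ha
    exact (h.cen a (hgZ ha) d hd).symm

/-- Case II: no element of order `s` outside `Z` is central in `S / Z`. -/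
theorem bound_caseII (h : Setup s H S Z V) (hII : ∀ x ∈ S, x ^ s = 1 → (∀ y ∈ S, ⁅x, y⁆ ∈ Z) → x ∈ Z) :
    (H.index + 1) ^ 2 ≤ Nat.card V := by
  classical
  have := Fintype.ofFinite L
  haveI := Fact.mk h.prime
  obtain ⟨a, haS, hconj, hcen, htor, k, hk2, hk⟩ := h.exists_cyclic hII
  have haA : a ∈ Subgroup.zpowers a := Subgroup.mem_zpowers a
  have hu : ∀ g ∈ S, ∃ u : ℤ, g * a * g⁻¹ = a ^ u := fun g hg =>
    (hconj g hg).imp fun u hu => hu.symm
  have hzero : ∀ j : ℤ, a ^ j = 1 ↔ ((s : ℤ) ^ k) ∣ j := fun j => by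
    rw [← orderOf_dvd_iff_zpow_eq_one, hk, Nat.cast_pow]
  have hcj : ∀ (g : L) (j : ℤ), g * a ^ j * g⁻¹ = (g * a * g⁻¹) ^ j := fun g j => conj_zpow.symm
  -- an element of order `s` outside `A` does not act trivially modulo `Z`
  have hno : ∀ e ∈ S, e ^ s = 1 → e ∉ Subgroup.zpowers a → e * a * e⁻¹ * a⁻¹ ∈ Z → (s ≠ 2 ∨ 3 ≤ k) → False := by
    intro e he hes heA hw hsk
    refine heA ?_
    suffices e ∈ Z by
      refine hcen e he ?_
      exact h.cen e this a haS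
    refine hII e he hes fun y hy => ?_
    obtain ⟨p, hp⟩ := hu y hy
    obtain ⟨q, hq⟩ := hu e he
    set b := y⁻¹ * e⁻¹ * y * e with hb
    have hye : y * e * a * (y * e)⁻¹ = e * y * a * (e * y)⁻¹ := by
      calc y * e * a * (y * e)⁻¹ = y * (e * a * e⁻¹) * y⁻¹ := by group
        _ = (a ^ p) ^ q := by rw [hq, hcj, hp]
        _ = (a ^ q) ^ p := by rw [← zpow_mul, ← zpow_mul, mul_comm]
        _ = e * y * a * (e * y)⁻¹ := by rw [← hq, ← hcj, ← hp]; group
    have hbA : b ∈ Subgroup.zpowers a := by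
      refine hcen b (mul_mem (mul_mem (mul_mem (inv_mem hy) (inv_mem he)) hy) he) ?_
      calc b * a = (y⁻¹ * e⁻¹) * (y * e * a * (y * e)⁻¹) * (y * e) := by rw [hb]; group
        _ = a * b := by rw [hye, hb]; group
    obtain ⟨j, hj⟩ := hbA
    have hj : a ^ j = b := hj
    set ω := e * a * e⁻¹ * a⁻¹ with hω
    set f := e⁻¹ with hf
    have hfa : f * a * f⁻¹ = ω⁻¹ * a := by
      have h1 : Commute ω a := h.cen ω hw a haS
      calc f * a * f⁻¹ = e⁻¹ * (ω⁻¹ * (e * a * e⁻¹)) * e := by rw [hω, hf]; group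
        _ = (e⁻¹ * ω⁻¹) * e * a := by group
        _ = ω⁻¹ * a := by rw [← (h.cen ω⁻¹ (inv_mem hw) e⁻¹ (inv_mem he))]; group
    set η := (ω⁻¹) ^ j with hη
    have hηZ : η ∈ Z := zpow_mem (inv_mem hw) j
    have hfb : f * b = η * (b * f) := by
      have h1 : Commute ω⁻¹ a := h.cen _ (inv_mem hw) a haS
      calc f * b = (f * a ^ j * f⁻¹) * f := by rw [hj]; group
        _ = η * (b * f) := by rw [hcj, hfa, h1.mul_zpow, hj, hη, mul_assoc]
    have hfS : f ∈ S := inv_mem he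
    have hbS : b ∈ S := hj ▸ zpow_mem haS j
    have hηf : ∀ x ∈ S, Commute η x := fun x hx => h.cen η hηZ x hx
    have hfib : ∀ i : ℕ, f ^ i * b = η ^ i * (b * f ^ i) := by
      intro i
      induction i with
      | zero => simp
      | succ i ih =>
        calc f ^ (i + 1) * b = f * (η ^ i * (b * f ^ i)) := by rw [← ih, pow_succ']; group
          _ = η ^ i * (f * b) * f ^ i := by rw [← mul_assoc, ← ((hηf f hfS).pow_left i).eq]; group
          _ = η ^ (i + 1) * (b * f ^ (i + 1)) := by rw [hfb, pow_succ, pow_succ']; group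
    have hbf : ∀ i : ℕ, (b * f) ^ i = η ^ Nat.choose i 2 * (b ^ i * f ^ i) := by
      intro i
      induction i with
      | zero => simp
      | succ i ih =>
        calc (b * f) ^ (i + 1) = η ^ Nat.choose i 2 * (b ^ i * (f ^ i * b) * f) := by rw [pow_succ, ih]; group
          _ = η ^ Nat.choose i 2 * (η ^ i * (b ^ i * b * f ^ i) * f) := by
              rw [hfib, ← mul_assoc (b ^ i), ← ((hηf _ (pow_mem hbS i)).pow_left i).eq]; group
          _ = η ^ Nat.choose (i + 1) 2 * (b ^ (i + 1) * f ^ (i + 1)) := by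
              rw [choose_two_succ, pow_add, pow_succ b, pow_succ f]; group
    have hord : (b * f) ^ s = 1 := by
      rw [show b * f = (MulAut.conj y⁻¹) e⁻¹ by rw [hb, hf, MulAut.conj_apply]; group, ← map_pow, inv_pow, hes,
        inv_one, map_one]
    rw [hbf, show f ^ s = 1 by rw [hf, inv_pow, hes, inv_one], mul_one] at hord
    have hbZ : b ∈ Z := by
      by_cases hs2 : s = 2
      · subst hs2
        have hk3 : 3 ≤ k := hsk.resolve_left (by simp)
        simp only [Nat.choose_self, pow_one] at hord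
        have hb2 : b ^ 2 ∈ Z := by rw [eq_inv_of_mul_eq_one_right hord]; exact inv_mem hηZ
        have hj4 : a ^ (j * 4) = 1 := by
          rw [show j * 4 = j * ((2 : ℕ) : ℤ) * ((2 : ℕ) : ℤ) by push_cast; ring, zpow_mul, zpow_mul, zpow_natCast,
            zpow_natCast, hj, h.zexp _ hb2]
        rw [hzero, Nat.cast_ofNat] at hj4
        have hj8 : (8 : ℤ) ∣ j * 4 := (pow_dvd_pow (2 : ℤ) hk3).trans hj4
        obtain ⟨i, rfl⟩ : (2 : ℤ) ∣ j := by omega
        have hη1 : η = 1 := by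
          rw [hη, zpow_mul, show (2 : ℤ) = ((2 : ℕ) : ℤ) from rfl, zpow_natCast, inv_pow, h.zexp _ hw, inv_one,
            one_zpow]
        rw [hη1, one_mul] at hord
        exact htor b ⟨_, hj⟩ hord
      · obtain ⟨c, hc⟩ := h.prime.dvd_choose_self (k := 2) (by norm_num)
          (lt_of_le_of_ne h.prime.two_le (Ne.symm hs2))
        rw [hc, pow_mul, h.zexp η hηZ, one_pow, one_mul] at hord
        exact htor b ⟨_, hj⟩ hord
    have hey : ⁅e, y⁆ = e * y * (b⁻¹) * (e * y)⁻¹ * 1 := by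
      rw [commutatorElement_def, hb, hf]; group
    rw [hey, mul_one]
    exact h.normalZ.conj_mem _ (inv_mem hbZ) (e * y)
  obtain ⟨d, hdS, hd1, v₀, hv₀, hdv⟩ := h.exd
  -- an element of order `s` with fixed points
  obtain ⟨e₀, he₀S, he₀s, he₀1, he₀v⟩ : ∃ e ∈ S, e ^ s = 1 ∧ e ≠ 1 ∧ e • v₀ = v₀ := by
    obtain ⟨i, hi⟩ := h.pgroup ⟨d, hdS⟩
    have hi : d ^ s ^ i = 1 := by simpa using congrArg Subtype.val hi
    have hex : ∃ i, d ^ s ^ i = 1 := ⟨i, hi⟩
    obtain ⟨l, hl⟩ : ∃ l, Nat.find hex = l + 1 := Nat.exists_eq_succ_of_ne_zero fun h0 => by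
      have := Nat.find_spec hex
      rw [h0, pow_zero, pow_one] at this
      exact hd1 this
    refine ⟨d ^ s ^ l, pow_mem hdS _, ?_, Nat.find_min hex (by omega), smul_pow_eq_of_fixed hdv _⟩
    rw [← pow_mul, ← pow_succ, ← hl]; exact Nat.find_spec hex
  have houtA : ∀ e : L, e ≠ 1 → e ^ s = 1 → (∃ v : V, v ≠ 1 ∧ e • v = v) → e ∉ Subgroup.zpowers a :=
    fun e he1 hes ⟨v, hv, hev⟩ hh => h.notMem_of_fix he1 hv hev (htor e hh hes)
  have he₀A := houtA e₀ he₀1 he₀s ⟨v₀, hv₀, he₀v⟩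
  have hsk1 : s ^ k = s * s ^ (k - 1) := by rw [← pow_succ']; congr 1; omega
  by_cases hs2 : s = 2
  swap
  · -- odd `s`
    exfalso
    obtain ⟨u, hue⟩ := hu e₀ he₀S
    refine hno e₀ he₀S he₀s he₀A (htor _ (mul_mem (hconj e₀ he₀S) (inv_mem haA)) ?_) (Or.inl hs2)
    have hpow : ∀ i : ℕ, e₀ ^ i * a * (e₀ ^ i)⁻¹ = a ^ (u ^ i) := by
      intro i
      induction i with
      | zero => simp
      | succ i ih =>
        calc e₀ ^ (i + 1) * a * (e₀ ^ (i + 1))⁻¹ = e₀ * (e₀ ^ i * a * (e₀ ^ i)⁻¹) * e₀⁻¹ := by rw [pow_succ']; group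
          _ = a ^ u ^ (i + 1) := by rw [ih, hcj, hue, ← zpow_mul, pow_succ']
    have h1 := hpow s
    rw [he₀s, one_mul, inv_one, mul_one] at h1
    have h2 : ((s : ℤ) ^ k) ∣ u ^ s - 1 := by rw [← hzero, zpow_sub_one, ← h1, mul_inv_cancel]
    have h3 : (s : ℤ) ∣ u - 1 := by
      have h4 : (s : ℤ) ∣ u ^ s - 1 := (dvd_pow_self (s : ℤ) (by omega : k ≠ 0)).trans h2
      rw [← ZMod.intCast_eq_intCast_iff_dvd_sub] at h4 ⊢
      rw [h4]; push_cast; rw [ZMod.pow_card]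
    obtain ⟨t, ht⟩ := h3
    obtain ⟨c, hc⟩ := odd_sq_dvd_geom_sum₂_sub (1 : ℤ) t (h.prime.odd_of_ne_two hs2)
    have hgeom := geom_sum₂_mul ((1 : ℤ) + (s : ℤ) * t) 1 s
    rw [one_pow, mul_one] at hc
    rw [show (1 : ℤ) + (s : ℤ) * t = u by linarith, one_pow] at hgeom
    rw [show (1 : ℤ) + (s : ℤ) * t = u by linarith] at hc
    have h5 : u ^ s - 1 = (1 + (s : ℤ) * c) * ((s : ℤ) * (u - 1)) := by
      rw [← hgeom, eq_add_of_sub_eq hc]; ring
    have h6 : ((s : ℤ) ^ k) ∣ (s : ℤ) * (u - 1) :=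
      (IsCoprime.pow_left ⟨-c, 1, by ring⟩ : IsCoprime ((s : ℤ) ^ k) (1 + (s : ℤ) * c)).dvd_of_dvd_mul_left (h5 ▸ h2)
    rw [hue, ← zpow_sub_one, ← zpow_natCast, ← zpow_mul, hzero]
    rwa [mul_comm]
  · subst hs2
    -- involutions outside `A` invert it modulo `Z`
    have hinv : ∀ e ∈ S, e ^ 2 = 1 → e ∉ Subgroup.zpowers a → e * a * e⁻¹ * a ∈ Z := by
      intro e he hes heA
      obtain ⟨u, hue⟩ := hu e he
      refine htor _ (mul_mem (hconj e he) haA) ?_
      have h1 : a ^ (u * u) = a := by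
        rw [zpow_mul, ← hue, ← hcj, ← hue, show e * (e * a * e⁻¹) * e⁻¹ = e ^ 2 * a * (e ^ 2)⁻¹ by rw [pow_two]; group,
          hes, one_mul, inv_one, mul_one]
      have h2 : ((2 : ℤ) ^ k) ∣ u * u - 1 := by
        have := (hzero (u * u - 1)).1 (by rw [zpow_sub_one, h1, mul_inv_cancel])
        simpa using this
      suffices ((2 : ℤ) ^ k) ∣ 2 * (u + 1) by
        rw [hue, ← zpow_add_one, ← zpow_natCast, ← zpow_mul, hzero]
        rw [mul_comm]; simpa using this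
      have hodd : ¬ (2 : ℤ) ∣ u := fun h3 => by
        have h4 : (2 : ℤ) ∣ u * u - 1 := (dvd_pow_self 2 (by omega : k ≠ 0)).trans h2
        have := dvd_sub (h3.mul_right u) h4
        rw [sub_sub_cancel] at this
        exact absurd this (by norm_num)
      obtain ⟨w, rfl⟩ : ∃ w, u = 2 * w + 1 := ⟨u / 2, by omega⟩
      obtain ⟨l, rfl⟩ : ∃ l, k = l + 2 := ⟨k - 2, by omega⟩
      rw [pow_add, show (2 * w + 1) * (2 * w + 1) - 1 = (w * (w + 1)) * 2 ^ 2 by ring,
        mul_dvd_mul_iff_right (by norm_num : ((2 : ℤ) ^ 2) ≠ 0)] at h2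
      rw [pow_add, show 2 * (2 * w + 1 + 1) = (w + 1) * 2 ^ 2 by ring,
        mul_dvd_mul_iff_right (by norm_num : ((2 : ℤ) ^ 2) ≠ 0)]
      rcases Int.even_or_odd' w with ⟨v, rfl | rfl⟩
      · by_cases hl : l = 0
        · subst hl; simp
        -- then `e` would centralise `a` modulo `Z`
        exfalso
        refine hno e he hes heA (htor _ (mul_mem (hconj e he) (inv_mem haA)) ?_) (Or.inr (by omega))
        rw [hue, ← zpow_sub_one, ← zpow_natCast, ← zpow_mul, hzero, Nat.cast_ofNat, pow_add,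
          show (2 * (2 * v) + 1 - 1) * 2 = (2 * v) * 2 ^ 2 by ring]
        refine mul_dvd_mul_right ?_ _
        exact (IsCoprime.pow_left ⟨-v, 1, by ring⟩ : IsCoprime ((2 : ℤ) ^ l) (2 * v + 1)).dvd_of_dvd_mul_right h2
      · exact (IsCoprime.pow_left ⟨-v, 1, by ring⟩ : IsCoprime ((2 : ℤ) ^ l) (2 * v + 1)).dvd_of_dvd_mul_left h2
    have hZ2 : ∀ w ∈ Z, ∀ w' ∈ Z, w ≠ 1 → w' ≠ 1 → w = w' := by
      intro w hw w' hw' h1 h1'
      rw [← h.gen w' hw' h1'] at hw
      obtain ⟨i, rfl⟩ := hw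
      rcases Int.even_or_odd' i with ⟨v, rfl | rfl⟩
      · simp only [zpow_mul, show (2 : ℤ) = ((2 : ℕ) : ℤ) from rfl, zpow_natCast, h.zexp w' hw', one_zpow,
          ne_eq, not_true] at h1
      · simp only [zpow_add, zpow_one, zpow_mul, show (2 : ℤ) = ((2 : ℕ) : ℤ) from rfl, zpow_natCast, h.zexp w' hw',
          one_zpow, one_mul]
    have he2 : ∀ e : L, e ^ 2 = 1 → e⁻¹ = e := fun e he =>
      inv_eq_of_mul_eq_one_right (by rw [← pow_two]; exact he)
    -- all of them lie in one coset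
    have hcoset : ∀ e ∈ S, e ^ 2 = 1 → e ∉ Subgroup.zpowers a → e₀⁻¹ * e ∈ Subgroup.zpowers a := by
      intro e he hes heA
      set x := e₀ * e with hx
      rw [show e₀⁻¹ * e = x by rw [he2 e₀ he₀s]]
      by_contra hxA
      set ω₁ := e₀ * a * e₀⁻¹ * a
      set ω₂ := e * a * e⁻¹ * a
      have hω₁ : ω₁ ∈ Z := hinv e₀ he₀S he₀s he₀A
      have hω₂ : ω₂ ∈ Z := hinv e he hes heA
      have hxa : x * a * x⁻¹ = ω₂ * ω₁⁻¹ * a := by
        have hc : e₀ * ω₂ = ω₂ * e₀ := (h.cen ω₂ hω₂ e₀ he₀S).symm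
        calc x * a * x⁻¹ = e₀ * (ω₂ * a⁻¹) * e₀⁻¹ := by rw [hx]; simp only [ω₂]; group
          _ = ω₂ * (e₀ * a⁻¹ * e₀⁻¹) := by rw [← mul_assoc e₀, hc]; group
          _ = ω₂ * (a * ω₁⁻¹) := by simp only [ω₁]; group
          _ = ω₂ * ω₁⁻¹ * a := by rw [mul_assoc ω₂, h.cen _ (inv_mem hω₁) a haS]
      set ω := ω₂ * ω₁⁻¹ with hω
      have hωZ : ω ∈ Z := mul_mem hω₂ (inv_mem hω₁)
      have hxS : x ∈ S := mul_mem he₀S he
      have hω1 : ω ≠ 1 := fun e1 => hxA (hcen x hxS (by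
        rw [e1, one_mul, mul_inv_eq_iff_eq_mul] at hxa; exact hxa))
      have hk3 : 3 ≤ k := by
        by_contra hk3
        obtain rfl : k = 2 := by omega
        have ha2Z : a ^ 2 ∈ Z := htor _ (pow_mem haA 2) (by
          rw [← pow_mul, ← orderOf_dvd_iff_pow_eq_one, hk]; norm_num)
        -- both invert `a`
        have key : ∀ g ∈ S, g ∉ Subgroup.zpowers a → g * a * g⁻¹ * a ∈ Z → g * a * g⁻¹ * a = 1 := by
          intro g hg hgA hgZ
          by_contra h1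
          have h2 : a ^ 2 ≠ 1 := fun e1 => by
            rw [← orderOf_dvd_iff_pow_eq_one, hk] at e1; norm_num at e1
          have h3 := hZ2 _ hgZ _ ha2Z h1 h2
          rw [pow_two, mul_left_inj, mul_inv_eq_iff_eq_mul] at h3
          exact hgA (hcen g hg h3)
        exact hω1 (by rw [hω, show ω₂ = 1 from key e he heA hω₂, show ω₁ = 1 from key e₀ he₀S he₀A hω₁, inv_one, one_mul])
      have hω2 : ω * ω = 1 := by rw [← pow_two]; exact h.zexp ω hωZ
      have hωa : Commute ω a := h.cen ω hωZ a haS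
      have hxaj : ∀ l : ℤ, x * a ^ l * x⁻¹ = ω ^ l * a ^ l := fun l => by rw [hcj, hxa, hωa.mul_zpow]
      obtain ⟨j, hj⟩ : x * x ∈ Subgroup.zpowers a := hcen _ (mul_mem hxS hxS) (by
        have h1 : (x * x) * a * (x * x)⁻¹ = a := by
          calc (x * x) * a * (x * x)⁻¹ = x * (ω * a) * x⁻¹ := by rw [← hxa]; group
            _ = ω * (x * a * x⁻¹) := by rw [← mul_assoc x, ← h.cen ω hωZ x hxS]; group
            _ = a := by rw [hxa, ← mul_assoc, hω2, one_mul]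
        rwa [mul_inv_eq_iff_eq_mul] at h1)
      have hj : a ^ j = x * x := hj
      obtain ⟨i, rfl⟩ : (2 : ℤ) ∣ j := by
        by_contra hodd
        obtain ⟨v, rfl⟩ : ∃ v, j = 2 * v + 1 := ⟨j / 2, by omega⟩
        have h1 : ω ^ (2 * v + 1) * a ^ (2 * v + 1) = a ^ (2 * v + 1) := by rw [← hxaj, hj]; group
        rw [mul_eq_right, zpow_add, zpow_one, zpow_mul, show (2 : ℤ) = ((2 : ℕ) : ℤ) from rfl, zpow_natCast,
          h.zexp ω hωZ, one_zpow, one_mul] at h1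
        exact hω1 h1
      have hsq : ∀ l : ℤ, (x * a ^ l) ^ 2 = ω ^ l * a ^ (2 * (i + l)) := by
        intro l
        calc (x * a ^ l) ^ 2 = (x * a ^ l * x⁻¹) * (x * x) * a ^ l := by rw [pow_two]; group
          _ = ω ^ l * a ^ (2 * (i + l)) := by rw [hxaj, ← hj, mul_assoc, mul_assoc, ← zpow_add, ← zpow_add]; ring_nf
      obtain ⟨l, hl⟩ : ∃ l : ℤ, (x * a ^ l) ^ 2 = 1 := by
        obtain ⟨K, rfl⟩ : ∃ K, k = K + 3 := ⟨k - 3, by omega⟩
        rcases Int.even_or_odd' i with ⟨v, rfl | rfl⟩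
        · refine ⟨-(2 * v), ?_⟩
          rw [hsq, add_neg_cancel, mul_zero, zpow_zero, mul_one, zpow_neg, zpow_mul,
            show (2 : ℤ) = ((2 : ℕ) : ℤ) from rfl, zpow_natCast, h.zexp ω hωZ, one_zpow, inv_one]
        · refine ⟨-(2 * v + 1) + 2 ^ (K + 1), ?_⟩
          rw [hsq, show 2 * (2 * v + 1 + (-(2 * v + 1) + 2 ^ (K + 1))) = ((2 : ℤ) ^ (K + 2)) by ring,
            show (-(2 * v + 1) + (2 : ℤ) ^ (K + 1)) = (2 : ℤ) * (-v + 2 ^ K) + (-1) by ring, zpow_add, zpow_mul,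
            show (2 : ℤ) = ((2 : ℕ) : ℤ) from rfl, zpow_natCast, h.zexp ω hωZ, one_zpow, one_mul, zpow_neg_one,
            inv_mul_eq_one, ← Nat.cast_pow, zpow_natCast]
          refine hZ2 _ hωZ _ (htor _ (pow_mem haA _) ?_) hω1 fun e1 => ?_
          · rw [← pow_mul, ← pow_succ, ← hk, pow_orderOf_eq_one]
          · rw [← orderOf_dvd_iff_pow_eq_one, hk] at e1
            exact absurd ((Nat.pow_dvd_pow_iff_le_right (by norm_num)).1 e1) (by omega)
      refine hno (x * a ^ l) (mul_mem hxS (zpow_mem haS l)) hl (fun hh => hxA ?_) ?_ (Or.inr hk3)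
      · have h1 := mul_mem hh (inv_mem (zpow_mem haA l))
        rwa [mul_inv_cancel_right] at h1
      · rw [show x * a ^ l * a * (x * a ^ l)⁻¹ * a⁻¹ = ω by
          calc x * a ^ l * a * (x * a ^ l)⁻¹ * a⁻¹ = (x * a * x⁻¹) * a⁻¹ := by group
            _ = ω := by rw [hxa, mul_inv_cancel_right]]
        exact hωZ
    -- the bound
    haveI := h.normalS
    haveI := h.normalZ
    set σs : Finset L := Finset.univ.filter fun e =>
      e ∈ S ∧ e ^ 2 = 1 ∧ e ∉ Z ∧ ∃ v : V, v ≠ 1 ∧ e • v = v with hσs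
    have hmem : ∀ {e}, e ∈ σs ↔ e ∈ S ∧ e ^ 2 = 1 ∧ e ∉ Z ∧ ∃ v : V, v ≠ 1 ∧ e • v = v := by
      intro e; simp [hσs]
    have hσinv : ∀ g : L, ∀ e ∈ σs, g * e * g⁻¹ ∈ σs := by
      intro g x hx
      obtain ⟨hxS, hxs, hxZ, v, hv, hxv⟩ := hmem.1 hx
      refine hmem.2 ⟨h.normalS.conj_mem x hxS g, by rw [← MulAut.conj_apply, ← map_pow, hxs, map_one],
        fun hh => hxZ (by simpa [mul_assoc] using h.normalZ.conj_mem _ hh g⁻¹),
        g • v, fun e => hv (smul_left_cancel g (e.trans (smul_one g).symm)), ?_⟩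
      rw [mul_smul, mul_smul, inv_smul_smul, hxv]
    have hne1 : ∀ e ∈ σs, e ≠ 1 := fun e he e1 => (hmem.1 he).2.2.1 (e1 ▸ Z.one_mem)
    have hσA : ∀ e ∈ σs, e ∉ Subgroup.zpowers a := fun e he =>
      houtA e (hne1 e he) (hmem.1 he).2.1 (hmem.1 he).2.2.2
    have hσle : σs.card ≤ Nat.card (Subgroup.zpowers a) := by
      rw [Nat.card_eq_fintype_card, Fintype.card_subtype]
      refine Finset.card_le_card_of_injOn (fun e => e₀⁻¹ * e) (fun e he => ?_)
        ((mul_right_injective e₀⁻¹).injOn)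
      simp only [Finset.coe_filter, Finset.mem_univ, true_and, Set.mem_ofPred_eq]
      exact hcoset e (hmem.1 he).1 (hmem.1 he).2.1 (hσA e he)
    obtain ⟨x₁, hx₁, hmax⟩ := Finset.exists_max_image σs (fun e => Nat.card (fixPts V {e}))
      ⟨e₀, hmem.2 ⟨he₀S, he₀s, h.notMem_of_fix he₀1 hv₀ he₀v, v₀, hv₀, he₀v⟩⟩
    set c := Nat.card (fixPts V {x₁}) with hc
    obtain ⟨hx₁S, hx₁s, hx₁Z, v, hv, hx₁v⟩ := hmem.1 hx₁
    have hc2 : c ^ 2 ≤ Nat.card V := by
      obtain ⟨l, rfl⟩ : ∃ l, k = l + 2 := ⟨k - 2, by omega⟩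
      set b := a ^ 2 ^ l with hb
      have hbb : b * b ∈ Z ∧ b * b ≠ 1 := by
        rw [hb, ← pow_add, ← two_mul, ← pow_succ']
        refine ⟨htor _ (pow_mem haA _) ?_, fun e1 => ?_⟩
        · rw [← pow_mul, ← pow_succ, ← hk, pow_orderOf_eq_one]
        · rw [← orderOf_dvd_iff_pow_eq_one, hk] at e1
          exact absurd ((Nat.pow_dvd_pow_iff_le_right (by norm_num)).1 e1) (by omega)
      refine h.pow_le hx₁S (y := b) (hb ▸ pow_mem haS _) hx₁s (hne1 x₁ hx₁) hbb.1 hbb.2 ?_ hv hx₁v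
      have hwZ : x₁ * a * x₁⁻¹ * a ∈ Z := hinv x₁ hx₁S hx₁s (hσA x₁ hx₁)
      have hlw : (x₁ * a * x₁⁻¹ * a) ^ 2 ^ l = 1 := by
        rcases Nat.eq_zero_or_pos l with rfl | hl
        · by_contra h1
          simp only [pow_zero, pow_one] at h1
          have h2 : a ^ 2 ≠ 1 := fun e1 => by
            rw [← orderOf_dvd_iff_pow_eq_one, hk] at e1; norm_num at e1
          have h3 := hZ2 _ hwZ _ (htor _ (pow_mem haA 2) (by
            rw [← pow_mul, ← orderOf_dvd_iff_pow_eq_one, hk]; norm_num)) h1 h2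
          rw [pow_two a, mul_left_inj, mul_inv_eq_iff_eq_mul] at h3
          exact hσA x₁ hx₁ (hcen x₁ hx₁S h3)
        · obtain ⟨l', rfl⟩ : ∃ l', l = l' + 1 := ⟨l - 1, by omega⟩
          rw [pow_succ', pow_mul, h.zexp _ hwZ, one_pow]
      have hxb : x₁ * b * x₁⁻¹ = b⁻¹ := by
        have hcomm : Commute (x₁ * a * x₁⁻¹ * a) a⁻¹ := h.cen _ hwZ _ (inv_mem haS)
        rw [hb, ← conj_pow, show x₁ * a * x₁⁻¹ = (x₁ * a * x₁⁻¹ * a) * a⁻¹ by group, hcomm.mul_pow, hlw, one_mul,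
          inv_pow]
      have h' : x₁ * b⁻¹ * x₁⁻¹ = b := by rw [← conj_inv, hxb, inv_inv]
      calc b * x₁ * b⁻¹ = b * (x₁ * b⁻¹ * x₁⁻¹) * x₁ := by group
        _ = b * b * x₁ := by rw [h']
    -- counting at `v`
    set A := Subgroup.zpowers a with hA
    have h1 := count_le H h.fpf A ((Subgroup.zpowers_le.2 haS).trans h.le) σs hσinv c hmax hv
    have h2 := card_orbit_mul_card_inf A v
    have hbot : A ⊓ stabilizer L v = ⊥ := by
      rw [Subgroup.eq_bot_iff_forall]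
      rintro g ⟨hgA, hgv⟩
      by_contra hg1
      have hdvd : orderOf g ∣ 2 ^ k := hk ▸ (orderOf_dvd_of_mem_zpowers hgA)
      obtain ⟨j, -, hj⟩ := (Nat.dvd_prime_pow Nat.prime_two).1 hdvd
      obtain ⟨j', rfl⟩ : ∃ j', j = j' + 1 := Nat.exists_eq_succ_of_ne_zero fun h0 => by
        rw [h0, pow_zero, orderOf_eq_one_iff] at hj; exact hg1 hj
      refine h.notMem_of_fix (x := g ^ 2 ^ j') ?_ hv (smul_pow_eq_of_fixed hgv _) (htor _ (pow_mem hgA _) ?_)
      · intro e1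
        rw [← orderOf_dvd_iff_pow_eq_one, hj] at e1
        exact absurd ((Nat.pow_dvd_pow_iff_le_right (by norm_num)).1 e1) (by omega)
      · rw [← pow_mul, ← pow_succ, ← hj, pow_orderOf_eq_one]
    rw [hbot, Subgroup.card_bot, mul_one] at h2
    rw [h2] at h1
    have hpos : 1 ≤ (σs.filter fun x => x • v = v).card :=
      Finset.card_pos.2 ⟨x₁, Finset.mem_filter.2 ⟨hx₁, hx₁v⟩⟩
    have hc1 : 1 ≤ c := one_le_card_fixPts _
    have hm : H.index ≤ c - 1 := by
      refine le_of_mul_le_mul_right ?_ (Nat.card_pos (α := A))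
      calc H.index * Nat.card A ≤ H.index * Nat.card A * (σs.filter fun x => x • v = v).card :=
            Nat.le_mul_of_pos_right _ hpos
        _ ≤ σs.card * (c - 1) := h1
        _ ≤ Nat.card A * (c - 1) := Nat.mul_le_mul_right _ hσle
        _ = (c - 1) * Nat.card A := mul_comm _ _
    calc (H.index + 1) ^ 2 ≤ c ^ 2 := Nat.pow_le_pow_left (by omega) 2
      _ ≤ _ := hc2

/-- The bound in the set-up. -/
theorem bound (h : Setup s H S Z V) : (H.index + 1) ^ 2 ≤ Nat.card V := by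
  by_cases hI : ∃ x ∈ S, x ∉ Z ∧ x ^ s = 1 ∧ ∀ y ∈ S, ⁅x, y⁆ ∈ Z
  · obtain ⟨x, hx, hxZ, hxs, hxT⟩ := hI
    exact h.bound_caseI hx hxZ hxs hxT
  · push Not at hI
    refine h.bound_caseII fun x hx hxs hxT => ?_
    by_contra hxZ
    obtain ⟨y, hy, hxy⟩ := hI x hx hxZ hxs
    exact hxy (hxT y hy)

end Setup

/-- The bound for a normal `s`-subgroup of `H` with an element having fixed points. -/
theorem bound_of_pgroup (H S : Subgroup L) [S.Normal] {s : ℕ} (hs : s.Prime) (hS : IsPGroup s S) (hSH : S ≤ H)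
    (hfpf : ∀ g : L, g ∉ H → ∀ v : V, g • v = v → v = 1)
    (hirr : ∀ W : Subgroup V, (∀ g : L, ∀ w ∈ W, g • w ∈ W) → W = ⊥ ∨ W = ⊤)
    (hV : ∀ v : V, v ^ s = 1 → v = 1) {d : L} (hdS : d ∈ S) (hd : d ≠ 1) {v₀ : V} (hv₀ : v₀ ≠ 1)
    (hdv : d • v₀ = v₀) : (H.index + 1) ^ 2 ≤ Nat.card V := by
  classical
  haveI := Fact.mk hs
  let Z : Subgroup L :=
    { carrier := {a | a ∈ S ∧ a ^ s = 1 ∧ ∀ y ∈ S, a * y = y * a}
      one_mem' := ⟨S.one_mem, one_pow s, fun y _ => by rw [one_mul, mul_one]⟩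
      mul_mem' := fun {a b} ha hb => ⟨mul_mem ha.1 hb.1, by
        rw [(show Commute a b from ha.2.2 b hb.1).mul_pow, ha.2.1, hb.2.1, one_mul], fun y hy => by
        rw [mul_assoc, hb.2.2 y hy, ← mul_assoc, ha.2.2 y hy, mul_assoc]⟩
      inv_mem' := fun {a} ha => ⟨inv_mem ha.1, by rw [inv_pow, ha.2.1, inv_one],
        fun y hy => (Commute.inv_left (ha.2.2 y hy) : Commute a⁻¹ y)⟩ }
  have hSn : S.Normal := inferInstance
  haveI hZn : Z.Normal := ⟨fun a ha g => ⟨hSn.conj_mem a ha.1 g, by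
    rw [← MulAut.conj_apply, ← map_pow, ha.2.1, map_one], fun y hy => by
    have h1 := ha.2.2 (g⁻¹ * y * g) (by simpa using hSn.conj_mem y hy g⁻¹)
    calc g * a * g⁻¹ * y = g * (a * (g⁻¹ * y * g)) * g⁻¹ := by group
      _ = y * (g * a * g⁻¹) := by rw [h1]; group⟩⟩
  obtain ⟨z, hz, hz1⟩ : ∃ z ∈ Z, z ≠ 1 := by
    haveI : Nontrivial S := ⟨⟨⟨d, hdS⟩, 1, fun e => hd (congrArg Subtype.val e)⟩⟩
    haveI := hS.center_nontrivial
    obtain ⟨n, hn0, hn⟩ := (hS.to_subgroup (Subgroup.center S)).nontrivial_iff_card.1 inferInstance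
    obtain ⟨c, hc⟩ := exists_prime_orderOf_dvd_card' s (G := Subgroup.center S) (hn ▸ dvd_pow_self s hn0.ne')
    refine ⟨((c : S) : L), ⟨(c : S).2, ?_, fun y hy => ?_⟩, fun e => ?_⟩
    · have := congrArg (fun t : Subgroup.center S => ((t : S) : L)) (hc ▸ pow_orderOf_eq_one c)
      simpa using this
    · exact congrArg Subtype.val (Subgroup.mem_center_iff.1 c.2 ⟨y, hy⟩).symm
    · rw [show c = 1 from Subtype.ext (Subtype.ext e), orderOf_one] at hc
      exact hs.one_lt.ne hc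
  by_cases hcyc : ∀ x ∈ Z, x ∈ Subgroup.zpowers z
  · have hgen : ∀ a ∈ Z, a ≠ 1 → Subgroup.zpowers a = Z := by
      intro a ha ha1
      refine Subgroup.eq_of_le_of_card_ge (Subgroup.zpowers_le.2 ha) ?_
      refine (Subgroup.card_le_of_le (fun x hx => hcyc x hx)).trans (le_of_eq ?_)
      rw [Nat.card_zpowers, Nat.card_zpowers, orderOf_eq_prime ha.2.1 ha1, orderOf_eq_prime hz.2.1 hz1]
    refine Setup.bound (s := s) (S := S) (Z := Z) ⟨hs, hS, hSH, inferInstance, hZn, fun a ha => ha.1,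
      fun a ha => ha.2.2, hgen, fun a ha ha1 w hw => ?_, fun a ha => ha.2.1, fun a ha hs' hc => ⟨ha, hs', hc⟩,
      hfpf, hirr, hV, ⟨z, hz, hz1⟩, d, hdS, hd, v₀, hv₀, hdv⟩
    have hZb : Z ≠ ⊥ := fun e => hz1 (Subgroup.mem_bot.1 (e ▸ hz))
    have h1 : w ∈ fixPts V (Z : Set L) := by
      rw [← hgen a ha ha1, fixPts_zpowers]
      intro b hb; rw [Set.mem_singleton_iff] at hb; rw [hb, hw]
    rwa [fixPts_normal hirr Z hZb] at h1
  · push Not at hcyc
    obtain ⟨x, hx, hxz⟩ := hcyc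
    exact bound_of_elementary H hs hV hfpf hirr hv₀ Z (fun a ha => hSH ha.1) (fun a ha b hb => ha.2.2 b hb.1)
      (fun a ha => ha.2.1) hz hz1 hx hxz

end Cfsg.Agent.Lib.DerangedIndex
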