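import Cfsg.Agent.Lib.DerangedIndex.CharsCase
import Cfsg.Agent.Lib.DerangedIndex.LinearTwo
import Cfsg.Agent.Lib.DerangementSubgroup.Basic

/-!
# The index of the subgroup generated by the derangements
-/

set_option autoImplicit false
set_option linter.unusedSectionVars false

namespace Cfsg.Agent.Lib.DerangedIndex

open MulAction
open scoped Pointwise

variable {G : Type*} [Group G] [Finite G] {Ω : Type*} [MulAction G Ω] [Finite Ω] [FaithfulSMul G Ω]

/-- A transitive group of degree at least 4 has index of the derangement subgroup at most `√n - 1`, or is a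
primitive Frobenius group with an abelian regular normal subgroup. -/
theorem index_bound_or_frobenius (htr : IsPretransitive G Ω) (hn : 4 ≤ Nat.card Ω) :
    ((DerangementSubgroup.derangementClosure G Ω).index + 1) ^ 2 ≤ Nat.card Ω ∨
    ((∃ N : Subgroup G, N.Normal ∧ IsMulCommutative N ∧ N ≠ ⊥) ∧ IsPreprimitive G Ω ∧
      (IsPretransitive G Ω ∧ (∃ g : G, g ≠ 1 ∧ ∃ ω : Ω, g • ω = ω) ∧
        ∀ g : G, g ≠ 1 → Nat.card (fixedBy Ω g) ≤ 1)) := by
  classical
  haveI := htr
  set D := DerangementSubgroup.derangementClosure G Ω with hD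
  by_cases hb : (D.index + 1) ^ 2 ≤ Nat.card Ω
  · exact Or.inl hb
  right
  haveI : Nonempty Ω := (Nat.card_pos_iff.1 (by omega)).1
  haveI hDtr : IsPretransitive D Ω := DerangementSubgroup.isPretransitive (Ω := Ω) htr
  have hOne : ∀ g : G, g ∉ D → ∀ a b : Ω, g • a = a → g • b = b → a = b :=
    fun g hg a b ha hb' => DerangementSubgroup.smul_ne_of_stabilizer htr hg ha hb'
  have hm2 : 2 ≤ D.index := by
    by_contra hlt
    refine hb (le_trans (Nat.pow_le_pow_left (by omega : D.index + 1 ≤ 2) 2) ?_)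
    omega
  set r := (Nat.card Ω).minFac with hr'
  haveI hrp : Fact r.Prime := ⟨Nat.minFac_prime (by omega)⟩
  obtain ⟨P, α, hPD, hPc, hPexp, hreg, hbot, hsyl, hDα, hcov⟩ :=
    (exists_regular D (Nat.minFac_dvd _) hOne (r := r)).resolve_left hb
  set L0 := stabilizer G α ⊓ Subgroup.normalizer (P : Set G) with hL0
  have hPr : IsPGroup r P := fun p => ⟨1, Subtype.ext (by simpa using hPexp p p.2)⟩
  have hinj : ∀ p ∈ P, ∀ q ∈ P, p • α = q • α → p = q := by
    intro p hp q hq e
    have h1 : q⁻¹ * p ∈ P ⊓ stabilizer G α := Subgroup.mem_inf.2 ⟨mul_mem (inv_mem hq) hp, by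
      show (q⁻¹ * p) • α = α
      rw [mul_smul, e, inv_smul_smul]⟩
    rw [hbot, Subgroup.mem_bot, inv_mul_eq_one] at h1
    exact h1.symm
  have hconjα : ∀ g ∈ L0, ∀ p ∈ P, (g * p * g⁻¹) • α = g • p • α := by
    intro g hg p _
    rw [mul_smul, mul_smul, inv_smul_eq_iff.2 (hg.1 : g • α = α).symm]
  have hnP : ∀ g ∈ L0, ∀ p ∈ P, g * p * g⁻¹ ∈ P :=
    fun g hg p hp => (Subgroup.mem_normalizer_iff.1 hg.2 p).1 hp
  -- elements of `L0` outside `D` centralise no non-trivial element of `P`
  have hfpf : ∀ g ∈ L0, g ∉ D → ∀ p ∈ P, g * p * g⁻¹ = p → p = 1 := by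
    intro g hg hgD p hp e
    refine hinj p hp 1 (one_mem P) ?_
    rw [one_smul]
    refine hOne g hgD _ _ ?_ hg.1
    rw [← hconjα g hg p hp, e]
  have hfaith : ∀ g ∈ L0, (∀ p ∈ P, g * p * g⁻¹ = p) → g = 1 := by
    intro g hg hall
    refine eq_of_smul_eq_smul (α := Ω) fun x => ?_
    obtain ⟨p, hp, rfl⟩ := hreg x
    rw [one_smul, ← hconjα g hg p hp, hall p hp]
  -- irreducibility
  have hirr : ∀ L : Subgroup G, L ≤ L0 → D ⊔ L = ⊤ → ∀ W : Subgroup G, W ≤ P →
      (∀ g ∈ L, ∀ w ∈ W, g * w * g⁻¹ ∈ W) → W = ⊥ ∨ W = P := by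
    intro L hL hcovL W hWP hWinv
    by_contra hcon
    rw [not_or] at hcon
    apply hb
    refine bound_of_orbit D W L hOne (hWP.trans hPD) α (fun g hg => (hL hg).1) (fun g hg => ?_) hcovL ?_ ?_
      fun x => ?_
    · rw [Subgroup.mem_normalizer_iff]
      refine fun w => ⟨hWinv g hg w, fun hw => ?_⟩
      simpa [mul_assoc] using hWinv g⁻¹ (inv_mem hg) _ hw
    · by_contra hh
      push Not at hh
      refine hcon.1 ((Subgroup.eq_bot_iff_forall _).2 fun w hw => ?_)
      exact hinj w (hWP hw) 1 (one_mem P) (by rw [hh w hw, one_smul])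
    · by_contra hh
      push Not at hh
      refine hcon.2 (le_antisymm hWP fun p hp => ?_)
      obtain ⟨⟨w, hw⟩, hwp⟩ := hh (p • α)
      exact hinj w (hWP hw) p hp hwp ▸ hw
    · obtain ⟨p, hp, rfl⟩ := hreg x
      refine le_of_eq ?_
      have : orbit W (p • α) = p • orbit W α := by
        ext z
        constructor
        · rintro ⟨w, rfl⟩
          refine ⟨(w : G) • α, ⟨w, rfl⟩, ?_⟩
          show p • (w : G) • α = (w : G) • p • α
          rw [← mul_smul, ← mul_smul, hPc p hp w (hWP w.2)]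
        · rintro ⟨_, ⟨w, rfl⟩, rfl⟩
          refine ⟨w, ?_⟩
          show (w : G) • p • α = p • (w : G) • α
          rw [← mul_smul, ← mul_smul, hPc p hp w (hWP w.2)]
      rw [this, ← Set.image_smul, Set.ncard_image_of_injective _ (MulAction.injective p)]
  have hcardP : Nat.card P = Nat.card Ω :=
    Nat.card_congr (Equiv.ofBijective (fun p : P => (p : G) • α)
      ⟨fun a b e => Subtype.ext (hinj a a.2 b b.2 e), fun x => by
        obtain ⟨p, hp, hx⟩ := hreg x; exact ⟨⟨p, hp⟩, hx⟩⟩)
  by_cases hlin : ∃ h ∈ L0, h ∈ D ∧ h ≠ 1 ∧ ∃ p ∈ P, p ≠ 1 ∧ h * p * h⁻¹ = p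
  · -- the linear case
    exfalso
    obtain ⟨h, hhL, hhD, hh1, v₀, hv₀, hv₀1, hhv⟩ := hlin
    obtain ⟨s, hs, hsdvd⟩ := Nat.exists_prime_and_dvd (mt orderOf_eq_one_iff.1 hh1)
    haveI := Fact.mk hs
    set d := h ^ (orderOf h / s) with hd
    have hdord : orderOf d = s := orderOf_pow_orderOf_div (orderOf_pos h).ne' hsdvd
    have hds : d ^ s = 1 := hdord ▸ pow_orderOf_eq_one d
    have hd1 : d ≠ 1 := fun e => hs.one_lt.ne' (by rw [← hdord, e, orderOf_one])
    letI : CommGroup P := { (inferInstance : Group P) with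
      mul_comm := fun a b => Subtype.ext (hPc a a.2 b b.2) }
    letI : MulDistribMulAction L0 P :=
      { smul := fun g p => ⟨(g : G) * p * (g : G)⁻¹, hnP g g.2 p p.2⟩
        one_smul := fun p => Subtype.ext (show (1 : G) * p * (1 : G)⁻¹ = p by group)
        mul_smul := fun g g' p => Subtype.ext (show ((g : G) * g') * p * ((g : G) * g')⁻¹ =
          (g : G) * ((g' : G) * p * (g' : G)⁻¹) * (g : G)⁻¹ by group)
        smul_one := fun g => Subtype.ext (show (g : G) * (1 : G) * (g : G)⁻¹ = 1 by group)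
        smul_mul := fun g p q => Subtype.ext (show (g : G) * ((p : G) * q) * (g : G)⁻¹ =
          (g : G) * p * (g : G)⁻¹ * ((g : G) * q * (g : G)⁻¹) by group) }
    set H := D.subgroupOf L0 with hH
    haveI : H.Normal := (inferInstance : D.Normal).comap L0.subtype
    set dd : L0 := ⟨h, hhL⟩ ^ (orderOf h / s) with hdd
    have hddH : dd ∈ H := pow_mem (show (⟨h, hhL⟩ : L0) ∈ H from hhD) _
    have hddG : (dd : G) = d := by simp [hdd, hd]
    obtain ⟨S, hS⟩ : ∃ S : Sylow s H, (⟨dd, hddH⟩ : H) ∈ (S : Subgroup H) := by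
      have hp : IsPGroup s (Subgroup.zpowers (⟨dd, hddH⟩ : H)) := by
        refine IsPGroup.of_card (n := 1) ?_
        rw [Nat.card_zpowers, pow_one, ← Subgroup.orderOf_coe, ← Subgroup.orderOf_coe]
        exact hddG ▸ hdord
      obtain ⟨S, hS⟩ := hp.exists_le_sylow
      exact ⟨S, hS (Subgroup.mem_zpowers _)⟩
    set S' := (S : Subgroup H).map H.subtype with hS'
    have hS'p : IsPGroup s S' := S.2.map _
    have hS'max : ∀ R : Subgroup L0, IsPGroup s R → R ≤ H → Nat.card R ≤ Nat.card S' := by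
      intro R hR hRH
      obtain ⟨S₂, hS₂⟩ := (hR.comap_of_injective H.subtype H.subtype_injective).exists_le_sylow
      rw [hS', Subgroup.card_map_of_injective H.subtype_injective,
        ← Nat.card_congr (Subgroup.subgroupOfEquivOfLe hRH).toEquiv, Sylow.card_eq_multiplicity S,
        ← Sylow.card_eq_multiplicity S₂]
      exact Subgroup.card_le_of_le hS₂
    set N := Subgroup.normalizer (S' : Set L0) with hN
    have hHN : H ⊔ N = ⊤ := by
      have h1 := le_sup_normalizer (T := ⊤) (le_top : H ≤ ⊤) (le_of_eq (Subgroup.normalizer_eq_top_iff.2 inferInstance).symm)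
        hS'p (Subgroup.map_subtype_le _) hS'max
      rw [top_inf_eq] at h1
      exact top_le_iff.1 h1
    have hcovN : D ⊔ N.map L0.subtype = ⊤ := by
      rw [eq_top_iff, ← hcov]
      refine sup_le le_sup_left fun g hg => ?_
      have h1 : (⟨g, hg⟩ : L0) ∈ H ⊔ N := by rw [hHN]; trivial
      obtain ⟨a, ha, b, hb', hab⟩ := Subgroup.mem_sup_of_normal_left.1 h1
      have : (a : G) * b = g := congrArg Subtype.val hab
      rw [← this]
      exact Subgroup.mul_mem _ (Subgroup.mem_sup_left ha) (Subgroup.mem_sup_right ⟨b, hb', rfl⟩)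
    haveI : FaithfulSMul L0 P := ⟨fun {g g'} e => by
      refine Subtype.ext (inv_mul_eq_one.1 (hfaith _ (mul_mem (inv_mem g.2) g'.2) fun p hp => ?_))
      have e1 : (g : G) * p * (g : G)⁻¹ = (g' : G) * p * (g' : G)⁻¹ := congrArg Subtype.val (e ⟨p, hp⟩)
      calc (g : G)⁻¹ * g' * p * ((g : G)⁻¹ * g')⁻¹ = (g : G)⁻¹ * ((g' : G) * p * (g' : G)⁻¹) * g := by group
        _ = p := by rw [← e1]; group⟩
    haveI : FaithfulSMul N P := ⟨fun {g g'} e => Subtype.ext (eq_of_smul_eq_smul (α := P) e)⟩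
    have hidx : (H.subgroupOf N).index = D.index := by
      show H.relIndex N = D.index
      rw [relIndex_eq_index H N hHN]
      show D.relIndex L0 = D.index
      exact relIndex_eq_index D L0 hcov
    haveI : (S'.subgroupOf N).Normal := Subgroup.normal_in_normalizer
    have hbound := bound_of_pgroup (V := P) (H.subgroupOf N) (S'.subgroupOf N) hs
      (hS'p.comap_of_injective N.subtype N.subtype_injective)
      (Subgroup.comap_mono (Subgroup.map_subtype_le _))
      (fun g hg v hv => Subtype.ext (hfpf _ (g : L0).2 (fun hgD => hg hgD) v v.2 (congrArg Subtype.val hv)))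
      (fun W hW => by
        rcases hirr _ (Subgroup.map_subtype_le N) hcovN (W.map P.subtype) (Subgroup.map_subtype_le W) (by
            rintro _ ⟨g, hg, rfl⟩ _ ⟨w, hw, rfl⟩
            exact ⟨(⟨g, hg⟩ : N) • w, hW ⟨g, hg⟩ w hw, rfl⟩) with e | e
        · exact Or.inl ((Subgroup.map_eq_bot_iff_of_injective _ P.subtype_injective).1 e)
        · refine Or.inr (eq_top_iff.2 fun p _ => ?_)
          have h2 : (p : G) ∈ W.map P.subtype := by rw [e]; exact p.2
          obtain ⟨q, hq, hqp⟩ := h2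
          exact Subtype.ext hqp ▸ hq)
      (fun v hv => by
        have hsr : s ≠ r := by
          intro e
          have hp : IsPGroup r (Subgroup.zpowers d) :=
            IsPGroup.of_card (n := 1) (by rw [Nat.card_zpowers, pow_one, hdord, e])
          have h2 := hDα _ hp (Subgroup.zpowers_le.2 (Subgroup.mem_inf.2 ⟨pow_mem hhD _, pow_mem hhL.1 _⟩))
          exact hd1 (Subgroup.zpowers_eq_bot.1 h2)
        have h1 : v ^ r = 1 := Subtype.ext (by simpa using hPexp v v.2)
        have h2 := Nat.dvd_gcd (orderOf_dvd_of_pow_eq_one hv) (orderOf_dvd_of_pow_eq_one h1)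
        rw [(Nat.coprime_primes hs hrp.out).2 hsr] at h2
        exact orderOf_eq_one_iff.1 (Nat.dvd_one.1 h2))
      (d := ⟨dd, Subgroup.le_normalizer ⟨⟨dd, hddH⟩, hS, rfl⟩⟩) ⟨⟨dd, hddH⟩, hS, rfl⟩
      (fun e => hd1 (hddG ▸ congrArg (fun t : N => ((t : L0) : G)) e))
      (v₀ := ⟨v₀, hv₀⟩) (fun e => hv₀1 (congrArg Subtype.val e))
      (Subtype.ext (show (dd : G) * v₀ * (dd : G)⁻¹ = v₀ by
        rw [hddG, hd, mul_inv_eq_iff_eq_mul]
        exact (Commute.pow_left (show Commute h v₀ from mul_inv_eq_iff_eq_mul.1 hhv) _).eq))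
    rw [hidx, hcardP] at hbound
    exact hb hbound
  push Not at hlin
  -- every non-trivial element of `L0` is fixed point free on `P`
  have hfree : ∀ g ∈ L0, g ≠ 1 → ∀ p ∈ P, g * p * g⁻¹ = p → p = 1 := by
    intro g hg hg1 p hp e
    by_cases hgD : g ∈ D
    · by_contra hp1
      exact hlin g hg hgD hg1 p hp hp1 e
    · exact hfpf g hg hgD p hp e
  by_cases hDP : D ≤ Subgroup.normalizer (P : Set G)
  · -- Frobenius groups
    have hPn : P.Normal := Subgroup.normalizer_eq_top_iff.1
      (top_le_iff.1 (hcov ▸ sup_le hDP inf_le_right))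
    have hne : P ≠ ⊥ := fun e => by
      have h1 := hcardP
      rw [e, Subgroup.card_bot] at h1
      omega
    have hstab : ∀ g : G, g • α = α → g ∈ L0 := fun g hg =>
      Subgroup.mem_inf.2 ⟨hg, Subgroup.mem_normalizer_iff.2 fun p => ⟨fun hp => hPn.conj_mem p hp g,
        fun hp => by simpa [mul_assoc] using hPn.conj_mem _ hp g⁻¹⟩⟩
    refine ⟨⟨P, hPn, ⟨⟨fun a b => Subtype.ext (hPc a a.2 b b.2)⟩⟩, hne⟩, ?_, htr, ?_, ?_⟩
    · refine IsPreprimitive.of_isTrivialBlock_base α fun {B} hαB hB => ?_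
      have hblock : ∀ g : G, g • α ∈ B → g • B = B := fun g hg => hB.smul_eq_of_nonempty
        ⟨g • α, Set.smul_mem_smul_set hαB, hg⟩
      let W : Subgroup G :=
        { carrier := {p | p ∈ P ∧ p • α ∈ B}
          one_mem' := ⟨P.one_mem, by rwa [one_smul]⟩
          mul_mem' := fun {p q} hp hq => ⟨mul_mem hp.1 hq.1, by
            rw [mul_smul, ← hblock p hp.2]; exact Set.smul_mem_smul_set hq.2⟩
          inv_mem' := fun {p} hp => ⟨inv_mem hp.1, by
            have h1 := Set.smul_mem_smul_set (a := p⁻¹) (show α ∈ p • B by rw [hblock p hp.2]; exact hαB)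
            rwa [inv_smul_smul] at h1⟩ }
      rcases hirr L0 le_rfl hcov W (fun p hp => hp.1) (fun g hg w hw => ⟨hnP g hg w hw.1, by
          rw [hconjα g hg w hw.1, ← hblock g (by rw [hg.1]; exact hαB)]
          exact Set.smul_mem_smul_set hw.2⟩) with e | e
      · refine Or.inl fun x hx y hy => ?_
        have key : ∀ z ∈ B, z = α := by
          intro z hz
          obtain ⟨p, hp, rfl⟩ := hreg z
          have h1 : p ∈ W := ⟨hp, hz⟩
          rw [e, Subgroup.mem_bot] at h1
          rw [h1, one_smul]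
        rw [key x hx, key y hy]
      · refine Or.inr (Set.eq_univ_of_forall fun z => ?_)
        obtain ⟨p, hp, rfl⟩ := hreg z
        have h1 : p ∈ W := e ▸ hp
        exact h1.2
    · obtain ⟨g, hg, hgD⟩ : ∃ g ∈ L0, g ∉ D := by
        by_contra hh
        push Not at hh
        rw [sup_eq_left.2 hh] at hcov
        rw [hcov, Subgroup.index_top] at hm2
        omega
      exact ⟨g, fun e => hgD (e ▸ D.one_mem), α, hg.1⟩
    · intro g hg1
      rw [Finite.card_le_one_iff_subsingleton]
      refine ⟨fun ⟨x, hx⟩ ⟨y, hy⟩ => Subtype.ext ?_⟩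
      obtain ⟨p, hp, rfl⟩ := hreg x
      obtain ⟨q, hq, rfl⟩ := hreg y
      set g' := p⁻¹ * g * p with hg'
      have hg'α : g' • α = α := by
        rw [hg', mul_smul, mul_smul, (hx : g • p • α = p • α), inv_smul_smul]
      have hg'1 : g' ≠ 1 := fun e => hg1 (by
        rw [show g = p * g' * p⁻¹ by rw [hg']; group, e]; group)
      have hpq : p⁻¹ * q ∈ P := mul_mem (inv_mem hp) hq
      have h1 := hfree g' (hstab g' hg'α) hg'1 _ hpq (hinj _ (hnP g' (hstab g' hg'α) _ hpq) _ hpq (by
        rw [hconjα g' (hstab g' hg'α) _ hpq, hg', mul_smul p⁻¹ q, mul_smul, smul_inv_smul, mul_smul,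
          (hy : g • q • α = q • α)]))
      show p • α = q • α
      rw [inv_mul_eq_one.1 h1]
  · -- the character case
    exfalso
    apply hb
    set K : Subgroup G := Subgroup.closure {g | g ∈ D ∧ ∃ i : ℕ, g ^ r ^ i = 1} with hK
    have hKD : K ≤ D := (Subgroup.closure_le _).2 fun g hg => hg.1
    haveI hKn : K.Normal := by
      refine ⟨fun k hk g => ?_⟩
      suffices K ≤ K.comap (MulAut.conj g).toMonoidHom from this hk
      rw [hK, Subgroup.closure_le]
      rintro x ⟨hxD, i, hi⟩
      refine Subgroup.subset_closure ⟨Subgroup.Normal.conj_mem inferInstance x hxD g, i, ?_⟩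
      show (MulAut.conj g x) ^ r ^ i = 1
      rw [← map_pow, hi, map_one]
    have hPK : P ≤ K := fun p hp =>
      Subgroup.subset_closure ⟨hPD hp, 1, by rw [pow_one]; exact hPexp p hp⟩
    set PK := P.subgroupOf K with hPKdef
    haveI : FaithfulSMul K Ω := ⟨fun {g g'} e => Subtype.ext (eq_of_smul_eq_smul (α := Ω) e)⟩
    have hcardPK : Nat.card PK = Nat.card P := Nat.card_congr (Subgroup.subgroupOfEquivOfLe hPK).toEquiv
    have hreg' : RegSylow r α PK := by
      refine ⟨hrp.out, hPr.comap_of_injective K.subtype K.subtype_injective,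
        fun a ha b hb' => Subtype.ext (hPc a ha b hb'), fun x => ?_, ?_, fun Q hQ => ?_, ?_, ?_, ?_⟩
      · obtain ⟨p, hp, hx⟩ := hreg x; exact ⟨⟨p, hPK hp⟩, hp, hx⟩
      · refine (Subgroup.eq_bot_iff_forall _).2 fun x hx => Subtype.ext ?_
        have h1 : (x : G) ∈ P ⊓ stabilizer G α := Subgroup.mem_inf.2 ⟨hx.1, hx.2⟩
        rw [hbot] at h1
        exact h1
      · rw [hcardPK, ← Subgroup.card_map_of_injective K.subtype_injective]
        exact hsyl _ (hQ.map _) ((Subgroup.map_subtype_le Q).trans hKD)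
      · intro N hN hPN
        have hsub : ∀ g ∈ K, ∀ i : ℕ, g ^ r ^ i = 1 → ∀ hg : g ∈ K, (⟨g, hg⟩ : K) ∈ N := by
          intro g _ i hi hg
          have hpz : IsPGroup r (Subgroup.zpowers g) := by
            obtain ⟨j, -, hj⟩ := (Nat.dvd_prime_pow hrp.out).1 (orderOf_dvd_of_pow_eq_one hi)
            exact IsPGroup.of_card (n := j) (by rw [Nat.card_zpowers, hj])
          obtain ⟨R, hR, hRK, hgR, hRc⟩ : ∃ R : Subgroup G, IsPGroup r R ∧ R ≤ K ∧ g ∈ R ∧ Nat.card P ≤ Nat.card R := by
            obtain ⟨S₁, hS₁⟩ := (hpz.comap_of_injective K.subtype K.subtype_injective).exists_le_sylow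
            obtain ⟨S₂, hS₂⟩ := (hPr.comap_of_injective K.subtype K.subtype_injective).exists_le_sylow
            refine ⟨(S₁ : Subgroup K).map K.subtype, S₁.2.map _, Subgroup.map_subtype_le _,
              ⟨⟨g, hg⟩, hS₁ (Subgroup.mem_zpowers g), rfl⟩, ?_⟩
            rw [Subgroup.card_map_of_injective K.subtype_injective, ← hcardPK, Sylow.card_eq_multiplicity S₁,
              ← Sylow.card_eq_multiplicity S₂]
            exact Subgroup.card_le_of_le hS₂
          obtain ⟨e, he, hRe⟩ := exists_conj_of_max hPr hPK (fun Q hQ hQK => hsyl Q hQ (hQK.trans hKD)) hR hRK hRc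
          rw [hRe] at hgR
          obtain ⟨p, hp, hpg⟩ := hgR
          have h1 := hN.conj_mem ⟨p, hPK hp⟩ (hPN hp) ⟨e, he⟩
          convert! h1 using 1
          exact Subtype.ext hpg.symm
        refine eq_top_iff.2 fun x _ => ?_
        have h1 : ∀ y : G, y ∈ K → y ∈ N.map K.subtype := by
          intro y hy
          refine (Subgroup.closure_le _).2 ?_ (hK ▸ hy : y ∈ Subgroup.closure _)
          rintro g ⟨hgD, i, hi⟩
          have hgK : g ∈ K := Subgroup.subset_closure ⟨hgD, i, hi⟩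
          exact ⟨⟨g, hgK⟩, hsub g hgK i hi hgK, rfl⟩
        obtain ⟨y, hy, hyx⟩ := h1 x x.2
        exact Subtype.ext hyx ▸ hy
      · intro hn'
        refine hDP fun d hd => Subgroup.mem_normalizer_iff.2 ?_
        have key : ∀ d ∈ D, ∀ p ∈ P, d * p * d⁻¹ ∈ P := by
          intro d hd p hp
          set Q := P.map (MulAut.conj d).toMonoidHom with hQ
          have hQK : Q ≤ K := by
            rintro _ ⟨q, hq, rfl⟩
            exact hKn.conj_mem q (hPK hq) d
          have hQn : Q ≤ Subgroup.normalizer (P : Set G) := by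
            intro x hx
            rw [Subgroup.mem_normalizer_iff]
            intro y
            refine ⟨fun hy => hn'.conj_mem ⟨y, hPK hy⟩ hy ⟨x, hQK hx⟩, fun hy => ?_⟩
            have h2 : x⁻¹ * (x * y * x⁻¹) * x⁻¹⁻¹ ∈ P :=
              hn'.conj_mem ⟨x * y * x⁻¹, hPK hy⟩ hy (⟨x, hQK hx⟩ : K)⁻¹
            simpa [mul_assoc] using h2
          have h2 : IsPGroup r (P ⊔ Q : Subgroup G) := by
            rw [sup_comm]; exact (hPr.map _).to_sup_of_normal_right' hPr hQn
          have h3 := Subgroup.eq_of_le_of_card_ge (le_sup_left : P ≤ P ⊔ Q)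
            (hsyl _ h2 (sup_le hPD (hQK.trans hKD)))
          rw [h3]
          exact Subgroup.mem_sup_right ⟨p, hp, rfl⟩
        refine fun p => ⟨key d hd p, fun hp => ?_⟩
        simpa [mul_assoc] using key d⁻¹ (inv_mem hd) _ hp
      · intro g hgα hgn hg1 p hp e
        refine Subtype.ext (hfree g ?_ (fun e1 => hg1 (Subtype.ext e1)) p hp ?_)
        · refine Subgroup.mem_inf.2 ⟨hgα, Subgroup.mem_normalizer_iff.2 fun y => ⟨fun hy =>
            (Subgroup.mem_normalizer_iff.1 hgn ⟨y, hPK hy⟩).1 hy, fun hy => ?_⟩⟩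
          have hyK : y ∈ K := by
            have := mul_mem (mul_mem (inv_mem g.2) (hPK hy)) g.2
            simpa [mul_assoc] using this
          exact (Subgroup.mem_normalizer_iff.1 hgn ⟨y, hyK⟩).2 hy
        · have e1 : (g : G) * p = p * g := congrArg Subtype.val e
          rw [e1, mul_inv_cancel_right]
    refine hreg'.bound D.index hm2 hn fun x hx => ?_
    -- suborbits
    set A : Subgroup G := K ⊓ stabilizer G α with hA
    have horbA : ∀ y : Ω, orbit (stabilizer K α) y = orbit A y := by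
      intro y; ext z
      constructor
      · rintro ⟨⟨k, hk⟩, rfl⟩; exact ⟨⟨k, k.2, hk⟩, rfl⟩
      · rintro ⟨⟨k, hkK, hk⟩, rfl⟩; exact ⟨⟨⟨k, hkK⟩, hk⟩, rfl⟩
    have hAn : ∀ g : G, g • α = α → ∀ a ∈ A, g * a * g⁻¹ ∈ A := fun g hg a ha =>
      Subgroup.mem_inf.2 ⟨hKn.conj_mem a ha.1 g, by
        show (g * a * g⁻¹) • α = α
        rw [mul_smul, mul_smul, inv_smul_eq_iff.2 hg.symm, ha.2, hg]⟩
    have hsm : ∀ g : G, g • α = α → ∀ y : Ω, g • orbit A y = orbit A (g • y) := by
      intro g hg y; ext z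
      constructor
      · rintro ⟨_, ⟨a, rfl⟩, rfl⟩
        refine ⟨⟨_, hAn g hg a a.2⟩, ?_⟩
        show (g * (a : G) * g⁻¹) • g • y = g • (a : G) • y
        rw [mul_smul, mul_smul, inv_smul_smul]
      · rintro ⟨a, rfl⟩
        have hg' : g⁻¹ • α = α := inv_smul_eq_iff.2 hg.symm
        refine ⟨(g⁻¹ * (a : G) * g) • y, ⟨⟨_, by simpa using hAn g⁻¹ hg' a a.2⟩, rfl⟩, ?_⟩
        show g • (g⁻¹ * (a : G) * g) • y = (a : G) • g • y
        rw [← mul_smul, ← mul_smul]; group
    let f : L0 → Set Ω := fun g => orbit A ((g : G) • x)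
    haveI := Fintype.ofFinite L0
    refine ⟨Finset.univ.image f, ?_, fun o ho => ?_⟩
    · have h1 := mul_le_ncard L0 D (⊥ : Subgroup G) (Set.range f)
        (fun g hg o ho => by
          obtain ⟨g', rfl⟩ := ho
          exact ⟨⟨g, hg⟩ * g', by show orbit A ((g * (g' : G)) • x) = g • orbit A ((g' : G) • x); rw [hsm g hg.1, mul_smul]⟩)
        (f 1) ⟨1, rfl⟩ (fun g hg hgo => by
          by_contra hgD
          have hgo' : g • orbit A x = orbit A x := by
            simpa [f] using hgo
          obtain ⟨z, hz, hgz⟩ := exists_fixed_in_orbit D A hOne (inf_le_left.trans hKD) hgD (hAn g hg.1) x (by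
            rw [← hgo']; exact Set.smul_mem_smul_set (mem_orbit_self x))
          rw [hOne g hgD z α hgz hg.1] at hz
          obtain ⟨a, ha⟩ := hz
          exact hx (smul_left_cancel (a : G) ((ha : (a : G) • x = α).trans a.2.2.symm)))
        bot_le bot_le
      rw [relIndex_eq_index D L0 hcov] at h1
      have hpos : 0 < (orbit (⊥ : Subgroup G) (f 1)).ncard := (Set.ncard_pos (Set.toFinite _)).2 ⟨_, mem_orbit_self _⟩
      refine le_trans (le_trans (Nat.le_mul_of_pos_right _ hpos) h1) (le_of_eq ?_)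
      rw [← Set.ncard_coe_finset, Finset.coe_image, Finset.coe_univ, Set.image_univ]
    · obtain ⟨g, -, rfl⟩ := Finset.mem_image.1 ho
      refine ⟨(g : G) • x, fun e => hx (smul_left_cancel (g : G) (e.trans g.2.1.symm)), (horbA _).symm, ?_⟩
      rw [horbA]
      show (orbit A ((g : G) • x)).ncard = _
      rw [← hsm g g.2.1 x, ← Set.image_smul, Set.ncard_image_of_injective _ (MulAction.injective _)]

end Cfsg.Agent.Lib.DerangedIndex
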