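import Cfsg.Agent.Lib.Chars.Ops
import Cfsg.Agent.Lib.Chars.Induced
import Cfsg.Agent.Lib.Chars.PermChar

/-!
# Multiplicities of linear characters in restrictions to an abelian subgroup
-/

set_option autoImplicit false
set_option linter.unusedSectionVars false

namespace Cfsg.Agent.Lib.DerangedIndex

open Chars
open scoped ComplexConjugate

universe u

variable {K : Type u} [Group K] [Fintype K] (P : Subgroup K) [Fintype P] [IsMulCommutative P]

instance finite_linChar : Finite (P →* ℂˣ) := by
  refine Nat.finite_of_card_ne_zero ?_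
  rw [card_monoidHom_units]
  exact Subgroup.index_ne_zero_of_finite

noncomputable instance fintype_linChar : Fintype (P →* ℂˣ) := Fintype.ofFinite _

variable {P}

theorem card_linChar : Fintype.card (P →* ℂˣ) = Nat.card P := by
  rw [← Nat.card_eq_fintype_card, card_monoidHom_units]
  have h : commutator P = ⊥ := by
    rw [commutator_def, Subgroup.commutator_eq_bot_iff_le_centralizer]
    exact fun a _ => Subgroup.mem_centralizer_iff.2 fun b _ => mul_comm' b a
  rw [h, Subgroup.index_bot]

theorem classInner_lin [DecidableEq (P →* ℂˣ)] (l m : P →* ℂˣ) :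
    classInner (fun p : P => (l p : ℂ)) (fun p => (m p : ℂ)) = if l = m then 1 else 0 := by
  classical
  have h := classInner_irr (linIrr l) (linIrr m)
  simp only [linIrr_injective.eq_iff] at h
  exact h.trans (by split_ifs <;> rfl)

theorem conj_lin (l : P →* ℂˣ) (p : P) : conj (l p : ℂ) = ((l⁻¹ : P →* ℂˣ) p : ℂ) := by
  rw [MonoidHom.inv_apply, Units.val_inv_eq_inv_val, Complex.inv_def, Complex.normSq_eq_norm_sq, norm_hom_apply]
  simp

variable (P)

/-- Multiplicity of the linear character `l` in the restriction of `f` to `P`, when that is a natural number. -/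
noncomputable def multInner (f : K → ℂ) (l : P →* ℂˣ) : ℂ :=
  classInner (fun p : P => f p) (fun p => (l p : ℂ))

theorem multInner_add (f g : K → ℂ) (l : P →* ℂˣ) :
    multInner P (f + g) l = multInner P f l + multInner P g l :=
  classInner_add_left (fun p : P => f p) (fun p => g p) _

theorem multInner_sum {ι : Type*} (s : Finset ι) (f : ι → K → ℂ) (l : P →* ℂˣ) :
    multInner P (∑ i ∈ s, f i) l = ∑ i ∈ s, multInner P (f i) l := by
  unfold multInner
  rw [← classInner_sum_left s (fun i (p : P) => f i p)]
  congr 1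
  funext p
  simp [Finset.sum_apply]

theorem multInner_smul (c : ℂ) (f : K → ℂ) (l : P →* ℂˣ) : multInner P (c • f) l = c * multInner P f l :=
  classInner_smul_left c (fun p : P => f p) _

/-- The multiplicity of `l` in a character restricted to `P`. -/
noncomputable def mult (ψ : IrrCharacter K) (l : P →* ℂˣ) : ℕ :=
  Classical.choose (isCharacter_classInner_nat (isCharacter_restrict P (irr_isCharacter ψ)) (isCharacter_hom l))

theorem multInner_irr (ψ : IrrCharacter K) (l : P →* ℂˣ) : multInner P (ψ : K → ℂ) l = (mult P ψ l : ℂ) :=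
  Classical.choose_spec
    (isCharacter_classInner_nat (isCharacter_restrict P (irr_isCharacter ψ)) (isCharacter_hom l))

variable {P}

/-- A class function on the abelian group `P` is a combination of its linear characters. -/
theorem apply_eq_sum_lin (f : P → ℂ) (p : P) :
    f p = ∑ l : P →* ℂˣ, classInner f (fun q => (l q : ℂ)) * (l p : ℂ) := by
  classical
  have hf : IsClassFunction P f := fun a b => by rw [mul_comm' b a, mul_inv_cancel_right]
  rw [isClassFunction_apply_eq_sum_classInner hf p]
  symm
  refine Fintype.sum_bijective (fun l : P →* ℂˣ => linIrr l)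
    ⟨linIrr_injective, fun χ => ?_⟩ _ _ (fun l => rfl)
  obtain ⟨φ, hφ⟩ := exists_hom_of_degree_one (irr_isCharacter χ) (irr_apply_one_of_comm χ)
  exact ⟨φ, Subtype.ext hφ.symm⟩

theorem apply_eq_sum_mult (ψ : IrrCharacter K) (p : P) :
    (ψ : K → ℂ) p = ∑ l : P →* ℂˣ, (mult P ψ l : ℂ) * (l p : ℂ) := by
  simp only [← multInner_irr]
  exact apply_eq_sum_lin (fun q : P => (ψ : K → ℂ) q) p

/-- The degree is the sum of the multiplicities. -/
theorem sum_mult (ψ : IrrCharacter K) {d : ℕ} (hd : (ψ : K → ℂ) 1 = d) :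
    ∑ l : P →* ℂˣ, mult P ψ l = d := by
  have h := apply_eq_sum_mult ψ (1 : P)
  simp only [map_one, Units.val_one, mul_one, OneMemClass.coe_one] at h
  rw [hd] at h
  exact_mod_cast h.symm

/-- The multiplicities in a product of restricted functions with given expansions. -/
theorem multInner_mul [DecidableEq (P →* ℂˣ)] (f g : K → ℂ) (a b : (P →* ℂˣ) → ℂ)
    (hf : ∀ p : P, f p = ∑ l : P →* ℂˣ, a l * (l p : ℂ)) (hg : ∀ p : P, g p = ∑ l : P →* ℂˣ, b l * (l p : ℂ))
    (ν : P →* ℂˣ) : multInner P (f * g) ν = ∑ l, ∑ l', if l * l' = ν then a l * b l' else 0 := by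
  have h1 : (fun p : P => (f * g) p) = ∑ l : P →* ℂˣ, ∑ l' : P →* ℂˣ,
      (a l * b l') • fun p : P => ((l * l') p : ℂ) := by
    funext p
    simp only [Pi.mul_apply, hf p, hg p, Finset.sum_mul_sum, Finset.sum_apply, Pi.smul_apply, smul_eq_mul,
      MonoidHom.mul_apply, Units.val_mul]
    exact Finset.sum_congr rfl fun l _ => Finset.sum_congr rfl fun l' _ => by ring
  unfold multInner
  rw [h1, classInner_sum_left]
  refine Finset.sum_congr rfl fun l _ => ?_
  rw [classInner_sum_left]
  refine Finset.sum_congr rfl fun l' _ => ?_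
  rw [classInner_smul_left, classInner_lin, mul_ite, mul_one, mul_zero]

theorem conj_apply_eq_sum (f : K → ℂ) (a : (P →* ℂˣ) → ℂ)
    (hf : ∀ p : P, f p = ∑ l : P →* ℂˣ, a l * (l p : ℂ)) (p : P) :
    conj (f p) = ∑ l : P →* ℂˣ, conj (a l⁻¹) * (l p : ℂ) := by
  rw [hf p, map_sum]
  refine Fintype.sum_equiv (Equiv.inv _) _ _ fun l => ?_
  rw [Equiv.inv_apply, inv_inv, map_mul, conj_lin]

end Cfsg.Agent.Lib.DerangedIndex
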