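import Cfsg.Agent.Lib.DerangedIndex.RegSylow

/-!
# Action of the fixed point free part on linear characters; induced differences
-/

set_option autoImplicit false
set_option linter.unusedSectionVars false

namespace Cfsg.Agent.Lib.DerangedIndex

open MulAction Chars
open scoped Pointwise ComplexConjugate

universe u v

variable {K : Type u} [Group K]

/-- Conjugation by an element normalising `P`, restricted to `P`. -/
def conjHom (P : Subgroup K) (g : K) (hg : g ∈ Subgroup.normalizer (P : Set K)) : P →* P where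
  toFun p := ⟨g * p * g⁻¹, (Subgroup.mem_normalizer_iff.1 hg p).1 p.2⟩
  map_one' := Subtype.ext (by simp)
  map_mul' a b := Subtype.ext (by
    show g * ((a : K) * b) * g⁻¹ = g * (a : K) * g⁻¹ * (g * (b : K) * g⁻¹)
    group)

theorem conjHom_apply (P : Subgroup K) (g : K) (hg : g ∈ Subgroup.normalizer (P : Set K)) (p : P) :
    (conjHom P g hg p : K) = g * p * g⁻¹ := rfl

theorem mult_comp_conjHom [Fintype K] (P : Subgroup K) [Fintype P] [IsMulCommutative P] (ψ : IrrCharacter K)
    (g : K) (hg : g ∈ Subgroup.normalizer (P : Set K)) (l : P →* ℂˣ) :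
    mult P ψ (l.comp (conjHom P g hg)) = mult P ψ l := by
  have h : multInner P (ψ : K → ℂ) (l.comp (conjHom P g hg)) = multInner P (ψ : K → ℂ) l := by
    simp only [multInner, classInner]
    congr 1
    have hbij : Function.Bijective (conjHom P g hg) := by
      rw [← Finite.injective_iff_bijective]
      intro a b e
      have e' : g * (a : K) * g⁻¹ = g * (b : K) * g⁻¹ := congrArg Subtype.val e
      exact Subtype.ext (mul_left_cancel (mul_right_cancel e'))
    refine Fintype.sum_bijective _ hbij _ _ fun p => ?_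
    rw [conjHom_apply, irr_isClassFunction ψ (p : K) g, MonoidHom.comp_apply]
  rw [multInner_irr, multInner_irr] at h
  exact_mod_cast h

variable [Fintype K] {Ω : Type v} [MulAction K Ω] [Finite Ω] [FaithfulSMul K Ω]
  {r : ℕ} {α : Ω} {P : Subgroup K} [IsMulCommutative P]

variable (α P) in
/-- The fixed point free part of the normaliser. -/
abbrev fpPart : Subgroup K := stabilizer K α ⊓ Subgroup.normalizer (P : Set K)

/-- The transform of a linear character by an element of the fixed point free part. -/
def twist (g : fpPart α P) (l : P →* ℂˣ) : P →* ℂˣ := l.comp (conjHom P g g.2.2)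

theorem twist_twist (g g' : fpPart α P) (l : P →* ℂˣ) : twist g (twist g' l) = twist (g' * g) l := by
  ext p
  simp only [twist, MonoidHom.comp_apply]
  congr 2
  exact Subtype.ext (by
    show (g' : K) * ((g : K) * p * (g : K)⁻¹) * (g' : K)⁻¹ = ((g' : K) * g) * p * ((g' : K) * g)⁻¹
    group)

theorem twist_one (l : P →* ℂˣ) : twist (1 : fpPart α P) l = l := by
  ext p
  simp only [twist, MonoidHom.comp_apply]
  congr 2
  exact Subtype.ext (by simp [conjHom_apply])

theorem twist_trivial (g : fpPart α P) : twist g (1 : P →* ℂˣ) = 1 := MonoidHom.one_comp _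

theorem twist_injective (h : RegSylow r α P) {l : P →* ℂˣ} (hl : l ≠ 1) :
    Function.Injective fun g : fpPart α P => twist g l := by
  intro g g' e
  have e1 : twist g'⁻¹ (twist g l) = l := by
    rw [show twist g l = twist g' l from e, twist_twist, mul_inv_cancel, twist_one]
  rw [twist_twist] at e1
  by_contra hne
  refine hl (h.eq_one_of_fixed (g * g'⁻¹ : fpPart α P).2.1 (g * g'⁻¹ : fpPart α P).2.2 (fun e2 => hne ?_) l
    fun p => DFunLike.congr_fun e1 p)
  exact mul_inv_eq_one.1 (Subtype.ext e2)

open Classical in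
/-- The orbit of a linear character. -/
noncomputable def twistOrbit (α : Ω) (l : P →* ℂˣ) : Finset (P →* ℂˣ) :=
  haveI := Fintype.ofFinite (fpPart α P)
  Finset.univ.image fun g : fpPart α P => twist g l

theorem mem_twistOrbit {l l' : P →* ℂˣ} : l' ∈ twistOrbit α l ↔ ∃ g : fpPart α P, twist g l = l' := by
  simp [twistOrbit]

theorem card_twistOrbit (h : RegSylow r α P) {l : P →* ℂˣ} (hl : l ≠ 1) :
    (twistOrbit α l).card = Nat.card (fpPart α P) := by
  classical
  rw [twistOrbit, Finset.card_image_of_injective _ (twist_injective h hl)]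
  exact (@Fintype.card_eq_nat_card _ (_))

theorem mult_twist [Fintype P] (ψ : IrrCharacter K) (g : fpPart α P) (l : P →* ℂˣ) :
    mult P ψ (twist g l) = mult P ψ l := mult_comp_conjHom P ψ g g.2.2 l

/-- Two characters in different orbits differ in exactly two irreducible characters. -/
theorem sum_sq_mult_sub [Fintype P] (h : RegSylow r α P) {l μ : P →* ℂˣ} (hl : l ≠ 1) (hμ : μ ≠ 1)
    (hne : μ ∉ twistOrbit α l) :
    ∑ ψ : IrrCharacter K, ((mult P ψ l : ℤ) - (mult P ψ μ : ℤ)) ^ 2 = 2 := by
  classical
  haveI := Fintype.ofFinite (fpPart α P)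
  set θ : P → ℂ := fun p => (l p : ℂ) - (μ p : ℂ) with hθ
  set F := indFun P θ with hF
  have hFcl : IsClassFunction K F := isClassFunction_indFun P θ
  have hval : ∀ x : P, F x = ∑ g : fpPart α P, ((twist g l x : ℂ) - (twist g μ x : ℂ)) := by
    intro x
    by_cases hx : x = 1
    · subst hx
      rw [OneMemClass.coe_one, hF, indFun_one_eq]
      simp [hθ]
    · have hx1 : (x : K) ≠ 1 := fun e => hx (Subtype.ext e)
      let e : P × fpPart α P → K := fun q => (q.1 : K) * (q.2 : K)⁻¹
      have he : Function.Injective e := by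
        rintro ⟨p, g⟩ ⟨p', g'⟩ hpg
        simp only [e] at hpg
        have h1 : (p' : K)⁻¹ * p ∈ P ⊓ stabilizer K α := by
          refine Subgroup.mem_inf.2 ⟨mul_mem (inv_mem p'.2) p.2, ?_⟩
          rw [show (p' : K)⁻¹ * p = (g' : K)⁻¹ * g by
            calc (p' : K)⁻¹ * p = (p' : K)⁻¹ * ((p : K) * (g : K)⁻¹) * g := by group
              _ = (g' : K)⁻¹ * g := by rw [hpg]; group]
          exact mul_mem (inv_mem g'.2.1) g.2.1
        rw [h.bot, Subgroup.mem_bot, inv_mul_eq_one] at h1
        rw [h1] at hpg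
        exact Prod.ext (Subtype.ext h1.symm) (Subtype.ext (inv_injective (mul_left_cancel hpg)))
      have hterm : ∀ q : P × fpPart α P,
          extendByZero P θ ((e q)⁻¹ * (x : K) * e q) = (twist q.2 l x : ℂ) - (twist q.2 μ x : ℂ) := by
        rintro ⟨p, g⟩
        rw [show (e (p, g))⁻¹ * (x : K) * e (p, g) = (conjHom P g g.2.2 x : K) by
          rw [conjHom_apply]
          calc ((p : K) * (g : K)⁻¹)⁻¹ * x * ((p : K) * (g : K)⁻¹)
              = (g : K) * ((p : K)⁻¹ * ((x : K) * p)) * (g : K)⁻¹ := by group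
            _ = _ := by rw [h.comm _ x.2 _ p.2, inv_mul_cancel_left], extendByZero_coe]
        rfl
      have hsum : ∑ y : K, extendByZero P θ (y⁻¹ * (x : K) * y) =
          ∑ q : P × fpPart α P, extendByZero P θ ((e q)⁻¹ * (x : K) * e q) := by
        rw [← Finset.sum_image (f := fun y => extendByZero P θ (y⁻¹ * (x : K) * y)) (fun a _ b _ hab => he hab)]
        refine (Finset.sum_subset (Finset.subset_univ _) fun y _ hy => ?_).symm
        by_contra hy0
        have hmem : y⁻¹ * (x : K) * y ∈ P := by
          by_contra hn; exact hy0 (extendByZero_of_not_mem θ hn)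
        have hyN : y ∈ Subgroup.normalizer (P : Set K) := by
          have := h.mem_normalizer_of_conj x.2 hx1 (g := y⁻¹) (by rwa [inv_inv])
          simpa using inv_mem this
        obtain ⟨p, hp, hq⟩ := h.mem_of_normalizer hyN
        exact hy (Finset.mem_image.2 ⟨(⟨p, hp⟩, ⟨p⁻¹ * y, hq⟩⁻¹), Finset.mem_univ _, by simp [e]⟩)
      rw [hF]
      simp only [indFun]
      rw [hsum, Finset.sum_congr rfl (fun q _ => hterm q), Fintype.sum_prod_type]
      simp only [Finset.sum_const, Finset.card_univ, nsmul_eq_mul, ← Nat.card_eq_fintype_card]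
      rw [← mul_assoc, inv_mul_cancel₀ natCard_ne_zero, one_mul]
  -- Parseval
  have hcoef : ∀ ψ : IrrCharacter K,
      classInner F (ψ : K → ℂ) = (((mult P ψ l : ℤ) - (mult P ψ μ : ℤ) : ℤ) : ℂ) := by
    intro ψ
    rw [hF, classInner_indFun_left P θ _ (irr_isClassFunction ψ)]
    have e1 : ∀ ν : P →* ℂˣ, classInner (fun p : P => (ν p : ℂ)) (fun p : P => (ψ : K → ℂ) p) = (mult P ψ ν : ℂ) := by
      intro ν
      rw [← conj_classInner, ← multInner, multInner_irr, Complex.conj_natCast]
    rw [show θ = (fun p : P => (l p : ℂ)) - (fun p : P => (μ p : ℂ)) from rfl, classInner_sub_left, e1, e1]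
    push_cast; rfl
  have hnorm : classInner F F = 2 := by
    rw [hF, classInner_indFun_left P θ _ hFcl]
    rw [show (fun p : P => indFun P θ p) = ∑ g : fpPart α P,
        ((fun p : P => (twist g l p : ℂ)) - fun p : P => (twist g μ p : ℂ)) by
      funext p; rw [← hF, hval p]; simp [Finset.sum_apply]]
    rw [classInner_sum_right, show θ = (fun p : P => (l p : ℂ)) - (fun p : P => (μ p : ℂ)) from rfl]
    simp only [classInner_sub_left, classInner_sub_right, classInner_lin]
    have e2 : ∀ (ν : P →* ℂˣ), ν ≠ 1 → ∀ g : fpPart α P, (ν = twist g ν ↔ g = 1) := fun ν hν g =>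
      ⟨fun e => twist_injective h hν (show twist g ν = twist 1 ν by rw [twist_one]; exact e.symm),
        fun e => by rw [e, twist_one]⟩
    have e3 : ∀ g : fpPart α P, l ≠ twist g μ := fun g e => hne (mem_twistOrbit.2 ⟨g⁻¹, by
      rw [e, twist_twist, mul_inv_cancel, twist_one]⟩)
    have e4 : ∀ g : fpPart α P, μ ≠ twist g l := fun g e => hne (mem_twistOrbit.2 ⟨g, e.symm⟩)
    simp only [e3, e4, e2 l hl, e2 μ hμ, if_false, sub_zero, zero_sub, sub_neg_eq_add, Finset.sum_add_distrib,
      Finset.sum_ite_eq', Finset.mem_univ, if_true]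
    norm_num
  rw [classInner_eq_sum_mul_conj hFcl hFcl] at hnorm
  simp only [hcoef, map_intCast] at hnorm
  have h2 : ((∑ ψ : IrrCharacter K, ((mult P ψ l : ℤ) - (mult P ψ μ : ℤ)) ^ 2 : ℤ) : ℂ) = ((2 : ℤ) : ℂ) := by
    push_cast at hnorm ⊢
    rw [← hnorm]
    exact Finset.sum_congr rfl fun ψ _ => by ring
  exact_mod_cast h2

end Cfsg.Agent.Lib.DerangedIndex
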