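import Cfsg.Agent.Lib.DerangedIndex.Basic
import Cfsg.Agent.Lib.PGroup.Frattini

/-!
# Reduction to a regular elementary abelian Sylow subgroup of `D`
-/

set_option autoImplicit false
set_option linter.unusedSectionVars false

namespace Cfsg.Agent.Lib.DerangedIndex

open MulAction
open scoped Pointwise commutatorElement

variable {G : Type*} [Group G] [Finite G]

theorem card_map_conj (g : G) (Q : Subgroup G) :
    Nat.card (Q.map (MulAut.conj g).toMonoidHom : Subgroup G) = Nat.card Q :=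
  Subgroup.card_map_of_injective (MulAut.conj g).injective

theorem exists_max_pgroup (r : ℕ) (E : Subgroup G) :
    ∃ Q : Subgroup G, IsPGroup r Q ∧ Q ≤ E ∧
      ∀ Q' : Subgroup G, IsPGroup r Q' → Q' ≤ E → Nat.card Q' ≤ Nat.card Q := by
  obtain ⟨Q, hQ, hmax⟩ := Set.exists_max_image {Q : Subgroup G | IsPGroup r Q ∧ Q ≤ E}
    (fun Q => Nat.card Q) (Set.toFinite _) ⟨⊥, IsPGroup.of_bot, bot_le⟩
  exact ⟨Q, hQ.1, hQ.2, fun Q' h h' => hmax Q' ⟨h, h'⟩⟩

theorem exists_conj_of_max {r : ℕ} [Fact r.Prime] {E Q Q' : Subgroup G} (hQ : IsPGroup r Q) (hQE : Q ≤ E)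
    (hmax : ∀ R : Subgroup G, IsPGroup r R → R ≤ E → Nat.card R ≤ Nat.card Q)
    (hQ' : IsPGroup r Q') (hQE' : Q' ≤ E) (hcard : Nat.card Q ≤ Nat.card Q') :
    ∃ e ∈ E, Q' = Q.map (MulAut.conj e).toMonoidHom := by
  have key : ∀ R : Subgroup G, IsPGroup r R → R ≤ E → Nat.card Q ≤ Nat.card R →
      ∃ S : Sylow r E, (S : Subgroup E).map E.subtype = R := by
    intro R hR hRE hc
    obtain ⟨S, hS⟩ := (hR.comap_of_injective E.subtype E.subtype_injective).exists_le_sylow
    refine ⟨S, (Subgroup.eq_of_le_of_card_ge ?_ ?_).symm⟩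
    · intro x hx
      exact ⟨⟨x, hRE hx⟩, hS (by exact hx), rfl⟩
    · exact le_trans (hmax _ (S.2.map _) (Subgroup.map_subtype_le _)) hc
  obtain ⟨S, hS⟩ := key Q hQ hQE le_rfl
  obtain ⟨S', hS'⟩ := key Q' hQ' hQE' hcard
  obtain ⟨e, he⟩ := MulAction.exists_smul_eq E S S'
  refine ⟨e, e.2, ?_⟩
  rw [← hS', ← hS, ← he, Subgroup.map_map,
    show ((e • S : Sylow r E) : Subgroup E) = (S : Subgroup E).map (MulAut.conj e).toMonoidHom from rfl,
    Subgroup.map_map]
  rfl

/-- The Frattini argument for a subgroup of maximal `r`-power order. -/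
theorem le_sup_normalizer {r : ℕ} [Fact r.Prime] {E T Q : Subgroup G} (hET : E ≤ T)
    (hTn : T ≤ Subgroup.normalizer (E : Set G)) (hQ : IsPGroup r Q) (hQE : Q ≤ E)
    (hmax : ∀ R : Subgroup G, IsPGroup r R → R ≤ E → Nat.card R ≤ Nat.card Q) :
    T ≤ E ⊔ (T ⊓ Subgroup.normalizer (Q : Set G)) := by
  intro t ht
  obtain ⟨e, he, heq⟩ := exists_conj_of_max hQ hQE hmax (hQ.map (MulAut.conj t).toMonoidHom)
    (by rintro _ ⟨q, hq, rfl⟩; exact (Subgroup.mem_normalizer_iff.1 (hTn ht) q).1 (hQE hq))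
    (card_map_conj t Q).ge
  have hn : e⁻¹ * t ∈ Subgroup.normalizer (Q : Set G) := by
    rw [Subgroup.mem_normalizer_iff]
    intro q
    have h1 : t * q * t⁻¹ ∈ Q.map (MulAut.conj t).toMonoidHom ↔ q ∈ Q := by
      exact Subgroup.mem_map_iff_mem (f := (MulAut.conj t).toMonoidHom) (MulAut.conj t).injective
    rw [← h1, heq, Subgroup.mem_map_equiv, MulAut.conj_symm_apply]
    simp [mul_assoc]
  rw [show t = e * (e⁻¹ * t) by group]
  exact Subgroup.mul_mem _ (Subgroup.mem_sup_left he)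
    (Subgroup.mem_sup_right (Subgroup.mem_inf.2 ⟨mul_mem (inv_mem (hET he)) ht, hn⟩))

variable {X : Type*} [MulAction G X] [Finite X]

theorem card_orbit_mul_card_inf (P : Subgroup G) (x : X) :
    (orbit P x).ncard * Nat.card (P ⊓ stabilizer G x : Subgroup G) = Nat.card P := by
  rw [← relIndex_stabilizer P x, ← Subgroup.inf_relIndex_right, inf_comm,
    ← Nat.card_congr (Subgroup.subgroupOfEquivOfLe (inf_le_left : P ⊓ stabilizer G x ≤ P)).toEquiv]
  exact Subgroup.index_mul_card _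

/-- An `r`-subgroup `P` of `D` meeting a point stabiliser in the largest possible order, whose normaliser in
that stabiliser covers `G / D`. -/
def Good (D : Subgroup G) (r : ℕ) (X : Type*) [MulAction G X] (P : Subgroup G) : Prop :=
  IsPGroup r P ∧ P ≤ D ∧ ∃ α : X,
    (∀ Q : Subgroup G, IsPGroup r Q → Q ≤ D ⊓ stabilizer G α →
      Nat.card Q ≤ Nat.card (P ⊓ stabilizer G α : Subgroup G)) ∧
    D ⊔ (stabilizer G α ⊓ Subgroup.normalizer (P : Set G)) = ⊤

variable (D : Subgroup G) [D.Normal]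

theorem sup_stabilizer [IsPretransitive D X] (a : X) : D ⊔ stabilizer G a = ⊤ := by
  refine eq_top_iff.2 fun g _ => ?_
  obtain ⟨d, hd⟩ := exists_smul_eq D a (g • a)
  have h1 : (d : G)⁻¹ * g ∈ stabilizer G a := by
    rw [mem_stabilizer_iff, mul_smul, inv_smul_eq_iff]; exact hd.symm
  rw [show g = (d : G) * ((d : G)⁻¹ * g) by group]
  exact Subgroup.mul_mem _ (Subgroup.mem_sup_left d.2) (Subgroup.mem_sup_right h1)

theorem conj_stabilizer_le {Q : Subgroup G} {x y : X} {d : G} (hdy : d • x = y) (hQ : Q ≤ D ⊓ stabilizer G x) :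
    Q.map (MulAut.conj d).toMonoidHom ≤ D ⊓ stabilizer G y := by
  rintro _ ⟨q, hq, rfl⟩
  refine ⟨Subgroup.Normal.conj_mem inferInstance _ (hQ hq).1 d, ?_⟩
  show (d * q * d⁻¹) • y = y
  rw [mul_smul, mul_smul, ← hdy, inv_smul_smul, (hQ hq).2]

/-- A good subgroup which is not a Sylow subgroup of `D` lies in a bigger good one. -/
theorem Good.exists_gt {r : ℕ} [Fact r.Prime]
    (hOne : ∀ g : G, g ∉ D → ∀ a b : X, g • a = a → g • b = b → a = b)
    {P : Subgroup G} (hP : Good D r X P)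
    (hlt : ∃ R : Subgroup G, IsPGroup r R ∧ R ≤ D ∧ Nat.card P < Nat.card R) :
    ∃ Q : Subgroup G, Good D r X Q ∧ Nat.card P < Nat.card Q := by
  obtain ⟨hPr, hPD, α, hmax, hcov⟩ := hP
  set T : Subgroup G := Subgroup.normalizer (P : Set G) with hT
  set E : Subgroup G := D ⊓ T with hE
  have hPE : P ≤ E := le_inf hPD Subgroup.le_normalizer
  -- a bigger `r`-subgroup of `E`
  obtain ⟨K, hKr, hKE, hKc⟩ : ∃ K : Subgroup G, IsPGroup r K ∧ K ≤ E ∧ Nat.card P < Nat.card K := by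
    obtain ⟨R, hR, hRD, hRc⟩ := hlt
    obtain ⟨i, hi⟩ := IsPGroup.iff_card.1 hPr
    obtain ⟨j, hj⟩ := IsPGroup.iff_card.1 hR
    rw [hi, hj] at hRc
    have hij : i < j := (Nat.pow_lt_pow_iff_right (Fact.out : r.Prime).one_lt).1 hRc
    have hdvd : r ^ (i + 1) ∣ Nat.card D :=
      (pow_dvd_pow r hij).trans (hj ▸ Subgroup.card_dvd_of_le hRD)
    obtain ⟨K, hK, hPK⟩ := Sylow.exists_subgroup_card_pow_succ hdvd
      (H := P.subgroupOf D) (by rw [Nat.card_congr (Subgroup.subgroupOfEquivOfLe hPD).toEquiv, hi])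
    have hK' : Nat.card (K.map D.subtype) = r ^ (i + 1) := by
      rw [Subgroup.card_map_of_injective D.subtype_injective, hK]
    have hPK' : P ≤ K.map D.subtype := fun x hx => ⟨⟨x, hPD hx⟩, hPK (by exact hx), rfl⟩
    refine ⟨K.map D.subtype, IsPGroup.of_card hK', le_inf (Subgroup.map_subtype_le _) ?_, ?_⟩
    · have hidx : (P.subgroupOf (K.map D.subtype)).index = r := by
        have h := Subgroup.index_mul_card (P.subgroupOf (K.map D.subtype))
        rw [Nat.card_congr (Subgroup.subgroupOfEquivOfLe hPK').toEquiv, hi, hK', pow_succ'] at h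
        exact Nat.eq_of_mul_eq_mul_right (pow_pos (Fact.out : r.Prime).pos i) h
      haveI : (P.subgroupOf (K.map D.subtype)).Normal := Subgroup.normal_of_index_eq_minFac_card (by
        rw [hidx, hK', (Fact.out : r.Prime).pow_minFac (Nat.succ_ne_zero i)])
      exact Subgroup.le_normalizer_of_normal_subgroupOf hPK'
    · rw [hK', hi]; exact Nat.pow_lt_pow_right (Fact.out : r.Prime).one_lt (Nat.lt_succ_self i)
  obtain ⟨Q, hQr, hQE, hQmax⟩ := exists_max_pgroup r E
  have hPQ : P ≤ Q := by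
    have h1 : IsPGroup r (Q ⊔ P : Subgroup G) := hQr.to_sup_of_normal_right' hPr (hQE.trans inf_le_right)
    have h2 := hQmax _ h1 (sup_le hQE hPE)
    exact le_sup_right.trans (Subgroup.eq_of_le_of_card_ge le_sup_left h2).ge
  have hPQc : Nat.card P < Nat.card Q := lt_of_lt_of_le hKc (hQmax K hKr hKE)
  have hTE : T ≤ Subgroup.normalizer (E : Set G) := by
    intro t ht
    rw [Subgroup.mem_normalizer_iff]
    intro x
    simp only [hE, Subgroup.mem_inf]
    refine and_congr ⟨fun h => Subgroup.Normal.conj_mem inferInstance _ h t, fun h => ?_⟩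
      ⟨fun h => mul_mem (mul_mem ht h) (inv_mem ht), fun h => ?_⟩
    · have := Subgroup.Normal.conj_mem (inferInstance : D.Normal) _ h t⁻¹
      simpa [mul_assoc] using this
    · have := mul_mem (mul_mem (inv_mem ht) h) ht
      simpa [mul_assoc] using this
  set Y : Subgroup G := T ⊓ Subgroup.normalizer (Q : Set G) with hY
  have hDY : D ⊔ Y = ⊤ := by
    have h1 : T ≤ E ⊔ Y := le_sup_normalizer inf_le_right hTE hQr hQE hQmax
    rw [eq_top_iff, ← hcov]
    exact sup_le le_sup_left ((inf_le_right.trans h1).trans (sup_le_sup_right inf_le_left _))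
  -- the orbit of `α`
  have hTO : ∀ t ∈ T, ∀ z ∈ orbit E α, t • z ∈ orbit E α := by
    rintro t ht _ ⟨e, rfl⟩
    have hte : t * e ∈ T := mul_mem ht e.2.2
    have hmem : t * e ∈ D ⊔ (stabilizer G α ⊓ T) := by rw [hcov]; trivial
    obtain ⟨d, hd, l, hl, hdl⟩ := Subgroup.mem_sup_of_normal_left.1 hmem
    refine ⟨⟨d, Subgroup.mem_inf.2 ⟨hd, ?_⟩⟩, ?_⟩
    · rw [show d = t * e * l⁻¹ by rw [← hdl]; group]
      exact mul_mem hte (inv_mem hl.2)
    · show d • α = t • (e : G) • α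
      rw [← mul_smul, ← hdl, mul_smul, hl.1]
  obtain ⟨β, hβ, hβcov⟩ : ∃ β ∈ orbit E α, D ⊔ (stabilizer G β ⊓ Subgroup.normalizer (Q : Set G)) = ⊤ := by
    by_cases hYD : Y ≤ D
    · refine ⟨α, mem_orbit_self α, ?_⟩
      rw [sup_eq_left.2 hYD] at hDY
      rw [hDY]; exact top_sup_eq _
    have hnorm : ∀ y : Y, ∀ z : X, (y : G) • orbit (Y ⊓ D : Subgroup G) z = orbit (Y ⊓ D : Subgroup G) ((y : G) • z) := by
      intro y z
      ext w
      constructor
      · rintro ⟨_, ⟨a, rfl⟩, rfl⟩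
        refine ⟨⟨y * a * (y : G)⁻¹, Subgroup.mem_inf.2 ⟨mul_mem (mul_mem y.2 a.2.1) (inv_mem y.2),
          Subgroup.Normal.conj_mem inferInstance _ a.2.2 y⟩⟩, ?_⟩
        show ((y : G) * a * (y : G)⁻¹) • (y : G) • z = (y : G) • (a : G) • z
        rw [mul_smul, mul_smul, inv_smul_smul]
      · rintro ⟨a, rfl⟩
        refine ⟨((y : G)⁻¹ * a * y) • z, ⟨⟨(y : G)⁻¹ * a * y, Subgroup.mem_inf.2 ⟨mul_mem (mul_mem (inv_mem y.2) a.2.1) y.2,
          by simpa using Subgroup.Normal.conj_mem (inferInstance : D.Normal) _ a.2.2 (y : G)⁻¹⟩⟩, rfl⟩, ?_⟩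
        show (y : G) • ((y : G)⁻¹ * a * y) • z = (a : G) • (y : G) • z
        rw [← mul_smul, ← mul_smul]; group
    have hfix : ∀ y : Y, (y : G) ∉ D → ∀ z ∈ orbit E α,
        (y : G) • orbit (Y ⊓ D : Subgroup G) z = orbit (Y ⊓ D : Subgroup G) z →
        ∃ w ∈ orbit (Y ⊓ D : Subgroup G) z, (y : G) • w = w := by
      intro y hy z _ h
      refine exists_fixed_in_orbit D _ hOne inf_le_right hy (fun a ha => Subgroup.mem_inf.2 ⟨mul_mem (mul_mem y.2 ha.1) (inv_mem y.2),
        Subgroup.Normal.conj_mem inferInstance _ ha.2 y⟩) z ?_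
      rw [← h]
      exact Set.smul_mem_smul_set (mem_orbit_self z)
    obtain ⟨o, ⟨β, hβ, rfl⟩, ho⟩ := exists_fixed_of_unique (X := Set X) (Y := Y) (D.subgroupOf Y)
      (fun h => hYD (Subgroup.subgroupOf_eq_top.1 h))
      ((fun z => orbit (Y ⊓ D : Subgroup G) z) '' orbit E α)
      (by rintro y _ ⟨z, hz, rfl⟩; exact ⟨(y : G) • z, hTO y y.2.1 z hz, (hnorm y z).symm⟩)
      (by
        rintro ⟨e, he⟩ heD _ ⟨z, -, rfl⟩
        exact smul_orbit (⟨e, he, heD⟩ : (Y ⊓ D : Subgroup G)) z)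
      (by
        intro y hy
        obtain ⟨z, hz, hyz⟩ := exists_fixed_in_orbit D E hOne inf_le_left hy
          (fun p hp => (Subgroup.mem_normalizer_iff.1 (hTE y.2.1) p).1 hp) α (hTO y y.2.1 α (mem_orbit_self α))
        refine ⟨_, ⟨z, hz, rfl⟩, ?_⟩
        show (y : G) • orbit (Y ⊓ D : Subgroup G) z = orbit (Y ⊓ D : Subgroup G) z
        rw [hnorm, show (y : G) • z = z from hyz])
      (by
        rintro y hy _ ⟨z, hz, rfl⟩ _ ⟨z', hz', rfl⟩ h h'
        obtain ⟨w, hw, hyw⟩ := hfix y hy z hz h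
        obtain ⟨w', hw', hyw'⟩ := hfix y hy z' hz' h'
        have := hOne _ hy w w' hyw hyw'
        subst this
        exact (orbit_eq_iff.2 hw).symm.trans (orbit_eq_iff.2 hw'))
    refine ⟨β, hβ, eq_top_iff.2 (hDY ▸ sup_le le_sup_left fun y hy => ?_)⟩
    have h1 : (y : G) • orbit (Y ⊓ D : Subgroup G) β = orbit (Y ⊓ D : Subgroup G) β := ho ⟨y, hy⟩
    have h2 : y • β ∈ orbit (Y ⊓ D : Subgroup G) β := by
      rw [← h1]; exact Set.smul_mem_smul_set (mem_orbit_self β)
    obtain ⟨a, ha⟩ := h2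
    have ha : (a : G) • β = y • β := ha
    rw [show y = (a : G) * ((a : G)⁻¹ * y) by group]
    refine Subgroup.mul_mem _ (Subgroup.mem_sup_left a.2.2) (Subgroup.mem_sup_right (Subgroup.mem_inf.2 ⟨?_, ?_⟩))
    · show ((a : G)⁻¹ * y) • β = β
      rw [mul_smul, ← ha, inv_smul_smul]
    · exact mul_mem (inv_mem a.2.1.2) hy.2
  refine ⟨Q, ⟨hQr, hQE.trans inf_le_left, β, fun R hR hRβ => ?_, hβcov⟩, hPQc⟩
  obtain ⟨e, he⟩ := hβ
  have he : (e : G) • α = β := he
  have h1 := hmax _ (hR.map (MulAut.conj (e : G)⁻¹).toMonoidHom)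
    (conj_stabilizer_le D (inv_smul_eq_iff.2 he.symm) hRβ)
  rw [card_map_conj, ← card_map_conj (e : G) (P ⊓ stabilizer G α)] at h1
  refine h1.trans (Subgroup.card_le_of_le ?_)
  rintro _ ⟨p, hp, rfl⟩
  refine ⟨hPQ ((Subgroup.mem_normalizer_iff.1 e.2.2 p).1 hp.1), ?_⟩
  show ((e : G) * p * (e : G)⁻¹) • β = β
  rw [mul_smul, mul_smul, ← he, inv_smul_smul, hp.2]

/-- Either the bound holds, or `D` has a regular elementary abelian Sylow subgroup normalised by a covering
subgroup of a point stabiliser. -/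
theorem exists_regular [Nonempty X] [FaithfulSMul G X] [IsPretransitive D X] {r : ℕ} [Fact r.Prime] (hr : r ∣ Nat.card X)
    (hOne : ∀ g : G, g ∉ D → ∀ a b : X, g • a = a → g • b = b → a = b) :
    (D.index + 1) ^ 2 ≤ Nat.card X ∨
    ∃ (P : Subgroup G) (α : X), P ≤ D ∧ (∀ a ∈ P, ∀ b ∈ P, a * b = b * a) ∧ (∀ a ∈ P, a ^ r = 1) ∧
      (∀ x : X, ∃ p ∈ P, p • α = x) ∧ P ⊓ stabilizer G α = ⊥ ∧
      (∀ Q : Subgroup G, IsPGroup r Q → Q ≤ D → Nat.card Q ≤ Nat.card P) ∧
      (∀ Q : Subgroup G, IsPGroup r Q → Q ≤ D ⊓ stabilizer G α → Q = ⊥) ∧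
      D ⊔ (stabilizer G α ⊓ Subgroup.normalizer (P : Set G)) = ⊤ := by
  obtain ⟨α₀⟩ := (inferInstance : Nonempty X)
  -- a good subgroup of maximal order
  obtain ⟨P₀, hP₀r, hP₀E, hP₀max⟩ := exists_max_pgroup r (D ⊓ stabilizer G α₀)
  have hgood : Good D r X P₀ := by
    refine ⟨hP₀r, hP₀E.trans inf_le_left, α₀, fun Q hQ hQE => ?_, ?_⟩
    · rw [inf_eq_left.2 (hP₀E.trans inf_le_right)]; exact hP₀max Q hQ hQE
    · have hTn : stabilizer G α₀ ≤ Subgroup.normalizer ((D ⊓ stabilizer G α₀ : Subgroup G) : Set G) := by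
        intro t ht
        rw [Subgroup.mem_normalizer_iff]
        intro x
        refine ⟨fun h => conj_stabilizer_le D (Q := Subgroup.zpowers x) ht (Subgroup.zpowers_le.2 h)
          ⟨x, Subgroup.mem_zpowers x, rfl⟩, fun h => ?_⟩
        have h1 := conj_stabilizer_le D (Q := Subgroup.zpowers (t * x * t⁻¹))
          (inv_smul_eq_iff.2 (ht : t • α₀ = α₀).symm) (Subgroup.zpowers_le.2 h)
          ⟨_, Subgroup.mem_zpowers _, rfl⟩
        simpa [mul_assoc] using h1
      have h1 := le_sup_normalizer inf_le_right hTn hP₀r hP₀E hP₀max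
      rw [eq_top_iff, ← sup_stabilizer D α₀]
      exact sup_le le_sup_left (h1.trans (sup_le_sup_right inf_le_left _))
  obtain ⟨P, hP, hPmax⟩ := Set.exists_max_image {P : Subgroup G | Good D r X P}
    (fun P => Nat.card P) (Set.toFinite _) ⟨P₀, hgood⟩
  have hsyl : ∀ Q : Subgroup G, IsPGroup r Q → Q ≤ D → Nat.card Q ≤ Nat.card P := by
    intro Q hQ hQD
    by_contra hlt
    obtain ⟨Q', hQ', hlt'⟩ := Good.exists_gt D hOne hP ⟨Q, hQ, hQD, not_le.1 hlt⟩
    exact absurd (hPmax Q' hQ') (not_le.2 hlt')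
  obtain ⟨hPr, hPD, α, hmax, hcov⟩ := hP
  set L := stabilizer G α ⊓ Subgroup.normalizer (P : Set G) with hL
  have hmove : ∃ p ∈ P, p • α ≠ α := by
    by_contra h
    push Not at h
    obtain ⟨i, hi⟩ := IsPGroup.iff_card.1 hPr
    have h1 : r ^ (i + 1) ∣ Nat.card D := by
      rw [pow_succ', ← hi, ← Subgroup.index_mul_card (stabilizer D α), index_stabilizer_of_transitive]
      refine Nat.mul_dvd_mul hr ?_
      rw [← Nat.card_congr (Subgroup.subgroupOfEquivOfLe hPD).toEquiv]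
      exact Subgroup.card_dvd_of_le fun p hp => h p hp
    obtain ⟨K, hK⟩ := Sylow.exists_subgroup_card_pow_prime r h1
    have := hsyl (K.map D.subtype) ((IsPGroup.of_card hK).map _) (Subgroup.map_subtype_le _)
    rw [Subgroup.card_map_of_injective D.subtype_injective, hK, hi] at this
    exact absurd this (not_le.2 (Nat.pow_lt_pow_right (Fact.out : r.Prime).one_lt (Nat.lt_succ_self i)))
  by_cases hint : ∃ x, x ∉ orbit P α
  · left
    refine bound_of_orbit D P L hOne hPD α (fun g hg => hg.1) inf_le_right hcov hmove hint fun x => ?_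
    obtain ⟨d, hd⟩ := exists_smul_eq D x α
    have h1 := hmax _ ((hPr.to_le inf_le_left).map (MulAut.conj (d : G)).toMonoidHom)
      (conj_stabilizer_le D hd (inf_le_inf_right _ hPD))
    rw [card_map_conj] at h1
    have h2 := card_orbit_mul_card_inf P x
    have h3 := card_orbit_mul_card_inf P α
    refine le_of_mul_le_mul_right ?_ (Nat.card_pos (α := (P ⊓ stabilizer G α : Subgroup G)))
    calc _ = (orbit P x).ncard * Nat.card (P ⊓ stabilizer G x : Subgroup G) := h3.trans h2.symm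
      _ ≤ _ := Nat.mul_le_mul_left _ h1
  push Not at hint
  set W := Subgroup.closure ({c | ∃ a ∈ P, ∃ b ∈ P, ⁅a, b⁆ = c} ∪ {c | ∃ a ∈ P, a ^ r = c}) with hW
  have hWP : W ≤ P := by
    rw [hW, Subgroup.closure_le]
    rintro _ (⟨a, ha, b, hb, rfl⟩ | ⟨a, ha, rfl⟩)
    · exact mul_mem (mul_mem (mul_mem ha hb) (inv_mem ha)) (inv_mem hb)
    · exact pow_mem ha r
  set R := (P ⊓ stabilizer G α) ⊔ W with hR
  have hRP : R ≤ P := sup_le inf_le_left hWP
  have hPn : ∀ p ∈ P, ∀ x ∈ R, p * x * p⁻¹ ∈ R := by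
    intro p hp x hx
    rw [show p * x * p⁻¹ = ⁅p, x⁆ * x by rw [commutatorElement_def]; group]
    exact mul_mem (Subgroup.mem_sup_right (Subgroup.subset_closure (Or.inl ⟨p, hp, x, hRP hx, rfl⟩))) hx
  have hRne : R ≠ P := by
    intro h
    obtain ⟨p, hp, hpα⟩ := hmove
    rcases eq_top_or_exists_le_coatom ((stabilizer G α).subgroupOf P) with htop | ⟨M, hM, hle⟩
    · exact hpα (Subgroup.subgroupOf_eq_top.1 htop hp)
    · have hsub : R ≤ M.map P.subtype := by
        refine sup_le (fun x hx => ⟨⟨x, hx.1⟩, hle hx.2, rfl⟩) ?_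
        rw [hW, Subgroup.closure_le]
        rintro _ (⟨a, ha, b, hb, rfl⟩ | ⟨a, ha, rfl⟩)
        · exact ⟨⁅(⟨a, ha⟩ : P), ⟨b, hb⟩⁆, PFrattini.commutator_le_of_isCoatom hPr hM
            (Subgroup.commutator_mem_commutator (Subgroup.mem_top _) (Subgroup.mem_top _)), rfl⟩
        · exact ⟨(⟨a, ha⟩ : P) ^ r, PFrattini.pow_mem_of_isCoatom hPr hM _, rfl⟩
      rw [h] at hsub
      refine hM.1 (eq_top_iff.2 fun x _ => ?_)
      obtain ⟨y, hy, hyx⟩ := hsub x.2
      exact Subtype.ext hyx ▸ hy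
  by_cases hRα : ∃ p ∈ R, p • α ≠ α
  · left
    refine bound_of_orbit D R L hOne (hRP.trans hPD) α (fun g hg => hg.1) ?_ hcov hRα ?_ fun x => ?_
    · intro g hg
      rw [Subgroup.mem_normalizer_iff]
      have key : ∀ g ∈ L, ∀ x ∈ R, g * x * g⁻¹ ∈ R := by
        intro g hg
        suffices R ≤ R.comap (MulAut.conj g).toMonoidHom from fun x hx => this hx
        have hgP : ∀ a ∈ P, g * a * g⁻¹ ∈ P := fun a ha => (Subgroup.mem_normalizer_iff.1 hg.2 a).1 ha
        refine sup_le (fun x hx => Subgroup.mem_sup_left ⟨hgP x hx.1, ?_⟩) ?_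
        · show (g * x * g⁻¹) • α = α
          rw [mul_smul, mul_smul, inv_smul_eq_iff.2 (hg.1 : g • α = α).symm, hx.2, hg.1]
        · rw [hW, Subgroup.closure_le]
          rintro _ (⟨a, ha, b, hb, rfl⟩ | ⟨a, ha, rfl⟩)
          · refine Subgroup.mem_sup_right (Subgroup.subset_closure (Or.inl ⟨_, hgP a ha, _, hgP b hb, ?_⟩))
            exact (map_commutatorElement (MulAut.conj g).toMonoidHom a b).symm
          · exact Subgroup.mem_sup_right (Subgroup.subset_closure (Or.inr ⟨_, hgP a ha,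
              (map_pow (MulAut.conj g).toMonoidHom a r).symm⟩))
      intro x
      refine ⟨key g hg x, fun h => ?_⟩
      simpa [mul_assoc] using key g⁻¹ (inv_mem hg) _ h
    · by_contra h
      push Not at h
      refine hRne (le_antisymm hRP fun p hp => ?_)
      obtain ⟨⟨q, hq⟩, hqα⟩ := h (p • α)
      have hqα : q • α = p • α := hqα
      rw [show p = q * (q⁻¹ * p) by group]
      refine mul_mem hq (Subgroup.mem_sup_left (Subgroup.mem_inf.2 ⟨mul_mem (inv_mem (hRP hq)) hp, ?_⟩))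
      show (q⁻¹ * p) • α = α
      rw [mul_smul, ← hqα, inv_smul_smul]
    · obtain ⟨⟨p, hp⟩, hpx⟩ := hint x
      have hpx : p • α = x := hpx
      refine le_of_le_of_eq le_rfl ?_
      have : orbit R x = p • orbit R α := by
        ext z
        constructor
        · rintro ⟨q, rfl⟩
          refine ⟨(p⁻¹ * q * p) • α, ⟨⟨p⁻¹ * q * p, ?_⟩, rfl⟩, ?_⟩
          · simpa using hPn p⁻¹ (inv_mem hp) q q.2
          · show p • (p⁻¹ * (q : G) * p) • α = (q : G) • x
            rw [← hpx, ← mul_smul, ← mul_smul]; group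
        · rintro ⟨_, ⟨q, rfl⟩, rfl⟩
          refine ⟨⟨p * q * p⁻¹, hPn p hp q q.2⟩, ?_⟩
          show (p * (q : G) * p⁻¹) • x = p • (q : G) • α
          rw [← hpx, mul_smul, mul_smul, inv_smul_smul]
      rw [this, ← Set.image_smul, Set.ncard_image_of_injective _ (MulAction.injective p)]
  push Not at hRα
  have hR1 : ∀ q ∈ R, q = 1 := by
    intro q hq
    refine eq_of_smul_eq_smul (α := X) fun x => ?_
    obtain ⟨⟨p, hp⟩, hpx⟩ := hint x
    have hpx : p • α = x := hpx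
    have h1 := hRα _ (show p⁻¹ * q * p ∈ R by simpa using hPn p⁻¹ (inv_mem hp) q hq)
    rw [one_smul, ← hpx]
    calc q • p • α = p • (p⁻¹ * q * p) • α := by rw [← mul_smul, ← mul_smul]; group
      _ = _ := by rw [h1]
  have hbot : P ⊓ stabilizer G α = ⊥ :=
    (Subgroup.eq_bot_iff_forall _).2 fun q hq => hR1 q (Subgroup.mem_sup_left hq)
  right
  refine ⟨P, α, hPD, fun a ha b hb => ?_, fun a ha => ?_, fun x => ?_, hbot, hsyl, fun Q hQ hQE => ?_, hcov⟩
  · exact commutatorElement_eq_one_iff_mul_comm.1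
      (hR1 _ (Subgroup.mem_sup_right (Subgroup.subset_closure (Or.inl ⟨a, ha, b, hb, rfl⟩))))
  · exact hR1 _ (Subgroup.mem_sup_right (Subgroup.subset_closure (Or.inr ⟨a, ha, rfl⟩)))
  · obtain ⟨⟨p, hp⟩, hpx⟩ := hint x
    exact ⟨p, hp, hpx⟩
  · have h := hmax Q hQ hQE
    rw [hbot, Subgroup.card_bot] at h
    exact Subgroup.eq_bot_of_card_le _ h

end Cfsg.Agent.Lib.DerangedIndex
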