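import Cfsg.Agent.Lib.DerangedIndex.Fix
import Cfsg.Agent.Lib.DerangedIndex.Reduce

/-!
# Counting tools for the linear case
-/

set_option autoImplicit false
set_option linter.unusedSectionVars false

namespace Cfsg.Agent.Lib.DerangedIndex

open MulAction

theorem sq_le_four_pow : ∀ k : ℕ, 2 ≤ k → ∀ d : ℕ, (k * d + 2) ^ 2 ≤ 4 * (d + 1) ^ k := by
  intro k hk d
  induction k, hk using Nat.le_induction with
  | base => ring_nf; omega
  | succ k hk ih =>
    have h1 : ((k + 1) * d + 2) ^ 2 ≤ (k * d + 2) ^ 2 * (d + 1) := by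
      have h2 : (2 * k + 1) * d + 4 ≤ (k * d + 2) ^ 2 := by
        nlinarith [Nat.zero_le (k * d * d), Nat.zero_le d, Nat.mul_le_mul_right (k * d) hk,
          Nat.mul_le_mul_right d hk]
      nlinarith [Nat.mul_le_mul_left d h2]
    calc ((k + 1) * d + 2) ^ 2 ≤ (k * d + 2) ^ 2 * (d + 1) := h1
      _ ≤ 4 * (d + 1) ^ k * (d + 1) := Nat.mul_le_mul_right _ ih
      _ = 4 * (d + 1) ^ (k + 1) := by ring

theorem bound_of_pow {m c k n : ℕ} (hk : 2 ≤ k) (hc : 1 ≤ c) (hm : 2 * m ≤ k * (c - 1)) (hn : c ^ k ≤ n) :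
    (m + 1) ^ 2 ≤ n := by
  obtain ⟨d, rfl⟩ : ∃ d, c = d + 1 := ⟨c - 1, by omega⟩
  rw [Nat.add_sub_cancel] at hm
  have h1 : (2 * m + 2) ^ 2 ≤ (k * d + 2) ^ 2 := Nat.pow_le_pow_left (by omega) 2
  have h2 := sq_le_four_pow k hk d
  nlinarith

theorem two_mul_card_le {L : Type*} [Group L] [Finite L] {A B : Subgroup L} (h : A < B) :
    2 * Nat.card A ≤ Nat.card B := by
  obtain ⟨k, hk⟩ := Subgroup.card_dvd_of_le h.le
  rcases k with _ | _ | k
  · rw [mul_zero] at hk; exact absurd hk Nat.card_pos.ne'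
  · exact absurd (Subgroup.eq_of_le_of_card_ge h.le (by rw [hk]; simp)) h.ne
  · rw [hk, mul_comm 2]; exact Nat.mul_le_mul_left _ (by omega)

variable {L V : Type*} [Group L] [Finite L] [CommGroup V] [Finite V] [MulDistribMulAction L V]

theorem fixPts_zpowers (x : L) : fixPts V (Subgroup.zpowers x : Set L) = fixPts V {x} := by
  refine le_antisymm (fixPts_anti (Set.singleton_subset_iff.2 (Subgroup.mem_zpowers x))) fun v hv b hb => ?_
  have h : Subgroup.zpowers x ≤ stabilizer L v := Subgroup.zpowers_le.2 (hv x rfl)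
  exact h hb

theorem fixPts_singleton_ne_bot {x : L} :
    fixPts V {x} ≠ ⊥ ↔ ∃ v : V, v ≠ 1 ∧ x • v = v := by
  rw [Ne, Subgroup.eq_bot_iff_forall]
  push Not
  exact ⟨fun ⟨v, hv, hv1⟩ => ⟨v, hv1, hv x rfl⟩, fun ⟨v, hv1, hv⟩ => ⟨v, fun b hb => by
    rw [Set.mem_singleton_iff] at hb; rw [hb, hv], hv1⟩⟩

theorem one_le_card_fixPts (B : Set L) : 1 ≤ Nat.card (fixPts V B) := Nat.card_pos

variable [FaithfulSMul L V]

/-- A normal non-trivial subgroup of an irreducible faithful group of operators fixes only `1`. -/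
theorem fixPts_normal (hirr : ∀ W : Subgroup V, (∀ g : L, ∀ w ∈ W, g • w ∈ W) → W = ⊥ ∨ W = ⊤)
    (N : Subgroup L) [N.Normal] (hN : N ≠ ⊥) : fixPts V (N : Set L) = ⊥ := by
  refine (hirr (fixPts V (N : Set L)) fun g w hw n hn => ?_).resolve_right fun h => hN ((Subgroup.eq_bot_iff_forall _).2 fun n hn =>
    eq_of_smul_eq_smul (α := V) fun w => ?_)
  · have h1 := hw (g⁻¹ * n * g) (by simpa using (inferInstance : N.Normal).conj_mem n hn g⁻¹)
    rw [mul_smul, mul_smul, inv_smul_eq_iff] at h1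
    exact h1
  · rw [one_smul]
    exact (show w ∈ fixPts V (N : Set L) by rw [h]; trivial) n hn

variable (H : Subgroup L)

theorem index_mul_orbit_le (hfpf : ∀ g : L, g ∉ H → ∀ v : V, g • v = v → v = 1) (Q : Subgroup L) (hQ : Q ≤ H)
    (s : Set V) (hs : ∀ g : L, ∀ v ∈ s, g • v ∈ s) {v : V} (hv : v ∈ s) (hv1 : v ≠ 1) :
    H.index * (orbit Q v).ncard ≤ s.ncard := by
  have := mul_le_ncard ⊤ H Q s (fun g _ => hs g) v hv
    (fun g _ h => by_contra fun hg => hv1 (hfpf g hg v h)) le_top hQ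
  rwa [Subgroup.relIndex_top_right] at this

/-- Counting pairs of an operator in an invariant set and a point fixed by it. -/
theorem count_le [DecidableEq L] [DecidableEq V] (hfpf : ∀ g : L, g ∉ H → ∀ v : V, g • v = v → v = 1)
    (Q : Subgroup L) (hQ : Q ≤ H) (σs : Finset L) (hσ : ∀ g : L, ∀ x ∈ σs, g * x * g⁻¹ ∈ σs) (c : ℕ)
    (hc : ∀ x ∈ σs, Nat.card (fixPts V {x}) ≤ c) {v : V} (hv : v ≠ 1) :
    H.index * (orbit Q v).ncard * (σs.filter fun x => x • v = v).card ≤ σs.card * (c - 1) := by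
  classical
  have := Fintype.ofFinite V
  set O : Finset V := (orbit L v).toFinset with hO
  have hO1 : ∀ w ∈ O, w ≠ 1 := by
    intro w hw h
    rw [hO, Set.mem_toFinset] at hw
    obtain ⟨g, rfl⟩ := hw
    exact hv (smul_left_cancel g (h.trans (smul_one g).symm))
  have h1 : ∑ w ∈ O, (σs.filter fun x => x • w = w).card = ∑ x ∈ σs, (O.filter fun w => x • w = w).card := by
    simp only [Finset.card_filter]
    exact Finset.sum_comm
  have h2 : ∀ x ∈ σs, (O.filter fun w => x • w = w).card ≤ c - 1 := by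
    intro x hx
    have h3 : (O.filter fun w => x • w = w).card ≤ ((fixPts V {x} : Set V).toFinset.erase 1).card := by
      refine Finset.card_le_card fun w hw => ?_
      rw [Finset.mem_filter] at hw
      refine Finset.mem_erase.2 ⟨hO1 w hw.1, Set.mem_toFinset.2 fun b hb => ?_⟩
      rw [Set.mem_singleton_iff] at hb
      rw [hb, hw.2]
    rw [Finset.card_erase_of_mem (Set.mem_toFinset.2 (one_mem (fixPts V {x}))), Set.toFinset_card,
      ← Nat.card_eq_fintype_card] at h3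
    exact h3.trans (Nat.sub_le_sub_right (hc x hx) 1)
  have h4 : ∀ w ∈ O, (σs.filter fun x => x • w = w).card = (σs.filter fun x => x • v = v).card := by
    intro w hw
    rw [hO, Set.mem_toFinset] at hw
    obtain ⟨g, rfl⟩ := hw
    refine Finset.card_bij' (fun x _ => g⁻¹ * x * g) (fun x _ => g * x * g⁻¹) ?_ ?_
      (fun x _ => by group) (fun x _ => by group)
    · intro x hx
      rw [Finset.mem_filter] at hx ⊢
      refine ⟨by simpa using hσ g⁻¹ x hx.1, ?_⟩
      rw [mul_smul, mul_smul, hx.2, inv_smul_smul]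
    · intro x hx
      rw [Finset.mem_filter] at hx ⊢
      refine ⟨hσ g x hx.1, ?_⟩
      show (g * x * g⁻¹) • g • v = g • v
      rw [mul_smul, mul_smul, inv_smul_smul, hx.2]
  rw [Finset.sum_congr rfl h4, Finset.sum_const, smul_eq_mul] at h1
  have h5 : H.index * (orbit Q v).ncard ≤ O.card := by
    rw [hO, ← Set.ncard_eq_toFinset_card']
    exact index_mul_orbit_le H hfpf Q hQ _ (fun g w hw => by
      obtain ⟨a, rfl⟩ := hw; exact ⟨g * a, mul_smul g a v⟩) (mem_orbit_self v) hv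
  calc H.index * (orbit Q v).ncard * (σs.filter fun x => x • v = v).card
      ≤ O.card * (σs.filter fun x => x • v = v).card := Nat.mul_le_mul_right _ h5
    _ = ∑ x ∈ σs, (O.filter fun w => x • w = w).card := h1
    _ ≤ ∑ _x ∈ σs, (c - 1) := Finset.sum_le_sum h2
    _ = σs.card * (c - 1) := by rw [Finset.sum_const, smul_eq_mul]

/-- A normal elementary abelian subgroup of order at least `s²` gives the bound. -/
theorem bound_of_elementary {s : ℕ} (hs : s.Prime) (hV : ∀ v : V, v ^ s = 1 → v = 1)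
    (hfpf : ∀ g : L, g ∉ H → ∀ v : V, g • v = v → v = 1)
    (hirr : ∀ W : Subgroup V, (∀ g : L, ∀ w ∈ W, g • w ∈ W) → W = ⊥ ∨ W = ⊤) {v₀ : V} (hv₀ : v₀ ≠ 1)
    (A : Subgroup L) [A.Normal] (hAH : A ≤ H) (hA : ∀ a ∈ A, ∀ b ∈ A, a * b = b * a)
    (hAs : ∀ a ∈ A, a ^ s = 1) {z x : L} (hz : z ∈ A) (hz1 : z ≠ 1) (hx : x ∈ A)
    (hxz : x ∉ Subgroup.zpowers z) : (H.index + 1) ^ 2 ≤ Nat.card V := by
  classical
  have := Fintype.ofFinite L
  have := Fintype.ofFinite V
  -- some element has fixed points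
  obtain ⟨a, haA, ha1, haf⟩ : ∃ a ∈ A, a ≠ 1 ∧ fixPts V {a} ≠ ⊥ := by
    by_contra hcon
    push Not at hcon
    have hzf : ∀ w : V, z • w = w → w = 1 := fun w hw => by
      by_contra hw1
      exact fixPts_singleton_ne_bot.2 ⟨w, hw1, hw⟩ (hcon z hz hz1)
    obtain ⟨i, w, -, hw1, hw⟩ := exists_fixed_of_pair hs hV (hA x hx z hz) (hAs x hx) (hAs z hz) hzf ⊤
      (fun _ _ => trivial) (fun _ _ => trivial) (v := v₀) trivial hv₀
    refine fixPts_singleton_ne_bot.2 ⟨w, hw1, hw⟩ (hcon _ (mul_mem hx (pow_mem hz i)) fun h => hxz ?_)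
    rw [eq_inv_of_mul_eq_one_left h]
    exact inv_mem (pow_mem (Subgroup.mem_zpowers z) i)
  obtain ⟨B, ⟨hBA, hBne, hBfix⟩, hBmax⟩ := Set.exists_max_image
    {B : Subgroup L | B ≤ A ∧ B ≠ ⊥ ∧ fixPts V (B : Set L) ≠ ⊥} (fun B => Nat.card B) (Set.toFinite _)
    ⟨Subgroup.zpowers a, Subgroup.zpowers_le.2 haA, mt Subgroup.zpowers_eq_bot.1 ha1,
      by rwa [fixPts_zpowers]⟩
  set 𝔅 : Finset (Subgroup L) := Finset.univ.image fun g : L => B.map (MulAut.conj g).toMonoidHom with h𝔅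
  have hle : ∀ C ∈ 𝔅, C ≤ A := by
    intro C hC
    obtain ⟨g, -, rfl⟩ := Finset.mem_image.1 hC
    rintro _ ⟨b, hb, rfl⟩
    exact (inferInstance : A.Normal).conj_mem b (hBA hb) g
  have hcard : ∀ C ∈ 𝔅, Nat.card (fixPts V (C : Set L)) = Nat.card (fixPts V (B : Set L)) ∧
      Nat.card C = Nat.card B := by
    intro C hC
    obtain ⟨g, -, rfl⟩ := Finset.mem_image.1 hC
    exact ⟨card_fixPts_conj g B, card_map_conj g B⟩
  set c := Nat.card (fixPts V (B : Set L)) with hc
  have hc2 : 1 < c := (fixPts V (B : Set L)).one_lt_card_iff_ne_bot.2 hBfix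
  have hprod := prod_card_le (V := V) A (fun a ha b hb => hA a ha b hb) 𝔅 hle
    (fun C hC B' hB' hlt => by
      by_contra hne
      have hB'ne : B' ≠ ⊥ := fun h => by
        rw [h] at hlt; exact absurd hlt not_lt_bot
      have h1 := hBmax B' ⟨hB', hB'ne, hne⟩
      have h2 : Nat.card C < Nat.card B' := by
        have := two_mul_card_le hlt
        have := Nat.card_pos (α := C)
        omega
      rw [(hcard C hC).2] at h2
      exact absurd h1 (not_le.2 h2))
    (fun C hC h => by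
      have h1 := (hcard C hC).1
      rw [h, Subgroup.card_bot] at h1
      omega)
  rw [Finset.prod_congr rfl (fun C hC => (hcard C hC).1), Finset.prod_const] at hprod
  have hBmem : B ∈ 𝔅 := Finset.mem_image.2 ⟨1, Finset.mem_univ _, by rw [map_one]; exact Subgroup.map_id B⟩
  have hk : 2 ≤ 𝔅.card := by
    by_contra hk
    have hone : ∀ C ∈ 𝔅, C = B := fun C hC => Finset.card_le_one.1 (by omega) C hC B hBmem
    haveI : B.Normal := ⟨fun b hb g => by
      rw [← hone _ (Finset.mem_image.2 ⟨g, Finset.mem_univ _, rfl⟩)]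
      exact ⟨b, hb, rfl⟩⟩
    exact hBfix (fixPts_normal hirr B hBne)
  -- the union of the fixed subgroups
  set X : Finset V := 𝔅.biUnion fun C => (fixPts V (C : Set L) : Set V).toFinset.erase 1 with hX
  have hXc : X.card ≤ 𝔅.card * (c - 1) := by
    refine Finset.card_biUnion_le_card_mul _ _ _ fun C hC => ?_
    rw [Finset.card_erase_of_mem (Set.mem_toFinset.2 (one_mem (fixPts V (C : Set L)))), Set.toFinset_card,
      ← Nat.card_eq_fintype_card]
    exact (Nat.sub_le_sub_right (hcard C hC).1.le 1)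
  obtain ⟨v, hvB, hv1⟩ : ∃ v ∈ fixPts V (B : Set L), v ≠ 1 := by
    by_contra h; push Not at h; exact hBfix ((Subgroup.eq_bot_iff_forall _).2 h)
  have hm := index_mul_orbit_le H hfpf A hAH (X : Set V) (fun g w hw => by
    simp only [hX, Finset.mem_coe, Finset.mem_biUnion, Finset.mem_erase, Set.mem_toFinset] at hw ⊢
    obtain ⟨C, hC, hw1, hwf⟩ := hw
    obtain ⟨h, -, rfl⟩ := Finset.mem_image.1 hC
    refine ⟨_, Finset.mem_image.2 ⟨g * h, Finset.mem_univ _, rfl⟩,
      fun e => hw1 (smul_left_cancel g (e.trans (smul_one g).symm)), ?_⟩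
    have h2 : B.map (MulAut.conj (g * h)).toMonoidHom =
        (B.map (MulAut.conj h).toMonoidHom).map (MulAut.conj g).toMonoidHom := by
      rw [Subgroup.map_map, map_mul]; rfl
    rw [h2]
    exact (fixPts_conj g _ w).2 hwf)
    (v := v) (by
      simp only [hX, Finset.mem_coe, Finset.mem_biUnion, Finset.mem_erase, Set.mem_toFinset]
      exact ⟨B, hBmem, hv1, hvB⟩) hv1
  have horb : 1 < (orbit A v).ncard := by
    have hA1 : A ≠ ⊥ := fun h => hz1 (Subgroup.mem_bot.1 (h ▸ hz))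
    obtain ⟨b, hb, hbv⟩ : ∃ b ∈ A, b • v ≠ v := by
      by_contra h
      push Not at h
      have h1 : v ∈ fixPts V (A : Set L) := h
      rw [fixPts_normal hirr A hA1] at h1
      exact hv1 h1
    rw [Set.one_lt_ncard (Set.toFinite _)]
    exact ⟨_, ⟨⟨b, hb⟩, rfl⟩, _, mem_orbit_self v, hbv⟩
  rw [Set.ncard_coe_finset] at hm
  refine bound_of_pow hk hc2.le ?_ hprod
  calc 2 * H.index = H.index * 2 := mul_comm _ _
    _ ≤ H.index * (orbit A v).ncard := Nat.mul_le_mul_left _ horb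
    _ ≤ _ := hm.trans hXc

end Cfsg.Agent.Lib.DerangedIndex
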