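import Cfsg.Agent.Lib.DerangedIndex.Mult
import Cfsg.Agent.Lib.DerangedIndex.Tools

/-!
# Groups with a regular elementary abelian Sylow subgroup and fixed point free Sylow normaliser
-/

set_option autoImplicit false
set_option linter.unusedSectionVars false

namespace Cfsg.Agent.Lib.DerangedIndex

open MulAction
open scoped Pointwise ComplexConjugate

universe u v

/-- A transitive group with a regular abelian Sylow `r`-subgroup on which a point stabiliser's normaliser
part acts without fixed points. -/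
structure RegSylow (r : ℕ) {K : Type u} [Group K] {Ω : Type v} [MulAction K Ω] (α : Ω) (P : Subgroup K) : Prop where
  prime : r.Prime
  pgroup : IsPGroup r P
  comm : ∀ a ∈ P, ∀ b ∈ P, a * b = b * a
  reg : ∀ x : Ω, ∃ p ∈ P, p • α = x
  bot : P ⊓ stabilizer K α = ⊥
  syl : ∀ Q : Subgroup K, IsPGroup r Q → Nat.card Q ≤ Nat.card P
  gen : ∀ N : Subgroup K, N.Normal → P ≤ N → N = ⊤
  notNormal : ¬ P.Normal
  free : ∀ g : K, g • α = α → g ∈ Subgroup.normalizer (P : Set K) → g ≠ 1 → ∀ p ∈ P, g * p = p * g → p = 1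

variable {K : Type u} [Group K] [Finite K] {Ω : Type v} [MulAction K Ω] [Finite Ω] [FaithfulSMul K Ω]
  {r : ℕ} {α : Ω} {P : Subgroup K}

namespace RegSylow

theorem smul_inj (h : RegSylow r α P) {p q : K} (hp : p ∈ P) (hq : q ∈ P) (e : p • α = q • α) : p = q := by
  have h1 : q⁻¹ * p ∈ P ⊓ stabilizer K α := Subgroup.mem_inf.2 ⟨mul_mem (inv_mem hq) hp, by
    show (q⁻¹ * p) • α = α
    rw [mul_smul, e, inv_smul_smul]⟩
  rw [h.bot, Subgroup.mem_bot] at h1
  exact (inv_mul_eq_one.1 h1).symm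

theorem card_eq (h : RegSylow r α P) : Nat.card P = Nat.card Ω :=
  Nat.card_congr (Equiv.ofBijective (fun p : P => (p : K) • α)
    ⟨fun a b e => Subtype.ext (h.smul_inj a.2 b.2 e), fun x => by
      obtain ⟨p, hp, hx⟩ := h.reg x; exact ⟨⟨p, hp⟩, hx⟩⟩)

theorem pretransitive (h : RegSylow r α P) : IsPretransitive K Ω :=
  ⟨fun x y => by
    obtain ⟨p, -, rfl⟩ := h.reg x
    obtain ⟨q, -, rfl⟩ := h.reg y
    exact ⟨q * p⁻¹, by rw [mul_smul, inv_smul_smul]⟩⟩

/-- A subgroup of order prime to `r` normalised by `P` is trivial. -/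
theorem eq_bot_of_normalized (h : RegSylow r α P) (W : Subgroup K) (hW : ∀ p ∈ P, ∀ w ∈ W, p * w * p⁻¹ ∈ W)
    (hr : ¬ r ∣ Nat.card W) : W = ⊥ := by
  set O := orbit W α with hO
  have hsmul : ∀ p ∈ P, p • O = orbit W (p • α) := by
    intro p hp
    ext y
    constructor
    · rintro ⟨_, ⟨w, rfl⟩, rfl⟩
      refine ⟨⟨p * w * p⁻¹, hW p hp w w.2⟩, ?_⟩
      show (p * (w : K) * p⁻¹) • p • α = p • (w : K) • α
      rw [mul_smul, mul_smul, inv_smul_smul]
    · rintro ⟨w, rfl⟩
      refine ⟨(p⁻¹ * (w : K) * p) • α, ⟨⟨p⁻¹ * w * p, by simpa using hW p⁻¹ (inv_mem hp) w w.2⟩, rfl⟩, ?_⟩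
      show p • (p⁻¹ * (w : K) * p) • α = (w : K) • p • α
      rw [← mul_smul, ← mul_smul]; group
  have hcard : O.ncard = Nat.card (P ⊓ stabilizer K O : Subgroup K) := by
    rw [← Nat.card_coe_set_eq]
    refine (Nat.card_congr (Equiv.ofBijective
      (fun p : (P ⊓ stabilizer K O : Subgroup K) => (⟨(p : K) • α, by
        have := Set.smul_mem_smul_set (a := (p : K)) (mem_orbit_self (M := W) α)
        rwa [show (p : K) • orbit W α = orbit W α from p.2.2] at this⟩ : O))
      ⟨fun a b e => Subtype.ext (h.smul_inj a.2.1 b.2.1 (congrArg Subtype.val e)), fun y => ?_⟩)).symm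
    obtain ⟨p, hp, hy⟩ := h.reg y
    refine ⟨⟨p, hp, ?_⟩, Subtype.ext hy⟩
    show p • O = O
    rw [hsmul p hp, hy]
    exact orbit_eq_iff.2 y.2
  haveI := Fact.mk h.prime
  obtain ⟨i, hi⟩ := IsPGroup.iff_card.1 (h.pgroup.to_le (inf_le_left : P ⊓ stabilizer K O ≤ P))
  have hdvd := card_orbit_mul_card_inf W α
  rw [← hO, hcard, hi] at hdvd
  have hone : O.ncard = 1 := by
    rcases Nat.eq_zero_or_pos i with rfl | hpos
    · rw [hcard, hi, pow_zero]
    · exact absurd ((dvd_pow_self r hpos.ne').trans (Dvd.intro _ hdvd)) hr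
  rw [Subgroup.eq_bot_iff_forall]
  intro w hw
  refine eq_of_smul_eq_smul (α := Ω) fun x => ?_
  obtain ⟨p, hp, rfl⟩ := h.reg x
  obtain ⟨y, hy⟩ := Set.ncard_eq_one.1 hone
  have h1 : ∀ v ∈ W, v • α = α := fun v hv => by
    have e1 : v • α ∈ O := ⟨⟨v, hv⟩, rfl⟩
    have e2 : α ∈ O := mem_orbit_self α
    rw [hy, Set.mem_singleton_iff] at e1 e2
    rw [e1, ← e2]
  rw [one_smul]
  calc w • p • α = p • (p⁻¹ * w * p) • α := by rw [← mul_smul, ← mul_smul]; group
    _ = p • α := by rw [h1 _ (by simpa using hW p⁻¹ (inv_mem hp) w hw)]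

/-- The Sylow subgroup as a `Sylow`, inside a subgroup containing it. -/
theorem exists_sylow (h : RegSylow r α P) (C : Subgroup K) (hPC : P ≤ C) :
    ∃ S : Sylow r C, (S : Subgroup C) = P.subgroupOf C := by
  haveI := Fact.mk h.prime
  obtain ⟨S, hS⟩ := (h.pgroup.comap_of_injective C.subtype C.subtype_injective).exists_le_sylow
  refine ⟨S, (Subgroup.eq_of_le_of_card_ge hS ?_).symm⟩
  rw [show Nat.card (Subgroup.comap C.subtype P) = Nat.card P from
      Nat.card_congr (Subgroup.subgroupOfEquivOfLe hPC).toEquiv,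
    ← Subgroup.card_map_of_injective C.subtype_injective]
  exact h.syl _ (S.2.map _)

/-- Burnside's transfer: a subgroup containing `P` whose normaliser of `P` centralises `P` equals `P`. -/
theorem eq_of_normalizer_le (h : RegSylow r α P) (C : Subgroup K) (hPC : P ≤ C)
    (hN : ∀ g ∈ C, g ∈ Subgroup.normalizer (P : Set K) → g ∈ P) : C = P := by
  haveI := Fact.mk h.prime
  obtain ⟨S, hS⟩ := h.exists_sylow C hPC
  have hle : Subgroup.normalizer ((S : Subgroup C) : Set C) ≤ Subgroup.centralizer ((S : Subgroup C) : Set C) := by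
    rw [hS]
    intro g hg
    have hgP : (g : K) ∈ P := by
      refine hN g g.2 (Subgroup.mem_normalizer_iff.2 fun x => ?_)
      constructor
      · intro hx
        exact (Subgroup.mem_normalizer_iff.1 hg ⟨x, hPC hx⟩).1 hx
      · intro hx
        have hxC : x ∈ C := by
          have := mul_mem (mul_mem (inv_mem g.2) (hPC hx)) g.2
          simpa [mul_assoc] using this
        exact (Subgroup.mem_normalizer_iff.1 hg ⟨x, hxC⟩).2 hx
    rw [Subgroup.mem_centralizer_iff]
    intro y hy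
    have h1 : (y : K) * (g : K) = (g : K) * (y : K) :=
      h.comm (y : K) (Subgroup.mem_subgroupOf.1 hy) (g : K) hgP
    exact Subtype.ext h1
  set W := (MonoidHom.transferSylow S hle).ker with hW
  have hWbot : W.map C.subtype = ⊥ := by
    refine h.eq_bot_of_normalized _ ?_ ?_
    · rintro p hp _ ⟨w, hw, rfl⟩
      exact ⟨(⟨p, hPC hp⟩ : C) * w * (⟨p, hPC hp⟩ : C)⁻¹,
        (MonoidHom.normal_ker (MonoidHom.transferSylow S hle)).conj_mem w hw (⟨p, hPC hp⟩ : C), rfl⟩
    · rw [Subgroup.card_map_of_injective C.subtype_injective]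
      exact MonoidHom.not_dvd_card_ker_transferSylow S hle
  have hc := MonoidHom.ker_transferSylow_isComplement' S hle
  rw [Subgroup.map_eq_bot_iff_of_injective _ C.subtype_injective] at hWbot
  rw [← hW, hWbot, Subgroup.isComplement'_bot_left, hS, Subgroup.subgroupOf_eq_top] at hc
  exact le_antisymm hc hPC

theorem mem_of_normalizer (h : RegSylow r α P) {g : K} (hg : g ∈ Subgroup.normalizer (P : Set K)) :
    ∃ p ∈ P, p⁻¹ * g ∈ stabilizer K α ⊓ Subgroup.normalizer (P : Set K) := by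
  obtain ⟨p, hp, hpg⟩ := h.reg (g • α)
  refine ⟨p, hp, Subgroup.mem_inf.2 ⟨?_, mul_mem (inv_mem (Subgroup.le_normalizer hp)) hg⟩⟩
  show (p⁻¹ * g) • α = α
  rw [mul_smul, ← hpg, inv_smul_smul]

/-- The centraliser of a non-trivial element of `P` is `P`. -/
theorem centralizer_eq (h : RegSylow r α P) {x : K} (hx : x ∈ P) (hx1 : x ≠ 1) :
    Subgroup.centralizer {x} = P := by
  refine h.eq_of_normalizer_le _ (fun p hp => Subgroup.mem_centralizer_singleton_iff.2 (h.comm p hp x hx))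
    fun g hgc hgn => ?_
  obtain ⟨p, hp, hq⟩ := h.mem_of_normalizer hgn
  by_cases h1 : p⁻¹ * g = 1
  · rwa [← inv_mul_eq_one.1 h1]
  exfalso
  have hgx := Subgroup.mem_centralizer_singleton_iff.1 hgc
  refine hx1 (h.free _ hq.1 hq.2 h1 x hx ?_)
  calc p⁻¹ * g * x = p⁻¹ * x * g := by rw [mul_assoc, hgx, ← mul_assoc]
    _ = x * (p⁻¹ * g) := by rw [h.comm p⁻¹ (inv_mem hp) x hx, mul_assoc]

/-- `P` is a trivial intersection subgroup. -/
theorem mem_normalizer_of_conj (h : RegSylow r α P) {x g : K} (hx : x ∈ P) (hx1 : x ≠ 1)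
    (hgx : g * x * g⁻¹ ∈ P) : g ∈ Subgroup.normalizer (P : Set K) := by
  have hsub : P.map (MulAut.conj g).toMonoidHom ≤ P := by
    rintro _ ⟨p, hp, rfl⟩
    rw [← h.centralizer_eq hgx (fun e => hx1 (conj_eq_one_iff.1 e)), Subgroup.mem_centralizer_singleton_iff]
    show g * p * g⁻¹ * (g * x * g⁻¹) = g * x * g⁻¹ * (g * p * g⁻¹)
    calc g * p * g⁻¹ * (g * x * g⁻¹) = g * (p * x) * g⁻¹ := by group
      _ = g * x * g⁻¹ * (g * p * g⁻¹) := by rw [h.comm p hp x hx]; group
  have heq := Subgroup.eq_of_le_of_card_ge hsub (card_map_conj g P).ge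
  rw [Subgroup.mem_normalizer_iff]
  intro y
  conv_rhs => rw [← heq]
  exact (Subgroup.mem_map_iff_mem (f := (MulAut.conj g).toMonoidHom) (MulAut.conj g).injective).symm

/-- The fixed point free part of the normaliser is non-trivial. -/
theorem stab_normalizer_ne_bot (h : RegSylow r α P) : stabilizer K α ⊓ Subgroup.normalizer (P : Set K) ≠ ⊥ := by
  intro hbot
  have h1 : (⊤ : Subgroup K) = P := h.eq_of_normalizer_le ⊤ le_top fun g _ hg => by
    obtain ⟨p, hp, hq⟩ := h.mem_of_normalizer hg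
    rw [hbot, Subgroup.mem_bot, inv_mul_eq_one] at hq
    exact hq ▸ hp
  exact h.notNormal (h1 ▸ inferInstance)

/-- A non-trivial element of the fixed point free part fixes no non-trivial linear character. -/
theorem eq_one_of_fixed {A : Type*} [CommGroup A] (h : RegSylow r α P) {g : K} (hgα : g • α = α)
    (hgn : g ∈ Subgroup.normalizer (P : Set K)) (hg1 : g ≠ 1) (l : P →* A)
    (hl : ∀ p : P, l ⟨g * p * g⁻¹, (Subgroup.mem_normalizer_iff.1 hgn p).1 p.2⟩ = l p) : l = 1 := by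
  set c : P → P := fun p => (⟨g * p * g⁻¹, (Subgroup.mem_normalizer_iff.1 hgn p).1 p.2⟩ : P) * p⁻¹ with hc
  have hinj : Function.Injective c := by
    intro p q hpq
    have h1 : g * (p : K) * g⁻¹ * (p : K)⁻¹ = g * (q : K) * g⁻¹ * (q : K)⁻¹ := congrArg Subtype.val hpq
    have h2 : (p : K)⁻¹ * q ∈ P := mul_mem (inv_mem p.2) q.2
    refine Subtype.ext (inv_mul_eq_one.1 (h.free g hgα hgn hg1 _ h2 ?_))
    have h3 : g * (q : K) * g⁻¹ = g * (p : K) * g⁻¹ * ((p : K)⁻¹ * q) := by
      rw [← mul_assoc, h1, inv_mul_cancel_right]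
    calc g * ((p : K)⁻¹ * q) = (g * (p : K) * g⁻¹)⁻¹ * (g * (q : K) * g⁻¹) * g := by group
      _ = (p : K)⁻¹ * q * g := by rw [h3]; group
  refine MonoidHom.ext fun p => ?_
  obtain ⟨q, rfl⟩ := Finite.surjective_of_injective hinj p
  simp [hc, hl]

end RegSylow

end Cfsg.Agent.Lib.DerangedIndex
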